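import Cfsg.Agent.Lib.McLThreeLocal.Defs
import Cfsg.Agent.Lib.Cores.PCore
import Cfsg.Agent.Lib.ClassK.FStarCentralizer
import Cfsg.Agent.Lib.Mathieu.McLOut
import Cfsg.Agent.Lib.SchurMult.McLTwoFive.Bound

/-!
The big case of the 3-local characterization of McL: a group with a normal subgroup of index 2 falling
under the small case is the automorphism group of the McLaughlin group.
-/

set_option autoImplicit false

namespace CfsgLib.McLThreeLocal

open Subgroup

universe u

namespace Aut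

variable {G : Type u} [Group G]

/-- The trace in `G₀` of a subgroup, and the whole subgroup, have the same `3`-core when the latter's
core lies in `G₀`. -/
theorem core_trace [Finite G] {G₀ : Subgroup G} [G₀.Normal] (K : Subgroup G)
    (hP : (Cfsg.pCore 3 K).map K.subtype ≤ G₀) :
    ((Cfsg.pCore 3 (K.subgroupOf G₀)).map (K.subgroupOf G₀).subtype).map G₀.subtype =
      (Cfsg.pCore 3 K).map K.subtype := by
  let e : G₀.subgroupOf K ≃* K.subgroupOf G₀ :=
    { toFun := fun x => ⟨⟨(x : K), x.2⟩, (x : K).2⟩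
      invFun := fun x => ⟨⟨(x : G₀), x.2⟩, (x : G₀).2⟩
      left_inv := fun _ => rfl
      right_inv := fun _ => rfl
      map_mul' := fun _ _ => rfl }
  rw [← CfsgLib.Cores.map_pCore_equiv e, map_map, map_map]
  have hA : (Cfsg.pCore 3 (G₀.subgroupOf K)).map (G₀.subgroupOf K).subtype = Cfsg.pCore 3 K := by
    rw [CfsgLib.Cores.map_subtype_pCore_eq (Subgroup.Normal.isSubnormal inferInstance), inf_eq_left]
    exact fun x hx => hP ⟨x, hx, rfl⟩
  conv_rhs => rw [← hA, map_map]
  exact congrArg (fun f => (Cfsg.pCore 3 (G₀.subgroupOf K)).map f) (MonoidHom.ext fun _ => rfl)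

/-- Elements of 3-power order lie in a subgroup of index 2. -/
theorem mem_of_three_pow {G₀ : Subgroup G} (hi : G₀.index = 2) {g : G} {k : ℕ}
    (hg : g ^ 3 ^ k = 1) : g ∈ G₀ := by
  obtain ⟨m, hm⟩ := (show Odd (3 ^ k) from Odd.pow (by decide))
  rw [hm, pow_succ, pow_mul] at hg
  rw [show g = ((g ^ 2) ^ m)⁻¹ from eq_inv_of_mul_eq_one_right hg]
  exact inv_mem (pow_mem (Subgroup.sq_mem_of_index_two hi g) m)

theorem core_le {G₀ : Subgroup G} [Finite G] (hi : G₀.index = 2) (K : Subgroup G) :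
    (Cfsg.pCore 3 K).map K.subtype ≤ G₀ := by
  rintro _ ⟨x, hx, rfl⟩
  have : Fact (Nat.Prime 3) := ⟨Nat.prime_three⟩
  obtain ⟨k, hk⟩ := CfsgLib.Cores.isPGroup_pCore 3 K ⟨x, hx⟩
  refine mem_of_three_pow hi (k := k) ?_
  have := congrArg Subtype.val hk
  simpa using congrArg Subtype.val this

theorem normalizer_trace {G₀ X : Subgroup G} (hX : X ≤ G₀) :
    normalizer (X.subgroupOf G₀ : Set G₀) = (normalizer (X : Set G)).subgroupOf G₀ := by
  ext g
  rw [mem_subgroupOf, mem_normalizer_iff, mem_normalizer_iff]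
  refine ⟨fun h y => ⟨fun hy => ?_, fun hy => ?_⟩, fun h y => ?_⟩
  · exact (h ⟨y, hX hy⟩).1 hy
  · have hy0 : y ∈ G₀ := by
      have := G₀.mul_mem (G₀.mul_mem (G₀.inv_mem g.2) (hX hy)) g.2
      simpa [mul_assoc] using this
    exact (h ⟨y, hy0⟩).2 hy
  · exact h (y : G)

theorem centralizer_trace (G₀ : Subgroup G) (x : G₀) :
    centralizer ({x} : Set G₀) = (centralizer ({(x : G)} : Set G)).subgroupOf G₀ := by
  ext g
  simp only [mem_subgroupOf, mem_centralizer_singleton_iff]
  exact Subtype.ext_iff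

theorem map_R3 [Finite G] {G₀ : Subgroup G} [G₀.Normal] (hi : G₀.index = 2) (x : G₀) :
    (R3 x).map G₀.subtype = R3 (x : G) := by
  unfold R3
  rw [centralizer_trace]
  exact core_trace _ (core_le hi _)

theorem closure_trace {G₀ N M : Subgroup G} (hM : M ≤ G₀)
    (h : M = closure {g : G | g ∈ N ∧ ∃ k : ℕ, orderOf g = 3 ^ k}) :
    M.subgroupOf G₀ = closure {g : G₀ | g ∈ N.subgroupOf G₀ ∧ ∃ k : ℕ, orderOf g = 3 ^ k} := by
  apply Subgroup.map_injective G₀.subtype_injective
  rw [map_subgroupOf_eq_of_le hM, MonoidHom.map_closure]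
  conv_lhs => rw [h]
  congr 1
  ext g
  simp only [Set.mem_ofPred_eq, Set.mem_image, mem_subgroupOf, Subgroup.coe_subtype]
  constructor
  · intro hg
    have hgM : g ∈ G₀ := hM (by rw [h]; exact subset_closure hg)
    exact ⟨⟨g, hgM⟩, ⟨hg.1, by simpa using hg.2⟩, rfl⟩
  · rintro ⟨y, ⟨hy, hk⟩, rfl⟩
    exact ⟨hy, by simpa using hk⟩

variable [Finite G] (f : Frame G) (G₀ : Subgroup G)

theorem exists_hyp [G₀.Normal] (hi : G₀.index = 2) (hM : f.M ≤ G₀) (hL : f.L ≤ G₀)
    (hc : Nat.card ↥(centralizer ({f.z} : Set G) ⊓ G₀) = 243 * 120) :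
    ∃ h : Hyp G₀, h.IsSmall ∧ h.J = f.J.subgroupOf G₀ := by
  have hS : (f.S : Subgroup G) ≤ G₀ := f.S_le_M.trans hM
  have hJ : f.J ≤ G₀ := f.hJM.trans hM
  have hZ : f.Z ≤ G₀ := f.Z_le_J.trans hJ
  have hQ : f.Q ≤ G₀ := f.hQL.trans hL
  refine ⟨{
      S := f.S.subtype hS
      Z := f.Z.subgroupOf G₀
      J := f.J.subgroupOf G₀
      M := f.M.subgroupOf G₀
      L := f.L.subgroupOf G₀
      Q := f.Q.subgroupOf G₀
      hZ := ?_
      hJS := ?_
      hJcomm := fun a ha b hb => Subtype.ext (f.hJcomm a ha b hb)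
      hJexp := fun a ha => Subtype.ext (by rw [SubmonoidClass.coe_pow]; exact f.hJexp a ha)
      hJcard := (Nat.card_congr (subgroupOfEquivOfLe hJ).toEquiv).trans f.hJcard
      hM := ?_
      hJM := fun a ha => f.hJM ha
      φM := f.φM.comp (subgroupOfEquivOfLe hM).toMonoidHom
      φM_surj := f.φM_surj.comp (subgroupOfEquivOfLe hM).surjective
      φM_ker := ?_
      hL := ?_
      hQ := ?_
      hQex := CfsgLib.ClassK.isExtraspecial_congr (subgroupOfEquivOfLe hQ).symm f.hQex
      hQcard := (Nat.card_congr (subgroupOfEquivOfLe hQ).toEquiv).trans f.hQcard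
      hQexp := fun a ha => Subtype.ext (by rw [SubmonoidClass.coe_pow]; exact f.hQexp a ha)
      hQL := fun a ha => f.hQL ha
      φL := f.φL.comp (subgroupOfEquivOfLe hL).toMonoidHom
      φL_surj := f.φL_surj.comp (subgroupOfEquivOfLe hL).surjective
      φL_ker := ?_
      hiii := ?_ }, ?_, rfl⟩
  · ext a
    rw [mem_subgroupOf, f.hZ, mem_inf, mem_inf, mem_centralizer_iff, mem_centralizer_iff,
      Sylow.coe_subtype, mem_subgroupOf]
    refine and_congr_right fun _ => ⟨fun h b hb => Subtype.ext (h b hb), fun h b hb => ?_⟩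
    exact congrArg Subtype.val (h ⟨b, hS hb⟩ hb)
  · rw [Sylow.coe_subtype]
    exact fun a ha => f.hJS ha
  · rw [normalizer_trace hJ]
    exact closure_trace hM f.hM
  · ext a
    rw [MonoidHom.mem_ker, MonoidHom.comp_apply, ← MonoidHom.mem_ker, f.φM_ker]
    exact Iff.rfl
  · rw [normalizer_trace hZ]
    exact closure_trace hL f.hL
  · apply Subgroup.map_injective G₀.subtype_injective
    rw [map_subgroupOf_eq_of_le hQ, normalizer_trace hZ, core_trace _ (core_le hi _)]
    exact f.hQ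
  · ext a
    rw [MonoidHom.mem_ker, MonoidHom.comp_apply, ← MonoidHom.mem_ker, f.φL_ker]
    exact Iff.rfl
  · intro x hx1 hxZ g hg
    have h1 : (g : G) ∈ centralizer (R3 (x : G) : Set G) := by
      rw [mem_centralizer_iff]
      intro y hy
      rw [SetLike.mem_coe, ← map_R3 hi x] at hy
      obtain ⟨y', hy', rfl⟩ := hy
      exact congrArg Subtype.val (mem_centralizer_iff.1 hg y' hy')
    have hZG : f.Z = zpowers (x : G) := by
      have := congrArg (Subgroup.map G₀.subtype) hxZ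
      rwa [map_subgroupOf_eq_of_le, MonoidHom.map_zpowers] at this
      exact hZ
    have h2 := f.hiii x (fun e => hx1 (Subtype.ext e)) hZG h1
    rw [← map_R3 hi x] at h2
    obtain ⟨g', hg', e⟩ := h2
    exact Subtype.ext e ▸ hg'
  · unfold Hyp.IsSmall
    rw [← hc, ← f.centZ_eq, show centralizer (f.Z.subgroupOf G₀ : Set G₀) =
      (centralizer (f.Z : Set G)).subgroupOf G₀ from ?_]
    · exact Nat.card_congr
        { toFun := fun y => ⟨((y : G₀) : G), y.2, (y : G₀).2⟩
          invFun := fun y => ⟨⟨y.1, y.2.2⟩, y.2.1⟩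
          left_inv := fun _ => rfl
          right_inv := fun _ => rfl }
    · ext a
      rw [mem_subgroupOf, mem_centralizer_iff, mem_centralizer_iff]
      exact ⟨fun h b hb => congrArg Subtype.val (h ⟨b, hZ hb⟩ hb),
        fun h b hb => Subtype.ext (h b hb)⟩

theorem isSimpleGroup_mcL : IsSimpleGroup Cfsg.Spor.McL := by
  have := CfsgLib.SchurMult.McLTwoFive.isSimpleGroup_KG
  exact MulEquiv.isSimpleGroup CfsgLib.SchurMult.McLTwoFive.equivMcL.symm

end Aut

/-- The big case gives the automorphism group. -/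
theorem aut_iso_of_equiv {G : Type u} [Group G] [Finite G]
    (f : Frame G) (G₀ : Subgroup G) (hn : G₀.Normal) (hi : G₀.index = 2) (hM : f.M ≤ G₀)
    (hL : f.L ≤ G₀) (_hc : Nat.card ↥(centralizer ({f.z} : Set G) ⊓ G₀) = 243 * 120)
    (e : G₀ ≃* Cfsg.Spor.McL) : Nonempty (G ≃* MulAut Cfsg.Spor.McL) := by
  classical
  have := Aut.isSimpleGroup_mcL
  have hsimp : IsSimpleGroup G₀ := MulEquiv.isSimpleGroup e
  have hcen : Subgroup.center G₀ = ⊥ := by
    refine (IsSimpleGroup.eq_bot_or_eq_top_of_normal _ inferInstance).resolve_right fun htop => ?_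
    have hQ : f.Q ≤ G₀ := f.hQL.trans hL
    have hall : Subgroup.center f.Q = ⊤ := by
      rw [eq_top_iff]
      rintro a -
      rw [Subgroup.mem_center_iff]
      intro b
      have ha : (⟨a, hQ a.2⟩ : G₀) ∈ Subgroup.center G₀ := htop ▸ Subgroup.mem_top _
      exact Subtype.ext (congrArg (fun y : G₀ => (y : G)) (Subgroup.mem_center_iff.1 ha ⟨b, hQ b.2⟩))
    have h3 := f.hQex.2
    rw [hall, Subgroup.card_top, f.hQcard] at h3
    omega
  have hinj : Function.Injective (MulAut.conjNormal : G →* MulAut G₀) := by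
    rw [← MonoidHom.ker_eq_bot_iff, eq_bot_iff]
    intro g hg
    rw [MonoidHom.mem_ker] at hg
    have hcomm : ∀ y : G₀, g * y * g⁻¹ = y := fun y => by
      have := congrArg Subtype.val (DFunLike.congr_fun hg y)
      simpa using this
    have hgJ : g ∈ f.J := by
      rw [← f.centJ, mem_centralizer_iff]
      intro a ha
      have := hcomm ⟨a, hM (f.hJM ha)⟩
      exact (mul_inv_eq_iff_eq_mul.1 this).symm
    have hg0 : (⟨g, hM (f.hJM hgJ)⟩ : G₀) ∈ Subgroup.center G₀ :=
      Subgroup.mem_center_iff.2 fun y => Subtype.ext (mul_inv_eq_iff_eq_mul.1 (hcomm y)).symm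
    rw [hcen, Subgroup.mem_bot] at hg0
    exact Subgroup.mem_bot.2 (congrArg Subtype.val hg0)
  have hG : Nat.card G = Nat.card G₀ * 2 := by rw [← hi, Subgroup.card_mul_index]
  have hA : Nat.card (MulAut G₀) = Nat.card G₀ * 2 := by
    have h1 : Nat.card (Cfsg.Out G₀) = 2 :=
      (CfsgLib.Mathieu.McLOut.natCard_out_congr e.symm).trans CfsgLib.Mathieu.McLOut.natCard_out_McL
    have h2 : Nat.card (Cfsg.Inn G₀) = Nat.card G₀ := by
      refine (Nat.card_congr (MonoidHom.ofInjective (f := (MulAut.conj : G₀ →* MulAut G₀)) ?_).toEquiv).symm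
      rw [← MonoidHom.ker_eq_bot_iff, eq_bot_iff, ← hcen]
      intro g hg
      rw [MonoidHom.mem_ker] at hg
      refine Subgroup.mem_center_iff.2 fun y => ?_
      have := DFunLike.congr_fun hg y
      simp only [MulAut.conj_apply, MulAut.one_apply] at this
      exact (mul_inv_eq_iff_eq_mul.1 this).symm
    rw [← h2, ← h1]
    exact (Cfsg.Inn G₀).card_mul_index.symm
  have : Finite (MulAut G₀) := Nat.finite_of_card_ne_zero (by rw [hA]; simp [Nat.card_pos.ne'])
  have hbij : Function.Bijective (MulAut.conjNormal : G →* MulAut G₀) :=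
    (Nat.bijective_iff_injective_and_card _).2 ⟨hinj, hG.trans hA.symm⟩
  exact ⟨(MulEquiv.ofBijective _ hbij).trans (MulAut.congr e)⟩

/-- The big case, with the small case supplied for the weak hypotheses. -/
theorem aut_iso {G : Type u} [Group G] [Finite G]
    (hsm : ∀ (X : Type u) [Group X] [Finite X] (h : Hyp X), h.IsSmall →
      Nonempty (X ≃* Cfsg.Spor.McL))
    (f : Frame G) (G₀ : Subgroup G) (hn : G₀.Normal) (hi : G₀.index = 2) (hM : f.M ≤ G₀)
    (hL : f.L ≤ G₀) (hc : Nat.card ↥(centralizer ({f.z} : Set G) ⊓ G₀) = 243 * 120) :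
    Nonempty (G ≃* MulAut Cfsg.Spor.McL) := by
  obtain ⟨h, hh, -⟩ := Aut.exists_hyp f G₀ hi hM hL hc
  obtain ⟨e⟩ := hsm G₀ h hh
  exact aut_iso_of_equiv f G₀ hn hi hM hL hc e

/-- The big case, with the small case supplied for the hypotheses at every point of `J`. -/
theorem aut_iso_of_full {G : Type u} [Group G] [Finite G]
    (hsm : ∀ (X : Type u) [Group X] [Finite X] (h : Hyp X), h.IsSmall →
      (∀ x ∈ h.J, x ≠ 1 → centralizer (R3 x : Set X) ≤ R3 x) → Nonempty (X ≃* Cfsg.Spor.McL))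
    (f : Frame G) (hfull : ∀ x ∈ f.J, x ≠ 1 → centralizer (R3 x : Set G) ≤ R3 x)
    (G₀ : Subgroup G) (hn : G₀.Normal) (hi : G₀.index = 2) (hM : f.M ≤ G₀)
    (hL : f.L ≤ G₀) (hc : Nat.card ↥(centralizer ({f.z} : Set G) ⊓ G₀) = 243 * 120) :
    Nonempty (G ≃* MulAut Cfsg.Spor.McL) := by
  obtain ⟨h, hh, hJ⟩ := Aut.exists_hyp f G₀ hi hM hL hc
  obtain ⟨e⟩ := hsm G₀ h hh fun x hx hx1 g hg => by
    rw [hJ, mem_subgroupOf] at hx
    have h1 : (g : G) ∈ centralizer (R3 (x : G) : Set G) := by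
      rw [mem_centralizer_iff]
      intro y hy
      rw [SetLike.mem_coe, ← Aut.map_R3 hi x] at hy
      obtain ⟨y', hy', rfl⟩ := hy
      exact congrArg Subtype.val (mem_centralizer_iff.1 hg y' hy')
    have h2 := hfull x hx (fun e => hx1 (Subtype.ext e)) h1
    rw [← Aut.map_R3 hi x] at h2
    obtain ⟨g', hg', e⟩ := h2
    exact Subtype.ext e ▸ hg'
  exact aut_iso_of_equiv f G₀ hn hi hM hL hc e

end CfsgLib.McLThreeLocal
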