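/-
Interfaces for the 3-local characterization of McL and Aut McL (S3367).

Chain: `Hyp` (exactly the hypotheses) → `Basic` → `LocalZ` → `Frame`;
then the small case (`IsSmall`) gives McL, the big case gives Aut McL.
-/
import Cfsg.Prelude.Def_Local
import Cfsg.Prelude.Def_CaseTheorems
import Cfsg.Prelude.Def_SporadicB
import Cfsg.Prelude.Def_Spor_Conway
import Mathlib

set_option autoImplicit false

namespace CfsgLib.McLThreeLocal

open Subgroup

universe u

/-- `O₃(C_G(x))` as a subgroup of `G`. -/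
def R3 {G : Type u} [Group G] (x : G) : Subgroup G :=
  (Cfsg.pCore 3 (centralizer ({x} : Set G))).map (centralizer ({x} : Set G)).subtype

/-- The hypotheses of the characterization. -/
structure Hyp (G : Type u) [Group G] where
  S : Sylow 3 G
  Z : Subgroup G
  J : Subgroup G
  M : Subgroup G
  L : Subgroup G
  Q : Subgroup G
  hZ : Z = (S : Subgroup G) ⊓ centralizer ((S : Subgroup G) : Set G)
  hJS : J ≤ S
  hJcomm : ∀ a ∈ J, ∀ b ∈ J, a * b = b * a
  hJexp : ∀ a ∈ J, a ^ 3 = 1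
  hJcard : Nat.card J = 81
  hM : M = closure {g : G | g ∈ normalizer (J : Set G) ∧ ∃ k : ℕ, orderOf g = 3 ^ k}
  hJM : J ≤ M
  φM : M →* alternatingGroup (Fin 6)
  φM_surj : Function.Surjective φM
  φM_ker : φM.ker = J.subgroupOf M
  hL : L = closure {g : G | g ∈ normalizer (Z : Set G) ∧ ∃ k : ℕ, orderOf g = 3 ^ k}
  hQ : Q = (Cfsg.pCore 3 (normalizer (Z : Set G))).map (normalizer (Z : Set G)).subtype
  hQex : Cfsg.IsExtraspecial 3 Q
  hQcard : Nat.card Q = 243
  hQexp : ∀ a ∈ Q, a ^ 3 = 1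
  hQL : Q ≤ L
  φL : L →* Matrix.SpecialLinearGroup (Fin 2) (ZMod 5)
  φL_surj : Function.Surjective φL
  φL_ker : φL.ker = Q.subgroupOf L
  /-- the centraliser condition, needed only at a generator of the centre -/
  hiii : ∀ x : G, x ≠ 1 → Z = zpowers x → centralizer (R3 x : Set G) ≤ R3 x

/-- The centraliser of `Z` is `Q·SL(2,5)` (the McL case), as opposed to twice as large. -/
def Hyp.IsSmall {G : Type u} [Group G] (h : Hyp G) : Prop :=
  Nat.card (centralizer (h.Z : Set G)) = 243 * 120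

/-- Consequences about `Q`, `Z`, `S` and `J` (piece `Basic`). -/
structure Basic (G : Type u) [Group G] extends Hyp G where
  z : G
  Z_eq : Z = zpowers z
  z_order : orderOf z = 3
  S_card : Nat.card (S : Subgroup G) = 729
  Z_le_Q : Z ≤ Q
  Z_le_J : Z ≤ J
  Q_comm : ∀ a ∈ Q, ∀ b ∈ Q, a * b * a⁻¹ * b⁻¹ ∈ Z
  Q_center : ∀ a ∈ Q, (∀ b ∈ Q, a * b = b * a) → a ∈ Z
  centQ : centralizer (Q : Set G) ≤ Q
  normZ_le : normalizer (Z : Set G) ≤ normalizer (Q : Set G)
  Q_le_S : Q ≤ S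
  S_le_L : (S : Subgroup G) ≤ L
  S_le_M : (S : Subgroup G) ≤ M
  JQ_card : Nat.card ↥(J ⊓ Q) = 27
  JQ_sup : J ⊔ Q = S
  J_only : ∀ A : Subgroup G, A ≤ S → Nat.card A = 81 → (∀ a ∈ A, ∀ b ∈ A, a * b = b * a) →
    A = J
  sylow_J : ∀ T : Sylow 3 G, J ≤ T → (T : Subgroup G) ≤ M
  centJ : centralizer (J : Set G) = J
  M_card : Nat.card M = 81 * 360
  /-- the action of an element of `J ∖ Q` on `Q/Z` is not trivial -/
  J_moves : ∀ d ∈ J, d ∉ Q → ∃ a ∈ Q, d * a * d⁻¹ * a⁻¹ ∉ Z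

/-- The structure of `N(Z)` (piece `LocalZ`). -/
structure LocalZ (G : Type u) [Group G] extends Basic G where
  t : G
  t_order : orderOf t = 2
  t_mem_L : t ∈ L
  tz : t * z = z * t
  centQt : ∀ a ∈ Q, t * a = a * t → a ∈ Z
  t_inv : ∀ a ∈ Q, t * a * t⁻¹ * a ∈ Z
  K : Subgroup G
  eK : K ≃* Matrix.SpecialLinearGroup (Fin 2) (ZMod 5)
  t_mem_K : t ∈ K
  K_le_L : K ≤ L
  K_t : ∀ g ∈ K, g * t = t * g
  K_z : ∀ g ∈ K, g * z = z * g
  L_split : ∀ g ∈ L, ∃ a ∈ Q, ∃ h ∈ K, g = a * h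
  normZ_split : ∀ g ∈ normalizer (Z : Set G),
    ∃ a ∈ Q, ∃ n ∈ normalizer (Z : Set G), n * t = t * n ∧ g = a * n
  K_normal : ∀ n ∈ normalizer (Z : Set G), n * t = t * n → n ∈ normalizer (K : Set G)
  centK : ∀ n : G, n * z = z * n → n * t = t * n → (∀ g ∈ K, n * g = g * n) → n ∈ zpowers (z * t)
  centZ_eq : centralizer (Z : Set G) = centralizer ({z} : Set G)
  card_Cz : Nat.card (centralizer ({z} : Set G)) =
    81 * Nat.card ↥(centralizer ({z} : Set G) ⊓ centralizer ({t} : Set G))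
  card_Czt : Nat.card ↥(centralizer ({z} : Set G) ⊓ centralizer ({t} : Set G)) = 360 ∨
    Nat.card ↥(centralizer ({z} : Set G) ⊓ centralizer ({t} : Set G)) = 720

/-- The frame inside `C(t)`: `D = ⟨z, w⟩ = C_J(t)`, `k ∈ K`, the swap `j` (piece `FrameCore`). -/
structure FrameCore (G : Type u) [Group G] extends LocalZ G where
  w : G
  w_order : orderOf w = 3
  w_mem_K : w ∈ K
  w_mem_J : w ∈ J
  D_eq : ∀ a : G, a ∈ closure ({z, w} : Set G) ↔ a ∈ J ∧ a * t = t * a
  D_card : Nat.card (closure ({z, w} : Set G)) = 9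
  t_mem_M : t ∈ M
  k : G
  k_mem_K : k ∈ K
  k_sq : k * k = t
  k_w : k * w * k⁻¹ = w⁻¹
  k_normJ : k ∈ normalizer (J : Set G)
  j : G
  j_mem_M : j ∈ M
  j_sq : j * j = 1
  jt : j * t = t * j
  j_z : j * z * j⁻¹ = w
  j_w : j * w * j⁻¹ = z
  comm_kk : k * (j * k * j⁻¹) = j * k * j⁻¹ * k * t
  kk_mem_M : k * (j * k * j⁻¹) ∈ M

/-- The frame together with the fusion facts about `D` (piece `CentY`). -/
structure Frame (G : Type u) [Group G] extends FrameCore G where
  D_sylow : ¬ 27 ∣ Nat.card (centralizer ({t} : Set G))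
  centY : ∀ y : G, y = z * w ∨ y = z * w⁻¹ → centralizer ({y} : Set G) ≤ normalizer (J : Set G)
  y_not_Z : ∀ y : G, y = z * w ∨ y = z * w⁻¹ → ∀ g : G, g * z * g⁻¹ ≠ y

/-- `D = ⟨z, w⟩`. -/
def Frame.D {G : Type u} [Group G] (f : Frame G) : Subgroup G := closure ({f.z, f.w} : Set G)

/-- The second element of order 4, `k' = j k j⁻¹`. -/
def Frame.k' {G : Type u} [Group G] (f : Frame G) : G := f.j * f.k * f.j⁻¹

/-- The statement of S3334, quantified in the universe of the group. -/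
def RecogMcL : Prop :=
  ∀ (G : Type u) [Group G] [Finite G] (t : G), orderOf t = 2 →
    Cfsg.IsNonsplitDoubleCover (centralizer ({t} : Set G)) (alternatingGroup (Fin 8)) →
    centralizer ({t} : Set G) ⊔ Cfsg.oddCore G = ⊤ ∨ Nonempty (G ≃* Cfsg.Spor.McL)

/-- The statement of S3330, quantified in the universe of the group. -/
def RecogSymEight : Prop :=
  ∀ (G : Type u) [Group G] [Finite G]
    (P : Sylow 3 G) (D : Subgroup G) (_hDP : D = P) (y z : G) (_hgen : closure {y, z} = D)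
    (_hcomm : IsMulCommutative D) (_hcard : Nat.card D = 9) (_hexp : ∀ a ∈ D, a ^ 3 = 1)
    (_hC : Nat.card (centralizer (D : Set G)) = 18)
    (_eN : normalizer (D : Set G) ⧸ D.subgroupOf (normalizer (D : Set G)) ≃*
      DihedralGroup 4 × Multiplicative (ZMod 2))
    [_hcn : ((centralizer (D : Set G)).subgroupOf (normalizer (D : Set G))).Normal]
    (_eNC : normalizer (D : Set G) ⧸ (centralizer (D : Set G)).subgroupOf (normalizer (D : Set G)) ≃*
      DihedralGroup 4)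
    (_hyn : (D.subgroupOf (centralizer ({y} : Set G))).Normal)
    (_hycard : Nat.card (centralizer ({y} : Set G)) = 36)
    (_hysq : ∀ g ∈ centralizer ({y} : Set G), g ^ 2 ∈ D)
    (Ny : Subgroup G) (_hNy : Ny = normalizer (zpowers y : Set G))
    (_hyNn : (D.subgroupOf Ny).Normal) (_hyNcard : Nat.card Ny = 72)
    (_hyNsq : ∀ g ∈ Ny, g ^ 2 ∈ D)
    (_eC : centralizer ({z} : Set G) ≃* Multiplicative (ZMod 3) × Equiv.Perm (Fin 5))
    (_eL : normalizer (zpowers z : Set G) ≃* Equiv.Perm (Fin 3) × Equiv.Perm (Fin 5)),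
    Nonempty (G ≃* Equiv.Perm (Fin 8)) ∨
      ∃ N : Subgroup G, N.Normal ∧ Cfsg.generalizedFittingSubgroup G = N ∧
        Nonempty (N ≃* alternatingGroup (Fin 5) × alternatingGroup (Fin 5)) ∧
        (∀ K : Subgroup G, K.Normal → K ≤ N → K = ⊥ ∨ K = N) ∧
        N.index = 4 ∧ ∀ g : G, g ^ 2 ∈ N

end CfsgLib.McLThreeLocal
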