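/-
Consequences of the hypotheses about `Q`, `Z`, `S` and `J` (S3367, piece `Basic`).
-/
import Cfsg.Agent.Lib.McLThreeLocal.Defs
import Cfsg.Agent.Lib.Cores.PCore
import Cfsg.Agent.Lib.Cores.Basic

set_option autoImplicit false
set_option maxRecDepth 100000
set_option linter.style.haveILetI false

namespace CfsgLib.McLThreeLocal

open Subgroup

universe u

/-- An element of order three of `SL(2,5)`. -/
def sl0 : Matrix.SpecialLinearGroup (Fin 2) (ZMod 5) := ⟨!![0, -1; 1, -1], by decide⟩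

/-- An element of order five of `SL(2,5)`. -/
def sl1 : Matrix.SpecialLinearGroup (Fin 2) (ZMod 5) := ⟨!![1, 1; 0, 1], by decide⟩

/-- The transposed element of order five. -/
def sl2 : Matrix.SpecialLinearGroup (Fin 2) (ZMod 5) := ⟨!![1, 0; 1, 1], by decide⟩

set_option maxHeartbeats 1000000 in
theorem sl0_facts : sl0 ^ 3 = 1 ∧ sl0 ≠ 1 ∧
    (((sl0 * (sl1 * sl0 * sl1⁻¹)) ^ 2) ^ 5 = 1 ∧ (sl0 * (sl1 * sl0 * sl1⁻¹)) ^ 2 ≠ 1) ∧
    (((sl0 ^ 2 * (sl1 * sl0 ^ 2 * sl1⁻¹)) ^ 2) ^ 5 = 1 ∧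
      (sl0 ^ 2 * (sl1 * sl0 ^ 2 * sl1⁻¹)) ^ 2 ≠ 1) := by
  decide

theorem card_sl25 : Nat.card (Matrix.SpecialLinearGroup (Fin 2) (ZMod 5)) = 120 := by
  rw [Nat.card_eq_fintype_card]
  decide +kernel

/-- An element of order three is conjugate to `sl0` or its square. -/
theorem sl_three_conj {c : Matrix.SpecialLinearGroup (Fin 2) (ZMod 5)} (hc : c ^ 3 = 1) (hc1 : c ≠ 1) :
    ∃ h, c = h * sl0 * h⁻¹ ∨ c = h * sl0 ^ 2 * h⁻¹ := by
  haveI : Fact (Nat.Prime 3) := ⟨Nat.prime_three⟩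
  have ho : ∀ x : Matrix.SpecialLinearGroup (Fin 2) (ZMod 5), x ^ 3 = 1 → x ≠ 1 →
      Nat.card (zpowers x) = 3 := fun x h1 h2 => by
    rw [Nat.card_zpowers]; exact orderOf_eq_prime h1 h2
  have hp : ∀ x : Matrix.SpecialLinearGroup (Fin 2) (ZMod 5), x ^ 3 = 1 → x ≠ 1 →
      ∃ P : Sylow 3 (Matrix.SpecialLinearGroup (Fin 2) (ZMod 5)), (P : Subgroup _) = zpowers x := by
    intro x h1 h2
    obtain ⟨P, hP⟩ := (IsPGroup.of_card (p := 3) (n := 1) (G := zpowers x)
      (by rw [ho x h1 h2, pow_one])).exists_le_sylow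
    refine ⟨P, (eq_of_le_of_card_ge hP ?_).symm⟩
    obtain ⟨k, hk⟩ := IsPGroup.iff_card.1 P.2
    have hd : 3 ^ k ∣ 120 := by
      have hd0 := card_subgroup_dvd_card (P : Subgroup (Matrix.SpecialLinearGroup (Fin 2) (ZMod 5)))
      rw [card_sl25] at hd0
      exact hk ▸ hd0
    rw [ho x h1 h2, hk]
    rcases k with _ | _ | k
    · norm_num
    · norm_num
    · exfalso
      have : 3 ^ 2 ∣ 120 := (pow_dvd_pow 3 (by omega)).trans hd
      norm_num at this
  obtain ⟨P, hP⟩ := hp _ sl0_facts.1 sl0_facts.2.1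
  obtain ⟨R, hR⟩ := hp c hc hc1
  obtain ⟨h, hh⟩ := MulAction.exists_smul_eq (Matrix.SpecialLinearGroup (Fin 2) (ZMod 5)) P R
  have hmem : c ∈ (h • P : Sylow 3 (Matrix.SpecialLinearGroup (Fin 2) (ZMod 5))) := by
    rw [hh]
    show c ∈ (R : Subgroup _)
    rw [hR]
    exact mem_zpowers c
  obtain ⟨x, hx, hxc⟩ := hmem
  replace hx : x ∈ zpowers sl0 := hP ▸ hx
  replace hxc : h * x * h⁻¹ = c := hxc
  obtain ⟨k, hk⟩ := mem_powers_iff_mem_zpowers.2 hx
  change sl0 ^ k = x at hk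
  rw [pow_eq_pow_mod k sl0_facts.1] at hk
  refine ⟨h, ?_⟩
  have : k % 3 = 0 ∨ k % 3 = 1 ∨ k % 3 = 2 := by omega
  rcases this with h0 | h0 | h0 <;> rw [h0] at hk
  · exfalso
    rw [← hk, pow_zero, mul_one, mul_inv_cancel] at hxc
    exact hc1 hxc.symm
  · left; rw [pow_one] at hk; rw [← hxc, hk]
  · right; rw [← hxc, hk]

set_option maxHeartbeats 2000000 in
theorem sl_no_normal_three : ∀ a b c d : ZMod 5,
    ((a * a + b * c) * a + b * (a + d) * c = 1 ∧ (a * a + b * c) * b + b * (a + d) * d = 0 ∧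
      c * (a + d) * a + (d * d + b * c) * c = 0 ∧ c * (a + d) * b + (d * d + b * c) * d = 1) →
    ((a + c = a ∧ b + d = a + b ∧ c = c ∧ d = c + d) ∨
      (a + c = a * a + b * c ∧ b + d = a * a + b * c + b * (a + d) ∧ c = c * (a + d) ∧
        d = c * (a + d) + (d * d + b * c))) →
    ((a = a + b ∧ b = b ∧ a + c = c + d ∧ b + d = d) ∨
      (a = a * a + b * c + b * (a + d) ∧ b = b * (a + d) ∧ a + c = c * (a + d) + (d * d + b * c) ∧
        b + d = d * d + b * c)) →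
    a = 1 ∧ b = 0 ∧ c = 0 ∧ d = 1 := by decide +kernel

/-- `SL(2,5)` has no nontrivial normal subgroup of exponent three inside a subgroup of order three. -/
theorem sl_trivial {A : Subgroup (Matrix.SpecialLinearGroup (Fin 2) (ZMod 5))}
    (hA : IsPGroup 3 A) (hn : A.Normal) : A = ⊥ := by
  rw [eq_bot_iff]
  intro x hx
  by_contra hx1
  rw [mem_bot] at hx1
  obtain ⟨k, hk⟩ := IsPGroup.iff_card.1 hA
  have hd : 3 ^ k ∣ 120 := hk ▸ card_sl25 ▸ card_subgroup_dvd_card A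
  have hk1 : k ≤ 1 := by
    by_contra h
    have : 3 ^ 2 ∣ 120 := (pow_dvd_pow 3 (by omega)).trans hd
    norm_num at this
  have hA3 : Nat.card A ≤ 3 :=
    hk ▸ (Nat.pow_le_pow_right (by norm_num) hk1).trans (le_of_eq (pow_one 3))
  have hx3 : x ^ 3 = 1 := by
    have : orderOf x ∣ 3 := (orderOf_dvd_natCard A hx).trans (hk ▸ by simpa using pow_dvd_pow 3 hk1)
    exact orderOf_dvd_iff_pow_eq_one.1 this
  haveI : Fact (Nat.Prime 3) := ⟨Nat.prime_three⟩
  have hzA : zpowers x = A := eq_of_le_of_card_ge (zpowers_le.2 hx)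
    (by rw [Nat.card_zpowers, orderOf_eq_prime hx3 hx1]; exact hA3)
  have hcases : ∀ g, g * x = x * g ∨ g * x = x * x * g := by
    intro g
    have hmem : g * x * g⁻¹ ∈ zpowers x := hzA ▸ hn.conj_mem x hx g
    obtain ⟨m, hm⟩ := mem_powers_iff_mem_zpowers.2 hmem
    change x ^ m = _ at hm
    rw [pow_eq_pow_mod m hx3] at hm
    have : m % 3 = 0 ∨ m % 3 = 1 ∨ m % 3 = 2 := by omega
    rcases this with h0 | h0 | h0 <;> rw [h0] at hm
    · rw [pow_zero] at hm; exact absurd (conj_eq_one_iff.1 hm.symm) hx1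
    · left; rw [pow_one] at hm; conv_rhs => rw [hm]
      group
    · right; rw [pow_two] at hm; rw [hm]; group
  set X : Matrix (Fin 2) (Fin 2) (ZMod 5) := (x : Matrix (Fin 2) (Fin 2) (ZMod 5)) with hX
  have hXe : X = !![X 0 0, X 0 1; X 1 0, X 1 1] := by
    ext i j; fin_cases i <;> fin_cases j <;> rfl
  have h3 : X * X * X = 1 := by
    have := congrArg (fun g : Matrix.SpecialLinearGroup (Fin 2) (ZMod 5) => g.1) hx3
    simpa [pow_succ, hX] using this
  have h1 := (hcases sl1).imp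
    (fun e => congrArg (fun g : Matrix.SpecialLinearGroup (Fin 2) (ZMod 5) => g.1) e)
    (fun e => congrArg (fun g : Matrix.SpecialLinearGroup (Fin 2) (ZMod 5) => g.1) e)
  have h2 := (hcases sl2).imp
    (fun e => congrArg (fun g : Matrix.SpecialLinearGroup (Fin 2) (ZMod 5) => g.1) e)
    (fun e => congrArg (fun g : Matrix.SpecialLinearGroup (Fin 2) (ZMod 5) => g.1) e)
  simp only [Matrix.SpecialLinearGroup.coe_mul, ← hX, show (sl1 : Matrix (Fin 2) (Fin 2) (ZMod 5)) =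
    !![1, 1; 0, 1] from rfl, show (sl2 : Matrix (Fin 2) (Fin 2) (ZMod 5)) = !![1, 0; 1, 1] from rfl]
    at h1 h2
  obtain ⟨a, ha⟩ : ∃ a, X 0 0 = a := ⟨_, rfl⟩
  obtain ⟨b, hb⟩ : ∃ b, X 0 1 = b := ⟨_, rfl⟩
  obtain ⟨c, hc⟩ : ∃ c, X 1 0 = c := ⟨_, rfl⟩
  obtain ⟨d, hd'⟩ : ∃ d, X 1 1 = d := ⟨_, rfl⟩
  simp only [← Matrix.ext_iff, Fin.forall_fin_two, Matrix.mul_apply, Fin.sum_univ_two,
    Matrix.cons_val_zero, Matrix.cons_val_one, Matrix.of_apply, Matrix.cons_val', Matrix.one_apply,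
    Fin.isValue, ha, hb, hc, hd', one_mul, mul_one, zero_mul, mul_zero, add_zero, zero_add,
    if_true, if_false, one_ne_zero, zero_ne_one] at h3 h1 h2
  obtain ⟨e1, e2, e3, e4⟩ := sl_no_normal_three a b c d (by grind) (by grind) (by grind)
  rw [← ha] at e1; rw [← hb] at e2; rw [← hc] at e3; rw [← hd'] at e4
  apply hx1
  apply Subtype.ext
  show X = 1
  rw [hXe, e1, e2, e3, e4]
  ext i j; fin_cases i <;> fin_cases j <;> rfl

namespace Hyp

open scoped Classical commutatorElement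

variable {G : Type u} [Group G] [Finite G] (h : Hyp G)

theorem Q_le_normZ : h.Q ≤ normalizer (h.Z : Set G) := by
  rw [h.hQ]; exact map_subtype_le _

theorem normZ_le_normQ : normalizer (h.Z : Set G) ≤ normalizer (h.Q : Set G) := by
  intro g hg
  have key : ∀ a ∈ normalizer (h.Z : Set G), ∀ q ∈ h.Q, a * q * a⁻¹ ∈ h.Q := by
    intro a ha q hq
    rw [h.hQ] at hq ⊢
    obtain ⟨q', hq', rfl⟩ := hq
    haveI : (Cfsg.pCore 3 ↥(normalizer (h.Z : Set G))).Normal := inferInstance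
    exact ⟨⟨a, ha⟩ * q' * ⟨a, ha⟩⁻¹, this.conj_mem q' hq' _, rfl⟩
  refine mem_normalizer_iff.2 fun x => ⟨key g hg x, fun hx => ?_⟩
  have := key g⁻¹ (inv_mem hg) _ hx
  rwa [show g⁻¹ * (g * x * g⁻¹) * g⁻¹⁻¹ = x by group] at this

theorem Q_pGroup : IsPGroup 3 h.Q :=
  IsPGroup.of_card (n := 5) (by rw [h.hQcard]; norm_num)

theorem S_le_normZ : (h.S : Subgroup G) ≤ normalizer (h.Z : Set G) := by
  intro s hs
  have hc : ∀ a ∈ h.Z, s * a = a * s := by
    intro a ha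
    rw [h.hZ] at ha
    exact mem_centralizer_iff.1 ha.2 s hs
  refine mem_normalizer_iff.2 fun x => ⟨fun hx => ?_, fun hx => ?_⟩
  · rwa [hc x hx, mul_inv_cancel_right]
  · have h2 := hc _ hx
    have hxe : x = s * x * s⁻¹ := by
      calc x = s⁻¹ * (s * x * s⁻¹ * s) := by group
        _ = s⁻¹ * (s * (s * x * s⁻¹)) := by rw [h2]
        _ = _ := by group
    exact hxe ▸ hx

theorem Q_le_S' : h.Q ≤ (h.S : Subgroup G) := by
  have hn : (h.S : Subgroup G) ≤ normalizer (h.Q : Set G) := h.S_le_normZ.trans h.normZ_le_normQ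
  have hp : IsPGroup 3 ↥((h.S : Subgroup G) ⊔ h.Q) :=
    h.S.2.to_sup_of_normal_right' h.Q_pGroup hn
  exact le_sup_right.trans (h.S.3 hp le_sup_left).le

theorem S_le_L' : (h.S : Subgroup G) ≤ h.L := by
  intro s hs
  rw [h.hL]
  refine subset_closure ⟨h.S_le_normZ hs, ?_⟩
  haveI : Fact (Nat.Prime 3) := ⟨Nat.prime_three⟩
  obtain ⟨k, hk⟩ := (IsPGroup.iff_orderOf.1 h.S.2) ⟨s, hs⟩
  exact ⟨k, by rw [← hk, Subgroup.orderOf_mk]⟩

theorem L_le_normZ : h.L ≤ normalizer (h.Z : Set G) := by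
  rw [h.hL, closure_le]
  exact fun x hx => hx.1

theorem card_L : Nat.card h.L = 243 * 120 := by
  rw [card_eq_card_quotient_mul_card_subgroup h.φL.ker,
    Nat.card_congr (QuotientGroup.quotientKerEquivOfSurjective _ h.φL_surj).toEquiv, card_sl25,
    h.φL_ker, Nat.card_congr (subgroupOfEquivOfLe h.hQL).toEquiv, h.hQcard]

theorem S_card' : Nat.card (h.S : Subgroup G) = 729 := by
  haveI : Fact (Nat.Prime 3) := ⟨Nat.prime_three⟩
  obtain ⟨k, hk⟩ := IsPGroup.iff_card.1 h.S.2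
  have hd : 3 ^ k ∣ 243 * 120 := by
    rw [← h.card_L, ← hk]
    exact card_dvd_of_le h.S_le_L'
  have hk6 : k ≤ 6 := by
    by_contra hlt
    have : 3 ^ 7 ∣ 243 * 120 := (pow_dvd_pow 3 (by omega)).trans hd
    norm_num at this
  have h6 : 6 ≤ k := by
    have h729 : 3 ^ 6 ∣ Nat.card G := by
      refine dvd_trans ?_ (card_subgroup_dvd_card h.L)
      rw [h.card_L]; norm_num
    have := h.S.pow_dvd_card_of_pow_dvd_card h729
    rw [hk] at this
    exact (Nat.pow_dvd_pow_iff_le_right (by norm_num)).1 this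
  rw [hk, show k = 6 by omega]; norm_num

theorem Z_le_S : h.Z ≤ (h.S : Subgroup G) := by rw [h.hZ]; exact inf_le_left

theorem Z_le_Q' : h.Z ≤ h.Q := by
  intro c hc
  have hZL : h.Z ≤ h.L := h.Z_le_S.trans h.S_le_L'
  have hn : (h.Z.subgroupOf h.L).Normal := ⟨fun x hx g => by
    rw [mem_subgroupOf] at hx ⊢
    exact (mem_normalizer_iff.1 (h.L_le_normZ g.2) _).1 hx⟩
  have hp : IsPGroup 3 ((h.Z.subgroupOf h.L).map h.φL) :=
    ((h.S.2.to_le h.Z_le_S).of_equiv (subgroupOfEquivOfLe hZL).symm).map h.φL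
  have hbot := sl_trivial hp (hn.map h.φL h.φL_surj)
  have : h.φL ⟨c, hZL hc⟩ = 1 := by
    rw [← mem_bot, ← hbot]
    exact ⟨⟨c, hZL hc⟩, hc, rfl⟩
  rw [← MonoidHom.mem_ker, h.φL_ker, mem_subgroupOf] at this
  exact this

theorem mem_center_Q (a : h.Q) : a ∈ center h.Q ↔ (a : G) ∈ h.Z := by
  haveI : Fact (Nat.Prime 3) := ⟨Nat.prime_three⟩
  constructor
  · intro ha
    -- the centre has order three and is normalised by `S`, hence centralised
    rw [h.hZ]
    refine ⟨h.Q_le_S' a.2, mem_centralizer_iff.2 fun s hs => ?_⟩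
    have hsQ := h.normZ_le_normQ (h.S_le_normZ hs)
    let σ : MulAut h.Q :=
      { toFun := fun q => ⟨s * q * s⁻¹, (mem_normalizer_iff.1 hsQ _).1 q.2⟩
        invFun := fun q => ⟨s⁻¹ * q * s, by
          have := (mem_normalizer_iff.1 (inv_mem hsQ) _).1 q.2
          rwa [inv_inv] at this⟩
        left_inv := fun q => Subtype.ext (by group)
        right_inv := fun q => Subtype.ext (by group)
        map_mul' := fun p q => Subtype.ext (by push_cast; group) }
    have hσ : σ a ∈ center h.Q := by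
      rw [mem_center_iff] at ha ⊢
      intro g
      have := congrArg σ (ha (σ.symm g))
      rwa [map_mul, map_mul, MulEquiv.apply_symm_apply] at this
    by_cases ha1 : a = 1
    · simp [ha1]
    have hc3 : Nat.card (center h.Q) = 3 := h.hQex.2
    have hza : zpowers a = center h.Q := eq_of_le_of_card_ge (zpowers_le.2 ha) (by
      rw [hc3, Nat.card_zpowers]
      exact (orderOf_eq_prime (Subtype.ext (h.hQexp a a.2)) ha1).ge)
    rw [← hza] at hσ
    obtain ⟨m, hm⟩ := mem_powers_iff_mem_zpowers.2 hσ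
    change a ^ m = σ a at hm
    have ha3 : a ^ 3 = 1 := Subtype.ext (h.hQexp a a.2)
    rw [pow_eq_pow_mod m ha3] at hm
    have hσG : (σ a : G) = s * a * s⁻¹ := rfl
    have : m % 3 = 0 ∨ m % 3 = 1 ∨ m % 3 = 2 := by omega
    rcases this with h0 | h0 | h0 <;> rw [h0] at hm
    · exact absurd (σ.injective (by rw [map_one, ← hm, pow_zero])) ha1
    · rw [pow_one] at hm
      rw [← hm] at hσG
      exact (eq_mul_inv_iff_mul_eq.1 hσG).symm
    · exfalso
      -- an element of three-power order cannot invert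
      obtain ⟨k, hk⟩ := IsPGroup.iff_orderOf.1 h.S.2 ⟨s, hs⟩
      rw [Subgroup.orderOf_mk] at hk
      have hinv : s * a * s⁻¹ = (a : G)⁻¹ := by
        rw [← hσG, ← hm, SubgroupClass.coe_pow]
        exact eq_inv_of_mul_eq_one_left (by rw [← pow_succ]; exact h.hQexp a a.2)
      have hodd : ∀ n : ℕ, s ^ (2 * n + 1) * a * (s ^ (2 * n + 1))⁻¹ = (a : G)⁻¹ := by
        intro n
        induction n with
        | zero => simpa using hinv
        | succ n ih =>
          calc s ^ (2 * (n + 1) + 1) * a * (s ^ (2 * (n + 1) + 1))⁻¹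
              = s * (s * (s ^ (2 * n + 1) * a * (s ^ (2 * n + 1))⁻¹) * s⁻¹) * s⁻¹ := by
                rw [show 2 * (n + 1) + 1 = (2 * n + 1) + 1 + 1 by ring, pow_succ', pow_succ']; group
            _ = s * (s * (a : G)⁻¹ * s⁻¹) * s⁻¹ := by rw [ih]
            _ = s * (a : G) * s⁻¹ := by
                congr 2
                rw [← conj_inv, hinv, inv_inv]
            _ = _ := hinv
      obtain ⟨n, hn⟩ := (Odd.pow (n := k) (show Odd 3 by decide))
      have := hodd n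
      rw [← hn, ← hk, pow_orderOf_eq_one] at this
      simp only [one_mul, inv_one, mul_one] at this
      apply ha1
      apply Subtype.ext
      have h2 : (a : G) * a = 1 := by nth_rewrite 2 [this]; exact mul_inv_cancel _
      calc (a : G) = a ^ 3 * ((a : G) * a)⁻¹ := by rw [pow_succ, pow_two]; group
        _ = 1 := by rw [h2, h.hQexp a a.2]; group
  · intro ha
    rw [mem_center_iff]
    intro g
    apply Subtype.ext
    rw [h.hZ] at ha
    exact mem_centralizer_iff.1 ha.2 g (h.Q_le_S' g.2)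

theorem card_Z : Nat.card h.Z = 3 := by
  have : (center h.Q).map h.Q.subtype = h.Z := by
    ext x
    constructor
    · rintro ⟨a, ha, rfl⟩; exact (h.mem_center_Q a).1 ha
    · intro hx; exact ⟨⟨x, h.Z_le_Q' hx⟩, (h.mem_center_Q _).2 hx, rfl⟩
  rw [← this, card_map_of_injective h.Q.subtype_injective, h.hQex.2]

theorem Q_comm' : ∀ a ∈ h.Q, ∀ b ∈ h.Q, a * b * a⁻¹ * b⁻¹ ∈ h.Z := by
  intro a ha b hb
  have hm : ⁅(⟨a, ha⟩ : h.Q), ⟨b, hb⟩⁆ ∈ center h.Q := by
    rw [← h.hQex.1.2.2]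
    exact commutator_mem_commutator (mem_top _) (mem_top _)
  exact (h.mem_center_Q _).1 hm

theorem Z_central {x a : G} (hx : x ∈ h.S) (ha : a ∈ h.Z) : a * x = x * a := by
  rw [h.hZ] at ha
  exact (mem_centralizer_iff.1 ha.2 x hx).symm

theorem Q_center' : ∀ a ∈ h.Q, (∀ b ∈ h.Q, a * b = b * a) → a ∈ h.Z := fun a ha hb =>
  (h.mem_center_Q ⟨a, ha⟩).1 (mem_center_iff.2 fun b => Subtype.ext (hb b b.2).symm)

/-- An abelian subgroup of `Q` has order at most `27`. -/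
theorem abelian_le {A : Subgroup G} (hA : A ≤ h.Q) (hc : ∀ a ∈ A, ∀ b ∈ A, a * b = b * a) :
    Nat.card A ≤ 27 := by
  obtain ⟨k, hk⟩ := IsPGroup.iff_card.1 (h.Q_pGroup.to_le hA)
  by_contra hlt
  have hk4 : 4 ≤ k := by
    by_contra h4
    have : 3 ^ k ≤ 3 ^ 3 := Nat.pow_le_pow_right (by norm_num) (by omega)
    omega
  have hd : 3 ^ k ∣ 243 := by
    have hd0 := card_dvd_of_le hA
    rwa [hk, h.hQcard] at hd0
  have hk5 : k ≤ 5 := by
    rw [show (243 : ℕ) = 3 ^ 5 by norm_num] at hd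
    exact (Nat.pow_dvd_pow_iff_le_right (by norm_num)).1 hd
  rcases (show k = 4 ∨ k = 5 by omega) with rfl | rfl
  swap
  · have hAQ : A = h.Q := eq_of_le_of_card_ge hA (by rw [hk, h.hQcard]; norm_num)
    have : h.Q ≤ h.Z := fun a ha => h.Q_center' a ha fun b hb => hc a (hAQ ▸ ha) b (hAQ ▸ hb)
    have := card_le_of_le this
    rw [h.hQcard, h.card_Z] at this
    omega
  -- `Z ≤ A`
  have hfull : ∀ {B : Subgroup G}, B ≤ h.Q → A ≤ B → ∀ q, q ∈ B → q ∉ A → B = h.Q := by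
    intro B hB hAB q hq hqA
    obtain ⟨m, hm⟩ := IsPGroup.iff_card.1 (h.Q_pGroup.to_le hB)
    refine eq_of_le_of_card_ge hB ?_
    rw [h.hQcard, hm]
    have h5 : 5 ≤ m := by
      by_contra hm5
      have hle : Nat.card B ≤ Nat.card A := by
        rw [hm, hk]; exact Nat.pow_le_pow_right (by norm_num) (by omega)
      exact hqA ((eq_of_le_of_card_ge hAB hle).symm ▸ hq)
    calc (243 : ℕ) = 3 ^ 5 := by norm_num
      _ ≤ 3 ^ m := Nat.pow_le_pow_right (by norm_num) h5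
  have hZA : h.Z ≤ A := by
    intro x hx
    by_contra hxA
    have hBQ : A ⊔ h.Z = h.Q :=
      hfull (sup_le hA h.Z_le_Q') le_sup_left x (mem_sup_right hx) hxA
    have hQc : h.Q ≤ h.Z := by
      intro a ha
      refine h.Q_center' a ha fun b hb => ?_
      have h1 : A ≤ centralizer (A : Set G) := fun u hu => mem_centralizer_iff.2 fun v hv => hc v hv u hu
      have h2 : h.Z ≤ centralizer (A : Set G) := fun u hu => mem_centralizer_iff.2 fun v hv =>
        (h.Z_central (h.Q_le_S' (hA hv)) hu).symm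
      have h3 : h.Q ≤ centralizer (A : Set G) := hBQ ▸ sup_le h1 h2
      have h4 : A ⊔ h.Z ≤ centralizer (h.Q : Set G) := sup_le
        (fun u hu => mem_centralizer_iff.2 fun v hv => (mem_centralizer_iff.1 (h3 hv) u hu).symm)
        (fun u hu => mem_centralizer_iff.2 fun v hv => (h.Z_central (h.Q_le_S' hv) hu).symm)
      exact (mem_centralizer_iff.1 (h4 (hBQ ▸ ha)) b hb).symm
    have := card_le_of_le hQc
    rw [h.hQcard, h.card_Z] at this
    omega
  obtain ⟨q, hq, hqA⟩ : ∃ q ∈ h.Q, q ∉ A := by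
    by_contra hcon
    push Not at hcon
    have := card_le_of_le hcon
    rw [h.hQcard, hk] at this
    norm_num at this
  -- some `u ∈ A ∖ Z` commutes with `q`
  let f : A → h.Z := fun u => ⟨q * u * q⁻¹ * (u : G)⁻¹, h.Q_comm' q hq u (hA u.2)⟩
  obtain ⟨u, v, huv, hne⟩ : ∃ u v : A, f u = f v ∧ (u : G) * (v : G)⁻¹ ∉ h.Z := by
    by_contra hcon
    push Not at hcon
    let g : A → h.Z × h.Z := fun u => (f u,
      if hu : (u : G) * ((Function.invFun f (f u) : A) : G)⁻¹ ∈ h.Z then ⟨_, hu⟩ else 1)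
    have hg : Function.Injective g := by
      intro u v e
      obtain ⟨e1, e2⟩ := Prod.ext_iff.1 e
      change f u = f v at e1
      have hu := hcon u (Function.invFun f (f u)) (Function.invFun_eq ⟨u, rfl⟩).symm
      have hv := hcon v (Function.invFun f (f v)) (Function.invFun_eq ⟨v, rfl⟩).symm
      simp only [g, dif_pos hu, dif_pos hv, Subtype.mk.injEq] at e2
      rw [e1] at e2
      exact Subtype.ext (mul_right_cancel e2)
    have := Nat.card_le_card_of_injective g hg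
    rw [hk, Nat.card_prod, h.card_Z] at this
    norm_num at this
  apply hne
  refine h.Q_center' _ (mul_mem (hA u.2) (inv_mem (hA v.2))) ?_
  intro b hb
  have hcomm : q * ((u : G) * (v : G)⁻¹) = (u : G) * (v : G)⁻¹ * q := by
    have huv' : q * u * q⁻¹ * (u : G)⁻¹ = q * v * q⁻¹ * (v : G)⁻¹ := congrArg Subtype.val huv
    set ζ := q * (v : G) * q⁻¹ * (v : G)⁻¹ with hζ
    have hζZ : ζ ∈ h.Z := (f v).2
    have eu : q * u = ζ * u * q := by rw [← huv']; group
    have ev : q * v = ζ * v * q := by rw [hζ]; group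
    calc q * ((u : G) * (v : G)⁻¹) = q * u * (v : G)⁻¹ := by group
      _ = (ζ * u * q) * (v : G)⁻¹ := by rw [eu]
      _ = ζ * u * ((q * v) * (v : G)⁻¹ * (v : G)⁻¹) := by group
      _ = ζ * u * ((ζ * v * q) * (v : G)⁻¹ * (v : G)⁻¹) := by rw [ev]
      _ = _ := by
        have hq' : q * (v : G)⁻¹ = ζ⁻¹ * ((v : G)⁻¹ * q) := by
          have : q * (v : G)⁻¹ = (v : G)⁻¹ * ζ⁻¹ * q := by
            rw [eq_comm, ← mul_left_cancel_iff (a := ζ * v)]
            calc ζ * v * ((v : G)⁻¹ * ζ⁻¹ * q) = q := by group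
              _ = q * v * (v : G)⁻¹ := by group
              _ = ζ * v * q * (v : G)⁻¹ := by rw [ev]
              _ = _ := by group
          rw [this, (Commute.inv_left (h.Z_central (h.Q_le_S' (inv_mem (hA v.2))) hζZ :
            Commute ζ _)).eq.symm, mul_assoc]
        have hζu : ζ * u = u * ζ := h.Z_central (h.Q_le_S' (hA u.2)) hζZ
        calc ζ * u * ((ζ * v * q) * (v : G)⁻¹ * (v : G)⁻¹)
            = ζ * u * (ζ * v * (q * (v : G)⁻¹) * (v : G)⁻¹) := by group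
          _ = ζ * u * (q * (v : G)⁻¹) := by
              rw [hq']
              have hζv : ζ * v = v * ζ := h.Z_central (h.Q_le_S' (hA v.2)) hζZ
              calc ζ * u * (ζ * v * (ζ⁻¹ * ((v : G)⁻¹ * q)) * (v : G)⁻¹)
                  = ζ * u * (v * ζ * (ζ⁻¹ * ((v : G)⁻¹ * q)) * (v : G)⁻¹) := by rw [hζv]
                _ = ζ * u * (q * (v : G)⁻¹) := by group
                _ = _ := by rw [hq']
          _ = (u * ζ) * (ζ⁻¹ * ((v : G)⁻¹ * q)) := by rw [hζu, hq']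
          _ = _ := by group
  have hcA : ∀ a ∈ A, a * ((u : G) * (v : G)⁻¹) = (u : G) * (v : G)⁻¹ * a := fun a ha =>
    hc a ha _ (mul_mem u.2 (inv_mem v.2))
  have hB : A ⊔ zpowers q = h.Q := hfull (sup_le hA (zpowers_le.2 hq)) le_sup_left q
    (mem_sup_right (mem_zpowers q)) hqA
  have hle : A ⊔ zpowers q ≤ centralizer ({(u : G) * (v : G)⁻¹} : Set G) := sup_le
    (fun a ha => mem_centralizer_singleton_iff.2 (hcA a ha))
    (zpowers_le.2 (mem_centralizer_singleton_iff.2 hcomm))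
  exact (mem_centralizer_singleton_iff.1 (hle (hB.symm ▸ hb))).symm

theorem JQ_ge : 27 ≤ Nat.card ↥(h.J ⊓ h.Q) := by
  have hle : h.J ⊔ h.Q ≤ (h.S : Subgroup G) := sup_le h.hJS h.Q_le_S'
  let f : h.J → ↥(h.S : Subgroup G) ⧸ h.Q.subgroupOf h.S := fun a => QuotientGroup.mk ⟨a, h.hJS a.2⟩
  let g : h.J → (↥(h.S : Subgroup G) ⧸ h.Q.subgroupOf h.S) × ↥(h.J ⊓ h.Q) := fun a => (f a,
    if ha : ((Function.invFun f (f a) : h.J) : G)⁻¹ * a ∈ h.J ⊓ h.Q then ⟨_, ha⟩ else 1)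
  have hmem : ∀ a : h.J, ((Function.invFun f (f a) : h.J) : G)⁻¹ * a ∈ h.J ⊓ h.Q := by
    intro a
    refine ⟨Subgroup.mul_mem _ (Subgroup.inv_mem _ (Function.invFun f (f a) : h.J).2) a.2, ?_⟩
    have e : f (Function.invFun f (f a)) = f a := Function.invFun_eq ⟨a, rfl⟩
    have := QuotientGroup.eq.1 e
    rw [mem_subgroupOf] at this
    exact this
  have hg : Function.Injective g := by
    intro a b e
    obtain ⟨e1, e2⟩ := Prod.ext_iff.1 e
    change f a = f b at e1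
    simp only [g, dif_pos (hmem a), dif_pos (hmem b), Subtype.mk.injEq] at e2
    rw [e1] at e2
    exact Subtype.ext (mul_left_cancel e2)
  have := Nat.card_le_card_of_injective g hg
  have hidx : Nat.card (↥(h.S : Subgroup G) ⧸ h.Q.subgroupOf h.S) = 3 := by
    have h1 := card_eq_card_quotient_mul_card_subgroup (h.Q.subgroupOf (h.S : Subgroup G))
    rw [h.S_card', Nat.card_congr (subgroupOfEquivOfLe h.Q_le_S').toEquiv, h.hQcard] at h1
    omega
  rw [h.hJcard, Nat.card_prod, hidx] at this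
  omega

theorem JQ_card' : Nat.card ↥(h.J ⊓ h.Q) = 27 :=
  le_antisymm (h.abelian_le inf_le_right fun a ha b hb => h.hJcomm a ha.1 b hb.1) h.JQ_ge

theorem Z_le_J' : h.Z ≤ h.J := by
  have hc : ∀ a ∈ (h.J ⊓ h.Q) ⊔ h.Z, ∀ b ∈ (h.J ⊓ h.Q) ⊔ h.Z, a * b = b * a := by
    have h1 : (h.J ⊓ h.Q) ⊔ h.Z ≤ centralizer (((h.J ⊓ h.Q) ⊔ h.Z : Subgroup G) : Set G) := by
      have hJc : h.J ⊓ h.Q ≤ centralizer (((h.J ⊓ h.Q) ⊔ h.Z : Subgroup G) : Set G) := fun a ha => by
        have : (h.J ⊓ h.Q) ⊔ h.Z ≤ centralizer ({a} : Set G) := sup_le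
          (fun b hb => mem_centralizer_singleton_iff.2 (h.hJcomm b hb.1 a ha.1))
          (fun b hb => mem_centralizer_singleton_iff.2 (h.Z_central (h.Q_le_S' ha.2) hb))
        exact mem_centralizer_iff.2 fun b hb => mem_centralizer_singleton_iff.1 (this hb)
      refine sup_le hJc fun a ha => mem_centralizer_iff.2 fun b hb => ?_
      exact (h.Z_central ((sup_le (inf_le_right.trans h.Q_le_S') h.Z_le_S) hb) ha).symm
    intro a ha b hb
    exact (mem_centralizer_iff.1 (h1 ha) b hb).symm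
  have hle := h.abelian_le (sup_le inf_le_right h.Z_le_Q') hc
  intro x hx
  have heq : h.J ⊓ h.Q = (h.J ⊓ h.Q) ⊔ h.Z := eq_of_le_of_card_ge le_sup_left (by rw [h.JQ_card']; exact hle)
  have : x ∈ h.J ⊓ h.Q := heq ▸ mem_sup_right hx
  exact this.1

theorem exists_z : ∃ z, h.Z = zpowers z ∧ orderOf z = 3 := by
  haveI : Fact (Nat.Prime 3) := ⟨Nat.prime_three⟩
  obtain ⟨⟨z, hz⟩, ho⟩ := exists_prime_orderOf_dvd_card' (G := h.Z) 3 (by rw [h.card_Z])
  rw [Subgroup.orderOf_mk] at ho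
  exact ⟨z, (eq_of_le_of_card_ge (zpowers_le.2 hz) (by rw [Nat.card_zpowers, ho, h.card_Z])).symm, ho⟩

theorem centQ' : centralizer (h.Q : Set G) ≤ h.Q := by
  obtain ⟨z, hZz, hzo⟩ := h.exists_z
  have hzZ : z ∈ h.Z := hZz ▸ mem_zpowers z
  have hCN : centralizer ({z} : Set G) ≤ normalizer (h.Z : Set G) := by
    intro g hg
    have hgz : Commute g z := mem_centralizer_singleton_iff.1 hg
    refine mem_normalizer_iff.2 fun x => ?_
    rw [hZz]
    constructor
    · intro hx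
      obtain ⟨i, rfl⟩ := mem_zpowers_iff.1 hx
      rw [(hgz.zpow_right i).eq, mul_inv_cancel_right]
      exact zpow_mem (mem_zpowers z) i
    · intro hx
      obtain ⟨i, hi⟩ := mem_zpowers_iff.1 hx
      have : x = z ^ i := by
        calc x = g⁻¹ * (g * x * g⁻¹) * g := by group
          _ = g⁻¹ * z ^ i * g := by rw [hi]
          _ = g⁻¹ * (g * z ^ i) := by rw [mul_assoc, ← (hgz.zpow_right i).eq]
          _ = _ := by group
      rw [this]
      exact zpow_mem (mem_zpowers z) i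
  have hQC : h.Q ≤ centralizer ({z} : Set G) := fun q hq =>
    mem_centralizer_singleton_iff.2 (h.Z_central (h.Q_le_S' hq) hzZ).symm
  have hR : R3 z = h.Q := by
    refine le_antisymm ?_ ?_
    · -- `O₃(C(z))` is a normal 3-subgroup of `N(Z)`
      have hC' : normalizer (h.Z : Set G) ≤ normalizer (centralizer ({z} : Set G) : Set G) := by
        intro n hn
        have key : ∀ m ∈ normalizer (h.Z : Set G), ∀ c ∈ centralizer ({z} : Set G),
            m * c * m⁻¹ ∈ centralizer ({z} : Set G) := by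
          intro m hm c hc
          have hmz : m⁻¹ * z * m ∈ h.Z := by
            have := (mem_normalizer_iff.1 (inv_mem hm) z).1 hzZ
            rwa [inv_inv] at this
          rw [hZz] at hmz
          obtain ⟨i, hi⟩ := mem_zpowers_iff.1 hmz
          have hcz : Commute c z := mem_centralizer_singleton_iff.1 hc
          rw [mem_centralizer_singleton_iff]
          calc m * c * m⁻¹ * z = m * (c * (m⁻¹ * z * m)) * m⁻¹ := by group
            _ = m * ((m⁻¹ * z * m) * c) * m⁻¹ := by rw [← hi, (hcz.zpow_right i).eq]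
            _ = _ := by group
        refine mem_normalizer_iff.2 fun x => ⟨key n hn x, fun hx => ?_⟩
        have := key n⁻¹ (inv_mem hn) _ hx
        rwa [show n⁻¹ * (n * x * n⁻¹) * n⁻¹⁻¹ = x by group] at this
      set N := normalizer (h.Z : Set G) with hN
      set C := centralizer ({z} : Set G) with hC
      haveI : (C.subgroupOf N).Normal := ⟨fun x hx g => by
        rw [mem_subgroupOf] at hx ⊢
        exact (mem_normalizer_iff.1 (hC' g.2) _).1 hx⟩
      let e := subgroupOfEquivOfLe hCN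
      set R : Subgroup N := ((Cfsg.pCore 3 C).map e.symm.toMonoidHom).map (C.subgroupOf N).subtype with hRdef
      haveI hRn : R.Normal := by
        haveI : ((Cfsg.pCore 3 C).map e.symm.toMonoidHom).Characteristic := by
          rw [CfsgLib.Cores.map_pCore_equiv e.symm]
          infer_instance
        exact CfsgLib.Cores.normal_map_subtype _ _
      have hRp : IsPGroup 3 R := ((CfsgLib.Cores.isPGroup_pCore 3 C).map _).map _
      intro x hx
      rw [R3] at hx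
      obtain ⟨x', hx', rfl⟩ := hx
      rw [h.hQ]
      exact ⟨⟨x', hCN x'.2⟩, CfsgLib.Cores.le_pCore hRp ⟨e.symm x', ⟨x', hx', rfl⟩, rfl⟩, rfl⟩
    · intro q hq
      refine ⟨⟨q, hQC hq⟩, ?_, rfl⟩
      haveI : (h.Q.subgroupOf (centralizer ({z} : Set G))).Normal := ⟨fun x hx g => by
        rw [mem_subgroupOf] at hx ⊢
        exact (mem_normalizer_iff.1 (h.normZ_le_normQ (hCN g.2)) _).1 hx⟩
      exact CfsgLib.Cores.le_pCore (h.Q_pGroup.of_equiv (subgroupOfEquivOfLe hQC).symm) hq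
  have hz1 : z ≠ 1 := fun e => by rw [e, orderOf_one] at hzo; norm_num at hzo
  have := h.hiii z hz1 hZz
  rwa [hR] at this

/-- The elements of `Q` fixed by `x` modulo `Z`. -/
def fixQ (x : G) (hx : x ∈ normalizer (h.Z : Set G)) : Subgroup G where
  carrier := {a | a ∈ h.Q ∧ x * a * x⁻¹ * a⁻¹ ∈ h.Z}
  one_mem' := ⟨one_mem _, by simp⟩
  mul_mem' := by
    rintro a b ⟨ha, ha'⟩ ⟨hb, hb'⟩
    refine ⟨mul_mem ha hb, ?_⟩
    have hc := h.Z_central (h.Q_le_S' ha) hb'
    have e : x * (a * b) * x⁻¹ * (a * b)⁻¹ =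
        (x * a * x⁻¹) * ((x * b * x⁻¹ * b⁻¹) * a⁻¹) := by group
    rw [e, (Commute.inv_right (show Commute (x * b * x⁻¹ * b⁻¹) a from hc)).eq]
    have e2 : (x * a * x⁻¹) * (a⁻¹ * (x * b * x⁻¹ * b⁻¹)) =
        (x * a * x⁻¹ * a⁻¹) * (x * b * x⁻¹ * b⁻¹) := by group
    rw [e2]
    exact mul_mem ha' hb'
  inv_mem' := by
    rintro a ⟨ha, ha'⟩
    refine ⟨inv_mem ha, ?_⟩
    have hc := h.Z_central (h.Q_le_S' ha) (inv_mem ha')
    have e : x * a⁻¹ * x⁻¹ * a⁻¹⁻¹ = a⁻¹ * ((x * a * x⁻¹ * a⁻¹)⁻¹ * a) := by group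
    rw [e, hc, inv_mul_cancel_left]
    exact inv_mem ha'

theorem mem_fixQ {x : G} (hx : x ∈ normalizer (h.Z : Set G)) {a : G} :
    a ∈ h.fixQ x hx ↔ a ∈ h.Q ∧ x * a * x⁻¹ * a⁻¹ ∈ h.Z := Iff.rfl

theorem fix_mul {x y a : G} (hx : x ∈ normalizer (h.Z : Set G))
    (h1 : x * a * x⁻¹ * a⁻¹ ∈ h.Z) (h2 : y * a * y⁻¹ * a⁻¹ ∈ h.Z) :
    x * y * a * (x * y)⁻¹ * a⁻¹ ∈ h.Z := by
  rw [show x * y * a * (x * y)⁻¹ * a⁻¹ =
    (x * (y * a * y⁻¹ * a⁻¹) * x⁻¹) * (x * a * x⁻¹ * a⁻¹) by group]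
  exact mul_mem ((mem_normalizer_iff.1 hx _).1 h2) h1

/-- An element of `S ∖ Q` fixes at most `27` elements of `Q` modulo `Z`. -/
theorem card_fixQ_le {c : G} (hc : c ∈ h.S) (hcQ : c ∉ h.Q) :
    Nat.card (h.fixQ c (h.S_le_normZ hc)) ≤ 27 := by
  haveI : Fact (Nat.Prime 3) := ⟨Nat.prime_three⟩
  set F := h.fixQ c (h.S_le_normZ hc) with hF
  have hFQ : F ≤ h.Q := fun a ha => ha.1
  by_contra hlt
  have hF81 : 81 ≤ Nat.card F := by
    obtain ⟨k, hk⟩ := IsPGroup.iff_card.1 (h.Q_pGroup.to_le hFQ)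
    rcases Nat.lt_or_ge k 4 with h4 | h4
    · have : 3 ^ k ≤ 3 ^ 3 := Nat.pow_le_pow_right (by norm_num) (by omega)
      omega
    · rw [hk]
      exact le_trans (by norm_num) (Nat.pow_le_pow_right (by norm_num : 1 ≤ 3) h4)
  -- the image of `c` and a conjugate generate an element of order five
  set cL : h.L := ⟨c, h.S_le_L' hc⟩ with hcL
  have hc3 : (h.φL cL) ^ 3 = 1 := by
    obtain ⟨k, hk⟩ := IsPGroup.iff_orderOf.1 h.S.2 ⟨c, hc⟩
    rw [Subgroup.orderOf_mk] at hk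
    have h1 : orderOf (h.φL cL) ∣ 3 ^ k := by
      refine (orderOf_map_dvd _ _).trans ?_
      rw [hcL, Subgroup.orderOf_mk, hk]
    have h2 : orderOf (h.φL cL) ∣ 120 := card_sl25 ▸ orderOf_dvd_natCard _
    have h3 : orderOf (h.φL cL) ∣ 3 := by
      obtain ⟨m, -, hm⟩ := (Nat.dvd_prime_pow Nat.prime_three).1 h1
      rw [hm] at h2 ⊢
      rcases m with _ | _ | m
      · norm_num
      · norm_num
      · exfalso
        have : 3 ^ 2 ∣ 120 := (pow_dvd_pow 3 (by omega)).trans h2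
        norm_num at this
    exact orderOf_dvd_iff_pow_eq_one.1 h3
  have hc1 : h.φL cL ≠ 1 := by
    rw [Ne, ← MonoidHom.mem_ker, h.φL_ker, mem_subgroupOf]
    exact hcQ
  obtain ⟨hh, hconj⟩ := sl_three_conj hc3 hc1
  obtain ⟨a, ha⟩ := h.φL_surj (hh * sl1 * hh⁻¹)
  set f0 : h.L := (cL * (a * cL * a⁻¹)) ^ 2 with hf0
  have hf5 : h.φL f0 ^ 5 = 1 ∧ h.φL f0 ≠ 1 := by
    rw [hf0, map_pow, map_mul, map_mul, map_mul, map_inv, ha]
    rcases hconj with e | e <;> rw [e]
    · have e' : hh * sl0 * hh⁻¹ * (hh * sl1 * hh⁻¹ * (hh * sl0 * hh⁻¹) * (hh * sl1 * hh⁻¹)⁻¹) =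
          hh * (sl0 * (sl1 * sl0 * sl1⁻¹)) * hh⁻¹ := by group
      rw [e', conj_pow]
      refine ⟨?_, ?_⟩
      · rw [conj_pow, sl0_facts.2.2.1.1]; group
      · rw [Ne, conj_eq_one_iff]; exact sl0_facts.2.2.1.2
    · have e' : hh * sl0 ^ 2 * hh⁻¹ *
          (hh * sl1 * hh⁻¹ * (hh * sl0 ^ 2 * hh⁻¹) * (hh * sl1 * hh⁻¹)⁻¹) =
          hh * (sl0 ^ 2 * (sl1 * sl0 ^ 2 * sl1⁻¹)) * hh⁻¹ := by group
      rw [e', conj_pow]
      refine ⟨?_, ?_⟩
      · rw [conj_pow, sl0_facts.2.2.2.1]; group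
      · rw [Ne, conj_eq_one_iff]; exact sl0_facts.2.2.2.2
  set f : G := (f0 : G) ^ 3 with hf
  have hfL : f ∈ h.L := pow_mem f0.2 3
  have hfN := h.L_le_normZ hfL
  have hf55 : f ^ 5 = 1 := by
    have h5 : ((f0 : G)) ^ 5 ∈ h.Q := by
      have : f0 ^ 5 ∈ h.φL.ker := by rw [MonoidHom.mem_ker, map_pow]; exact hf5.1
      rwa [h.φL_ker, mem_subgroupOf] at this
    rw [hf, ← pow_mul, show 3 * 5 = 5 * 3 from rfl, pow_mul]
    exact h.hQexp _ h5
  -- `f` fixes a subgroup `W` of order at least `27` modulo `Z`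
  set aN : G := (a : G) with haN
  have haQ : ∀ q ∈ h.Q, aN * q * aN⁻¹ ∈ h.Q := fun q hq =>
    (mem_normalizer_iff.1 (h.normZ_le_normQ (h.L_le_normZ a.2)) q).1 hq
  set W : Subgroup G := F ⊓ F.map (MulAut.conj aN).toMonoidHom with hW
  have hW27 : 27 ≤ Nat.card W := by
    set F' := F.map (MulAut.conj aN).toMonoidHom with hF'
    have hF'Q : F' ≤ h.Q := by rintro _ ⟨q, hq, rfl⟩; exact haQ q (hFQ hq)
    have hF'c : Nat.card F' = Nat.card F := card_map_of_injective (MulAut.conj aN).injective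
    let m : F × F' → h.Q := fun p => ⟨p.1 * p.2, mul_mem (hFQ p.1.2) (hF'Q p.2.2)⟩
    let g : F × F' → h.Q × W := fun p => (m p,
      if hp : ((Function.invFun m (m p) : F × F').1 : G)⁻¹ * p.1 ∈ W then ⟨_, hp⟩ else 1)
    have hmem : ∀ p : F × F', ((Function.invFun m (m p) : F × F').1 : G)⁻¹ * p.1 ∈ W := by
      intro p
      set r := Function.invFun m (m p) with hr
      have e : (r.1 : G) * r.2 = p.1 * p.2 :=
        congrArg Subtype.val (Function.invFun_eq (f := m) ⟨p, rfl⟩)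
      refine ⟨Subgroup.mul_mem _ (Subgroup.inv_mem _ r.1.2) p.1.2, ?_⟩
      have : (r.1 : G)⁻¹ * p.1 = r.2 * (p.2 : G)⁻¹ := by
        rw [eq_mul_inv_iff_mul_eq, mul_assoc, ← e, inv_mul_cancel_left]
      rw [this]
      exact Subgroup.mul_mem _ r.2.2 (Subgroup.inv_mem _ p.2.2)
    have hg : Function.Injective g := by
      intro p q e
      obtain ⟨e1, e2⟩ := Prod.ext_iff.1 e
      change m p = m q at e1
      simp only [g, dif_pos (hmem p), dif_pos (hmem q), Subtype.mk.injEq] at e2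
      rw [e1] at e2
      have e3 : (p.1 : G) = q.1 := mul_left_cancel e2
      have e4 : (p.1 : G) * p.2 = q.1 * q.2 := congrArg Subtype.val e1
      rw [e3] at e4
      exact Prod.ext (Subtype.ext e3) (Subtype.ext (mul_left_cancel e4))
    have := Nat.card_le_card_of_injective g hg
    rw [Nat.card_prod, Nat.card_prod, h.hQcard, hF'c] at this
    have := Nat.mul_le_mul hF81 hF81
    omega
  have hWQ : W ≤ h.Q := inf_le_left.trans hFQ
  have hZF : h.Z ≤ F := fun x hx => ⟨h.Z_le_Q' hx, by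
    have : c * x * c⁻¹ = x := by rw [← h.Z_central hc hx, mul_inv_cancel_right]
    rw [this, mul_inv_cancel]; exact one_mem _⟩
  have hZW : h.Z ≤ W := by
    refine le_inf hZF fun x hx => ?_
    refine ⟨aN⁻¹ * x * aN, hZF ?_, ?_⟩
    · have := (mem_normalizer_iff.1 (inv_mem (h.L_le_normZ a.2)) x).1 hx
      rwa [inv_inv] at this
    · show aN * (aN⁻¹ * x * aN) * aN⁻¹ = x
      group
  have hcN := h.S_le_normZ hc
  have hacN : aN * c * aN⁻¹ ∈ normalizer (h.Z : Set G) :=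
    mul_mem (mul_mem (h.L_le_normZ a.2) hcN) (inv_mem (h.L_le_normZ a.2))
  have hfW : ∀ w ∈ W, f * w * f⁻¹ * w⁻¹ ∈ h.Z := by
    intro w hw
    have h2 : aN * c * aN⁻¹ * w * (aN * c * aN⁻¹)⁻¹ * w⁻¹ ∈ h.Z := by
      obtain ⟨q, hq, rfl⟩ := hw.2
      show aN * c * aN⁻¹ * (aN * q * aN⁻¹) * (aN * c * aN⁻¹)⁻¹ * (aN * q * aN⁻¹)⁻¹ ∈ h.Z
      rw [show aN * c * aN⁻¹ * (aN * q * aN⁻¹) * (aN * c * aN⁻¹)⁻¹ * (aN * q * aN⁻¹)⁻¹ =
        aN * (c * q * c⁻¹ * q⁻¹) * aN⁻¹ by group]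
      exact (mem_normalizer_iff.1 (h.L_le_normZ a.2) _).1 hq.2
    have h12 := h.fix_mul hcN hw.1.2 h2
    have h24 := h.fix_mul (mul_mem hcN hacN) h12 h12
    have e : (f0 : G) = c * (aN * c * aN⁻¹) * (c * (aN * c * aN⁻¹)) := by
      rw [hf0, pow_two]; rfl
    rw [hf, e, pow_succ, pow_two]
    have hNN := mul_mem (mul_mem hcN hacN) (mul_mem hcN hacN)
    exact h.fix_mul (mul_mem hNN hNN) (h.fix_mul hNN h24 h24) h24
  -- `f` fixes everything modulo `W`, hence modulo `Z`, hence centralises `Q`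
  have hWn : ∀ q ∈ h.Q, ∀ w ∈ W, q * w * q⁻¹ ∈ W := fun q hq w hw => by
    have := mul_mem (hZW (h.Q_comm' q hq w (hWQ hw))) hw
    rwa [inv_mul_cancel_right] at this
  haveI : (W.subgroupOf h.Q).Normal := ⟨fun x hx g => by
    rw [mem_subgroupOf] at hx ⊢; exact hWn g g.2 x hx⟩
  have hfQ : ∀ q ∈ h.Q, f * q * f⁻¹ ∈ h.Q := fun q hq =>
    (mem_normalizer_iff.1 (h.normZ_le_normQ hfN) q).1 hq
  have hfWW : ∀ w ∈ W, f * w * f⁻¹ ∈ W := fun w hw => by
    have := mul_mem (hZW (hfW w hw)) hw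
    rwa [inv_mul_cancel_right] at this
  have hmodW : ∀ q ∈ h.Q, f * q * f⁻¹ * q⁻¹ ∈ W := by
    classical
    haveI : Fintype (h.Q ⧸ W.subgroupOf h.Q) := Fintype.ofFinite _
    let φ : h.Q →* h.Q :=
      { toFun := fun q => ⟨f * q * f⁻¹, hfQ q q.2⟩
        map_one' := Subtype.ext (by simp)
        map_mul' := fun p q => Subtype.ext (by push_cast; group) }
    have hφW : W.subgroupOf h.Q ≤ (W.subgroupOf h.Q).comap φ := fun x hx => hfWW _ hx
    let σh : h.Q ⧸ W.subgroupOf h.Q →* h.Q ⧸ W.subgroupOf h.Q := QuotientGroup.map _ _ φ hφW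
    have hiter : ∀ (n : ℕ) (q : h.Q),
        (σh^[n]) (QuotientGroup.mk q) = QuotientGroup.mk ((φ : h.Q → h.Q)^[n] q) := by
      intro n
      induction n with
      | zero => intro q; rfl
      | succ n ih =>
        intro q
        rw [Function.iterate_succ_apply', Function.iterate_succ_apply', ih]
        rfl
    have hφn : ∀ (n : ℕ) (q : h.Q), (((φ : h.Q → h.Q)^[n] q : h.Q) : G) = f ^ n * q * (f ^ n)⁻¹ := by
      intro n
      induction n with
      | zero => intro q; simp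
      | succ n ih =>
        intro q
        rw [Function.iterate_succ_apply']
        show f * _ * f⁻¹ = _
        rw [ih, pow_succ']; group
    have hσ5 : ∀ x, (σh^[5]) x = x := by
      intro x
      obtain ⟨q, rfl⟩ := QuotientGroup.mk_surjective x
      rw [hiter]
      congr 1
      apply Subtype.ext
      rw [hφn, hf55]; group
    let σ : Equiv.Perm (h.Q ⧸ W.subgroupOf h.Q) :=
      { toFun := σh
        invFun := σh^[4]
        left_inv := fun x => by
          rw [← Function.iterate_succ_apply]; exact hσ5 x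
        right_inv := fun x => by
          rw [← Function.iterate_succ_apply' σh]; exact hσ5 x }
    have hσp : σ ^ (5 ^ 1) = 1 := by
      ext x
      rw [pow_one, Equiv.Perm.coe_pow]
      exact hσ5 x
    haveI : Fact (Nat.Prime 5) := ⟨by norm_num⟩
    have hmod := Equiv.Perm.card_compl_support_modEq hσp
    set Fx : Subgroup (h.Q ⧸ W.subgroupOf h.Q) := σh.eqLocus (MonoidHom.id _) with hFx
    have hFxc : Nat.card Fx = (σ.supportᶜ).card := by
      rw [← Nat.card_eq_finsetCard]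
      refine Nat.card_congr (Equiv.subtypeEquivRight fun x => ?_)
      rw [Finset.mem_compl, Equiv.Perm.mem_support, not_not]
      rfl
    have hd : Nat.card Fx ∣ Nat.card (h.Q ⧸ W.subgroupOf h.Q) := card_subgroup_dvd_card Fx
    have hn : Nat.card (h.Q ⧸ W.subgroupOf h.Q) ≤ 9 := by
      have := card_eq_card_quotient_mul_card_subgroup (W.subgroupOf h.Q)
      rw [h.hQcard, Nat.card_congr (subgroupOfEquivOfLe hWQ).toEquiv] at this
      nlinarith [Nat.mul_le_mul_left (Nat.card (h.Q ⧸ W.subgroupOf h.Q)) hW27]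
    have hn3 : Nat.card (h.Q ⧸ W.subgroupOf h.Q) ∣ 243 :=
      h.hQcard ▸ card_quotient_dvd_card (W.subgroupOf h.Q)
    rw [← hFxc, ← Nat.card_eq_fintype_card] at hmod
    have htop : Fx = ⊤ := by
      refine eq_top_of_card_eq _ ?_
      have key : ∀ n : Fin 10, ∀ m : Fin 10, n.val ∣ 243 → m.val ∣ n.val →
          m.val % 5 = n.val % 5 → m.val = n.val := by decide
      have hm : Nat.card Fx ≤ Nat.card (h.Q ⧸ W.subgroupOf h.Q) :=
        Nat.le_of_dvd Nat.card_pos hd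
      exact key ⟨Nat.card (h.Q ⧸ W.subgroupOf h.Q), by omega⟩ ⟨Nat.card Fx, by omega⟩ hn3 hd hmod
    intro q hq
    have hx : QuotientGroup.mk (⟨q, hq⟩ : h.Q) ∈ Fx := htop ▸ mem_top _
    have hx' : σh (QuotientGroup.mk (⟨q, hq⟩ : h.Q)) = QuotientGroup.mk (⟨q, hq⟩ : h.Q) := hx
    have := (QuotientGroup.eq (s := W.subgroupOf h.Q)).1 hx'.symm
    rw [mem_subgroupOf] at this
    have hw : q⁻¹ * (f * q * f⁻¹) ∈ W := this
    have := hWn q hq _ hw
    rwa [show q * (q⁻¹ * (f * q * f⁻¹)) * q⁻¹ = f * q * f⁻¹ * q⁻¹ by group] at this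
  have hmodZ : ∀ q ∈ h.Q, f * q * f⁻¹ * q⁻¹ ∈ h.Z := by
    intro q hq
    set w := f * q * f⁻¹ * q⁻¹ with hwdef
    have hw : w ∈ W := hmodW q hq
    have hn : ∀ n : ℕ, f ^ n * q * (f ^ n)⁻¹ * (w ^ n * q)⁻¹ ∈ h.Z := by
      intro n
      induction n with
      | zero => simp
      | succ n ih =>
        have hwn : f * w ^ n * f⁻¹ * (w ^ n)⁻¹ ∈ h.Z := hfW _ (pow_mem hw n)
        have h1 : f * (f ^ n * q * (f ^ n)⁻¹ * (w ^ n * q)⁻¹) * f⁻¹ ∈ h.Z :=
          (mem_normalizer_iff.1 hfN _).1 ih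
        have hprod := mul_mem h1 hwn
        refine (show f ^ (n + 1) * q * (f ^ (n + 1))⁻¹ * (w ^ (n + 1) * q)⁻¹ =
          f * (f ^ n * q * (f ^ n)⁻¹ * (w ^ n * q)⁻¹) * f⁻¹ * (f * w ^ n * f⁻¹ * (w ^ n)⁻¹) from ?_) ▸ hprod
        rw [pow_succ' f n, pow_succ w n, hwdef]
        group
    have := hn 5
    rw [hf55] at this
    simp only [one_mul, inv_one, mul_one, mul_inv_rev] at this
    rw [mul_inv_cancel_left] at this
    have h10 := pow_mem this 2
    rw [inv_pow, ← pow_mul] at h10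
    have h10' := inv_mem h10
    rw [inv_inv] at h10'
    have hw3 : w ^ 3 = 1 := h.hQexp w (hWQ hw)
    rwa [show 5 * 2 = 3 * 3 + 1 from rfl, pow_succ, pow_mul, hw3, one_pow, one_mul] at h10'
  have hfz : ∀ x ∈ h.Z, f * x * f⁻¹ = x := by
    intro x hx
    by_contra hne
    have hx3 : x ^ 3 = 1 := h.hQexp x (h.Z_le_Q' hx)
    have hx1 : x ≠ 1 := fun e => hne (by simp [e])
    have hZx : zpowers x = h.Z := eq_of_le_of_card_ge (zpowers_le.2 hx)
      (by rw [h.card_Z, Nat.card_zpowers, orderOf_eq_prime hx3 hx1])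
    have hmem : f * x * f⁻¹ ∈ zpowers x := hZx ▸ (mem_normalizer_iff.1 hfN x).1 hx
    obtain ⟨m, hm⟩ := mem_powers_iff_mem_zpowers.2 hmem
    change x ^ m = _ at hm
    rw [pow_eq_pow_mod m hx3] at hm
    have : m % 3 = 0 ∨ m % 3 = 1 ∨ m % 3 = 2 := by omega
    rcases this with h0 | h0 | h0 <;> rw [h0] at hm
    · rw [pow_zero] at hm; exact hx1 (conj_eq_one_iff.1 hm.symm)
    · exact hne (by simpa using hm.symm)
    · have hinv : f * x * f⁻¹ = x⁻¹ := by
        rw [← hm]; exact eq_inv_of_mul_eq_one_left (by rw [← pow_succ]; exact hx3)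
      have h2 : f ^ 2 * x * (f ^ 2)⁻¹ = x := by
        calc f ^ 2 * x * (f ^ 2)⁻¹ = f * (f * x * f⁻¹) * f⁻¹ := by rw [pow_two]; group
          _ = x := by rw [hinv, ← conj_inv, hinv, inv_inv]
      have h6 : f ^ 6 * x * (f ^ 6)⁻¹ = x := by
        calc f ^ 6 * x * (f ^ 6)⁻¹ = f ^ 2 * (f ^ 2 * (f ^ 2 * x * (f ^ 2)⁻¹) * (f ^ 2)⁻¹) * (f ^ 2)⁻¹ := by
              group
          _ = x := by rw [h2, h2, h2]
      rw [show f ^ 6 = f by rw [pow_succ, hf55, one_mul]] at h6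
      exact hne h6
  have hcent : f ∈ centralizer (h.Q : Set G) := by
    refine mem_centralizer_iff.2 fun q hq => ?_
    set ζ := f * q * f⁻¹ * q⁻¹ with hζ
    have hζZ : ζ ∈ h.Z := hmodZ q hq
    have hn : ∀ n : ℕ, f ^ n * q * (f ^ n)⁻¹ = ζ ^ n * q := by
      intro n
      induction n with
      | zero => simp
      | succ n ih =>
        calc f ^ (n + 1) * q * (f ^ (n + 1))⁻¹ = f * (f ^ n * q * (f ^ n)⁻¹) * f⁻¹ := by
              rw [pow_succ']; group
          _ = (f * ζ ^ n * f⁻¹) * (f * q * f⁻¹) := by rw [ih]; group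
          _ = ζ ^ (n + 1) * q := by
              rw [hfz _ (pow_mem hζZ n), pow_succ, hζ]; group
    have h5 := hn 5
    rw [hf55] at h5
    simp only [one_mul, inv_one, mul_one] at h5
    have h5' : ζ ^ 5 = 1 := mul_eq_right.1 h5.symm
    have h3' : ζ ^ 3 = 1 := h.hQexp ζ (h.Z_le_Q' hζZ)
    have hζ1 : ζ = 1 := by
      calc ζ = ζ ^ 5 * ζ ^ 5 * (ζ ^ 3 * ζ ^ 3 * ζ ^ 3)⁻¹ := by group
        _ = 1 := by rw [h5', h3']; group
    rw [hζ, mul_inv_eq_one, mul_inv_eq_iff_eq_mul] at hζ1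
    exact hζ1.symm
  have hfQ' : f ∈ h.Q := h.centQ' hcent
  apply hf5.2
  have hmem : f0 ^ 3 ∈ h.φL.ker := by rw [h.φL_ker, mem_subgroupOf]; exact hfQ'
  rw [MonoidHom.mem_ker, map_pow] at hmem
  calc h.φL f0 = (h.φL f0 ^ 5) ^ 2 * ((h.φL f0 ^ 3) ^ 3)⁻¹ := by group
    _ = 1 := by rw [hf5.1, hmem]; group

theorem J_moves' : ∀ d ∈ h.J, d ∉ h.Q → ∃ a ∈ h.Q, d * a * d⁻¹ * a⁻¹ ∉ h.Z := by
  intro d hd hdQ
  by_contra hcon
  push Not at hcon
  have hle : h.Q ≤ h.fixQ d (h.S_le_normZ (h.hJS hd)) := fun a ha => ⟨ha, hcon a ha⟩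
  have := (card_le_of_le hle).trans (h.card_fixQ_le (h.hJS hd) hdQ)
  rw [h.hQcard] at this
  omega

/-- `J` is the centraliser of `J ∩ Q` in `S`. -/
theorem cent_JQ {x : G} (hx : x ∈ h.S) (hxc : ∀ a ∈ h.J ⊓ h.Q, x * a = a * x) : x ∈ h.J := by
  set C : Subgroup G := (h.S : Subgroup G) ⊓ centralizer ((h.J ⊓ h.Q : Subgroup G) : Set G) with hC
  have hJC : h.J ≤ C := le_inf h.hJS fun a ha =>
    mem_centralizer_iff.2 fun b hb => h.hJcomm b hb.1 a ha
  have hCQ : C ⊓ h.Q ≤ h.J ⊓ h.Q := by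
    intro y hy
    have hcomm : ∀ a ∈ (h.J ⊓ h.Q) ⊔ zpowers y, ∀ b ∈ (h.J ⊓ h.Q) ⊔ zpowers y, a * b = b * a := by
      have hy' : ∀ a ∈ h.J ⊓ h.Q, a * y = y * a := fun a ha => mem_centralizer_iff.1 hy.1.2 a ha
      have hle : ∀ v : G, (∀ a ∈ h.J ⊓ h.Q, a * v = v * a) → y * v = v * y →
          (h.J ⊓ h.Q) ⊔ zpowers y ≤ centralizer ({v} : Set G) := fun v h1 h2 =>
        sup_le (fun a ha => mem_centralizer_singleton_iff.2 (h1 a ha))
          (zpowers_le.2 (mem_centralizer_singleton_iff.2 h2))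
      intro a ha b hb
      have hby : y * b = b * y :=
        (mem_centralizer_singleton_iff.1 (hle y hy' rfl hb)).symm
      have hbP : ∀ c ∈ h.J ⊓ h.Q, c * b = b * c := fun c hc =>
        (mem_centralizer_singleton_iff.1 (hle c (fun a ha => h.hJcomm a ha.1 c hc.1)
          (hy' c hc).symm hb)).symm
      exact mem_centralizer_singleton_iff.1 (hle b hbP hby ha)
    have hb := h.abelian_le (sup_le inf_le_right (zpowers_le.2 hy.2)) hcomm
    have heq : h.J ⊓ h.Q = (h.J ⊓ h.Q) ⊔ zpowers y :=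
      eq_of_le_of_card_ge le_sup_left (by rw [h.JQ_card']; exact hb)
    rw [heq]; exact mem_sup_right (mem_zpowers y)
  have hCc : Nat.card C ≤ 81 := by
    let f : C → ↥(h.S : Subgroup G) ⧸ h.Q.subgroupOf h.S := fun a => QuotientGroup.mk ⟨a, a.2.1⟩
    let g : C → (↥(h.S : Subgroup G) ⧸ h.Q.subgroupOf h.S) × ↥(C ⊓ h.Q) := fun a => (f a,
      if ha : ((Function.invFun f (f a) : C) : G)⁻¹ * a ∈ C ⊓ h.Q then ⟨_, ha⟩ else 1)
    have hmem : ∀ a : C, ((Function.invFun f (f a) : C) : G)⁻¹ * a ∈ C ⊓ h.Q := by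
      intro a
      refine ⟨Subgroup.mul_mem _ (Subgroup.inv_mem _ (Function.invFun f (f a) : C).2) a.2, ?_⟩
      have e : f (Function.invFun f (f a)) = f a := Function.invFun_eq ⟨a, rfl⟩
      have := QuotientGroup.eq.1 e
      rw [mem_subgroupOf] at this
      exact this
    have hg : Function.Injective g := by
      intro a b e
      obtain ⟨e1, e2⟩ := Prod.ext_iff.1 e
      change f a = f b at e1
      simp only [g, dif_pos (hmem a), dif_pos (hmem b), Subtype.mk.injEq] at e2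
      rw [e1] at e2
      exact Subtype.ext (mul_left_cancel e2)
    have := Nat.card_le_card_of_injective g hg
    have hidx : Nat.card (↥(h.S : Subgroup G) ⧸ h.Q.subgroupOf h.S) = 3 := by
      have h1 := card_eq_card_quotient_mul_card_subgroup (h.Q.subgroupOf (h.S : Subgroup G))
      rw [h.S_card', Nat.card_congr (subgroupOfEquivOfLe h.Q_le_S').toEquiv, h.hQcard] at h1
      omega
    have h27 := card_le_of_le hCQ
    rw [h.JQ_card'] at h27
    rw [Nat.card_prod, hidx] at this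
    omega
  have heq : h.J = C := eq_of_le_of_card_ge hJC (by rw [h.hJcard]; exact hCc)
  rw [heq]
  exact ⟨hx, mem_centralizer_iff.2 fun a ha => (hxc a ha).symm⟩

theorem exists_J_not_Q : ∃ d ∈ h.J, d ∉ h.Q := by
  by_contra hcon
  push Not at hcon
  have := h.abelian_le (A := h.J) hcon h.hJcomm
  rw [h.hJcard] at this
  omega

theorem JQ_sup' : h.J ⊔ h.Q = (h.S : Subgroup G) := by
  have hle : h.J ⊔ h.Q ≤ (h.S : Subgroup G) := sup_le h.hJS h.Q_le_S'
  refine eq_of_le_of_card_ge hle ?_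
  obtain ⟨d, hd, hdQ⟩ := h.exists_J_not_Q
  obtain ⟨k, hk⟩ := IsPGroup.iff_card.1 (h.S.2.to_le hle)
  rw [h.S_card', hk]
  have : 6 ≤ k := by
    by_contra hk6
    have hle' : Nat.card ↥(h.J ⊔ h.Q) ≤ Nat.card h.Q := by
      rw [hk, h.hQcard]
      calc 3 ^ k ≤ 3 ^ 5 := Nat.pow_le_pow_right (by norm_num) (by omega)
        _ = 243 := by norm_num
    exact hdQ ((eq_of_le_of_card_ge le_sup_right hle').symm ▸ mem_sup_left hd)
  calc (729 : ℕ) = 3 ^ 6 := by norm_num
    _ ≤ 3 ^ k := Nat.pow_le_pow_right (by norm_num) this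

theorem J_only' : ∀ A : Subgroup G, A ≤ h.S → Nat.card A = 81 → (∀ a ∈ A, ∀ b ∈ A, a * b = b * a) →
    A = h.J := by
  intro A hAS hA hAc
  obtain ⟨a, ha, haQ⟩ : ∃ a ∈ A, a ∉ h.Q := by
    by_contra hcon
    push Not at hcon
    have := h.abelian_le (A := A) hcon hAc
    omega
  obtain ⟨d, hd, hdQ⟩ := h.exists_J_not_Q
  -- `d` is congruent to a power of `a` modulo `Q`
  obtain ⟨i, q, hq, hdq⟩ : ∃ i : ℕ, ∃ q ∈ h.Q, d = a ^ i * q := by
    have hidx : (h.Q.subgroupOf (h.S : Subgroup G)).index = 3 := by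
      have h1 := (h.Q.subgroupOf (h.S : Subgroup G)).card_mul_index
      rw [h.S_card', Nat.card_congr (subgroupOfEquivOfLe h.Q_le_S').toEquiv, h.hQcard] at h1
      omega
    haveI : (h.Q.subgroupOf (h.S : Subgroup G)).Normal := ⟨fun x hx g => by
      rw [mem_subgroupOf] at hx ⊢
      exact (mem_normalizer_iff.1 (h.normZ_le_normQ (h.S_le_normZ g.2)) _).1 hx⟩
    haveI : Fact (Nat.Prime 3) := ⟨Nat.prime_three⟩
    have hcardq : Nat.card (↥(h.S : Subgroup G) ⧸ h.Q.subgroupOf h.S) = 3 := by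
      rw [← index_eq_card, hidx]
    have hne : (QuotientGroup.mk (⟨a, hAS ha⟩ : (h.S : Subgroup G)) :
        ↥(h.S : Subgroup G) ⧸ h.Q.subgroupOf h.S) ≠ 1 := by
      rw [Ne, QuotientGroup.eq_one_iff, mem_subgroupOf]
      exact haQ
    obtain ⟨i, hi⟩ := mem_powers_iff_mem_zpowers.2
      (mem_zpowers_of_prime_card hcardq hne (g' := QuotientGroup.mk ⟨d, h.hJS hd⟩))
    refine ⟨i, (a ^ i)⁻¹ * d, ?_, by group⟩
    have hi' : QuotientGroup.mk ((⟨a, hAS ha⟩ : (h.S : Subgroup G)) ^ i) =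
        (QuotientGroup.mk ⟨d, h.hJS hd⟩ : ↥(h.S : Subgroup G) ⧸ h.Q.subgroupOf h.S) := by
      rw [QuotientGroup.mk_pow]; exact hi
    have := (QuotientGroup.eq).1 hi'
    rw [mem_subgroupOf] at this
    exact this
  set F := h.fixQ d (h.S_le_normZ (h.hJS hd)) with hF
  have hP : h.J ⊓ h.Q ≤ F := fun b hb => ⟨hb.2, by
    rw [h.hJcomm d hd b hb.1, mul_inv_cancel_right, mul_inv_cancel]; exact one_mem _⟩
  have hFP : F = h.J ⊓ h.Q :=
    (eq_of_le_of_card_ge hP (by rw [h.JQ_card']; exact h.card_fixQ_le (h.hJS hd) hdQ)).symm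
  have hAP : A ⊓ h.Q ≤ h.J ⊓ h.Q := by
    intro b hb
    rw [← hFP]
    refine ⟨hb.2, ?_⟩
    have hab : a ^ i * b = b * a ^ i := hAc _ (pow_mem ha i) _ hb.1
    rw [hdq, show a ^ i * q * b * (a ^ i * q)⁻¹ * b⁻¹ =
      a ^ i * (q * b * q⁻¹ * b⁻¹) * (b * (a ^ i)⁻¹ * b⁻¹) by group]
    have hζ := h.Q_comm' q hq b hb.2
    have : b * (a ^ i)⁻¹ * b⁻¹ = (a ^ i)⁻¹ := by
      rw [← (Commute.inv_left (show Commute (a ^ i) b from hab)).eq, mul_inv_cancel_right]
    rw [this, ← h.Z_central (pow_mem (hAS ha) i) hζ,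
      mul_inv_cancel_right]
    exact hζ
  have hAQ27 : 27 ≤ Nat.card ↥(A ⊓ h.Q) := by
    let f : A → ↥(h.S : Subgroup G) ⧸ h.Q.subgroupOf h.S := fun a => QuotientGroup.mk ⟨a, hAS a.2⟩
    let g : A → (↥(h.S : Subgroup G) ⧸ h.Q.subgroupOf h.S) × ↥(A ⊓ h.Q) := fun a => (f a,
      if ha : ((Function.invFun f (f a) : A) : G)⁻¹ * a ∈ A ⊓ h.Q then ⟨_, ha⟩ else 1)
    have hmem : ∀ a : A, ((Function.invFun f (f a) : A) : G)⁻¹ * a ∈ A ⊓ h.Q := by
      intro a
      refine ⟨Subgroup.mul_mem _ (Subgroup.inv_mem _ (Function.invFun f (f a) : A).2) a.2, ?_⟩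
      have e : f (Function.invFun f (f a)) = f a := Function.invFun_eq ⟨a, rfl⟩
      have := QuotientGroup.eq.1 e
      rw [mem_subgroupOf] at this
      exact this
    have hg : Function.Injective g := by
      intro a b e
      obtain ⟨e1, e2⟩ := Prod.ext_iff.1 e
      change f a = f b at e1
      simp only [g, dif_pos (hmem a), dif_pos (hmem b), Subtype.mk.injEq] at e2
      rw [e1] at e2
      exact Subtype.ext (mul_left_cancel e2)
    have := Nat.card_le_card_of_injective g hg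
    have hidx : Nat.card (↥(h.S : Subgroup G) ⧸ h.Q.subgroupOf h.S) = 3 := by
      have h1 := card_eq_card_quotient_mul_card_subgroup (h.Q.subgroupOf (h.S : Subgroup G))
      rw [h.S_card', Nat.card_congr (subgroupOfEquivOfLe h.Q_le_S').toEquiv, h.hQcard] at h1
      omega
    rw [hA, Nat.card_prod, hidx] at this
    omega
  have hAQP : A ⊓ h.Q = h.J ⊓ h.Q := eq_of_le_of_card_ge hAP (by rw [h.JQ_card']; exact hAQ27)
  have hle : A ≤ h.J := fun x hx => h.cent_JQ (hAS hx) fun b hb =>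
    hAc x hx b (hAQP.symm ▸ hb : b ∈ A ⊓ h.Q).1
  exact eq_of_le_of_card_ge hle (by rw [hA, h.hJcard])

theorem conj_J_of_le {g : G} (hg : ∀ a ∈ h.J, g * a * g⁻¹ ∈ (h.S : Subgroup G)) :
    g ∈ normalizer (h.J : Set G) := by
  set A := h.J.map (MulAut.conj g).toMonoidHom with hA
  have hAJ : A = h.J := by
    refine h.J_only' A ?_ ?_ ?_
    · rintro _ ⟨a, ha, rfl⟩; exact hg a ha
    · rw [hA, card_map_of_injective (MulAut.conj g).injective, h.hJcard]
    · rintro _ ⟨a, ha, rfl⟩ _ ⟨b, hb, rfl⟩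
      rw [← map_mul, ← map_mul, h.hJcomm a ha b hb]
  refine mem_normalizer_iff.2 fun x => ⟨fun hx => hAJ ▸ ⟨x, hx, rfl⟩, fun hx => ?_⟩
  rw [← hAJ] at hx
  obtain ⟨y, hy, hyx⟩ := hx
  exact (MulAut.conj g).injective hyx ▸ hy

theorem sylow_le_normJ {T : Sylow 3 G} (hT : h.J ≤ T) :
    (T : Subgroup G) ≤ normalizer (h.J : Set G) := by
  haveI : Fact (Nat.Prime 3) := ⟨Nat.prime_three⟩
  obtain ⟨g, hg⟩ := MulAction.exists_smul_eq G T h.S
  have hin : ∀ x ∈ (T : Subgroup G), g * x * g⁻¹ ∈ (h.S : Subgroup G) := fun x hx => by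
    rw [← hg]; exact ⟨x, hx, rfl⟩
  have hgN : g ∈ normalizer (h.J : Set G) := h.conj_J_of_le fun a ha => hin a (hT ha)
  intro x hx
  have hgx : g * x ∈ normalizer (h.J : Set G) := h.conj_J_of_le fun a ha => by
    have hxax : x * a * x⁻¹ ∈ (T : Subgroup G) := mul_mem (mul_mem hx (hT ha)) (inv_mem hx)
    rw [show g * x * a * (g * x)⁻¹ = g * (x * a * x⁻¹) * g⁻¹ by group]
    exact hin _ hxax
  have := mul_mem (inv_mem hgN) hgx
  rwa [inv_mul_cancel_left] at this

theorem sylow_le_M {T : Sylow 3 G} (hT : h.J ≤ T) : (T : Subgroup G) ≤ h.M := by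
  intro x hx
  rw [h.hM]
  refine subset_closure ⟨h.sylow_le_normJ hT hx, ?_⟩
  haveI : Fact (Nat.Prime 3) := ⟨Nat.prime_three⟩
  obtain ⟨k, hk⟩ := IsPGroup.iff_orderOf.1 T.2 ⟨x, hx⟩
  exact ⟨k, by rw [← hk, Subgroup.orderOf_mk]⟩

theorem centJ' : centralizer (h.J : Set G) = h.J := by
  haveI : Fact (Nat.Prime 3) := ⟨Nat.prime_three⟩
  refine le_antisymm ?_ fun a ha => mem_centralizer_iff.2 fun b hb => h.hJcomm b hb a ha
  obtain ⟨z, hZz, hzo⟩ := h.exists_z
  -- elements of order prime to three in `C(J)` are trivial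
  have h3' : ∀ x ∈ centralizer (h.J : Set G), (orderOf x).Coprime 3 → x = 1 := by
    intro x hx hcop
    have hxc : ∀ a ∈ h.J, x * a = a * x := fun a ha => (mem_centralizer_iff.1 hx a ha).symm
    have hxN : x ∈ normalizer (h.Z : Set G) := by
      refine mem_normalizer_iff.2 fun y => ⟨fun hy => ?_, fun hy => ?_⟩
      · rw [hxc y (h.Z_le_J' hy), mul_inv_cancel_right]; exact hy
      · have e : y = x⁻¹ * (x * y * x⁻¹) * x := by group
        rw [e, mul_assoc, ← hxc _ (h.Z_le_J' hy), inv_mul_cancel_left]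
        exact hy
    have hxQ := h.normZ_le_normQ hxN
    have hcentral : x ∈ centralizer (h.Q : Set G) := by
      refine mem_centralizer_iff.2 fun q hq => ?_
      set v := x * q * x⁻¹ * q⁻¹ with hv
      have hvQ : v ∈ h.Q := mul_mem ((mem_normalizer_iff.1 hxQ q).1 hq) (inv_mem hq)
      have hvc : ∀ b ∈ h.J ⊓ h.Q, v * b = b * v := by
        intro b hb
        set ζ := q * b * q⁻¹ * b⁻¹ with hζ
        have hζZ : ζ ∈ h.Z := h.Q_comm' q hq b hb.2
        have hxb : x * b * x⁻¹ = b := by rw [hxc b hb.1, mul_inv_cancel_right]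
        have hxζ : x * ζ * x⁻¹ = ζ := by rw [hxc ζ (h.Z_le_J' hζZ), mul_inv_cancel_right]
        have h2 : x * q * x⁻¹ * b * (x * q * x⁻¹)⁻¹ * b⁻¹ = ζ := by
          calc x * q * x⁻¹ * b * (x * q * x⁻¹)⁻¹ * b⁻¹
              = x * q * x⁻¹ * (x * b * x⁻¹) * (x * q * x⁻¹)⁻¹ * (x * b * x⁻¹)⁻¹ := by rw [hxb]
            _ = x * (q * b * q⁻¹ * b⁻¹) * x⁻¹ := by group
            _ = ζ := by rw [← hζ, hxζ]
        have hζb : ζ⁻¹ * b = b * ζ⁻¹ := h.Z_central (h.Q_le_S' hb.2) (inv_mem hζZ)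
        calc v * b = x * q * x⁻¹ * (q⁻¹ * b) := by rw [hv]; group
          _ = x * q * x⁻¹ * (q⁻¹ * (ζ⁻¹ * (q * b * q⁻¹))) := by rw [hζ]; group
          _ = x * q * x⁻¹ * (ζ⁻¹ * b * q⁻¹) := by
              have hζq : ζ⁻¹ * q = q * ζ⁻¹ := h.Z_central (h.Q_le_S' hq) (inv_mem hζZ)
              calc x * q * x⁻¹ * (q⁻¹ * (ζ⁻¹ * (q * b * q⁻¹)))
                  = x * q * x⁻¹ * (q⁻¹ * ((ζ⁻¹ * q) * b * q⁻¹)) := by group
                _ = x * q * x⁻¹ * (q⁻¹ * ((q * ζ⁻¹) * b * q⁻¹)) := by rw [hζq]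
                _ = _ := by group
          _ = x * q * x⁻¹ * b * (ζ⁻¹ * q⁻¹) := by rw [hζb]; group
          _ = (x * q * x⁻¹ * b * (x * q * x⁻¹)⁻¹ * b⁻¹) * b * (x * q * x⁻¹) * (ζ⁻¹ * q⁻¹) := by
              group
          _ = (ζ * b) * (x * q * x⁻¹) * (ζ⁻¹ * q⁻¹) := by rw [h2]
          _ = b * (ζ * (x * q * x⁻¹)) * (ζ⁻¹ * q⁻¹) := by
              rw [h.Z_central (h.Q_le_S' hb.2) hζZ]; group
          _ = b * v := by
              rw [h.Z_central (h.Q_le_S' ((mem_normalizer_iff.1 hxQ q).1 hq)) hζZ, hv]; group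
      have hvJ : v ∈ h.J := h.cent_JQ (h.Q_le_S' hvQ) hvc
      have hxv : x * v * x⁻¹ = v := by rw [hxc v hvJ, mul_inv_cancel_right]
      have hn : ∀ n : ℕ, x ^ n * q * (x ^ n)⁻¹ = v ^ n * q := by
        intro n
        induction n with
        | zero => simp
        | succ n ih =>
          calc x ^ (n + 1) * q * (x ^ (n + 1))⁻¹ = x * (x ^ n * q * (x ^ n)⁻¹) * x⁻¹ := by
                rw [pow_succ']; group
            _ = (x * v ^ n * x⁻¹) * (x * q * x⁻¹) := by rw [ih]; group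
            _ = v ^ (n + 1) * q := by
                rw [← conj_pow, hxv, pow_succ, hv]; group
      have h1 := hn (orderOf x)
      rw [pow_orderOf_eq_one] at h1
      simp only [one_mul, inv_one, mul_one] at h1
      have hv1 : orderOf v ∣ orderOf x := orderOf_dvd_of_pow_eq_one (mul_eq_right.1 h1.symm)
      have hv3 : orderOf v ∣ 3 := orderOf_dvd_of_pow_eq_one (h.hQexp v hvQ)
      have : v = 1 := orderOf_eq_one_iff.1 (Nat.eq_one_of_dvd_coprimes hcop hv1 hv3)
      rw [hv, mul_inv_eq_one, mul_inv_eq_iff_eq_mul] at this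
      exact this.symm
    have hxQ' : x ∈ h.Q := h.centQ' hcentral
    have hd : orderOf x ∣ 3 := orderOf_dvd_of_pow_eq_one (h.hQexp x hxQ')
    exact orderOf_eq_one_iff.1 (Nat.eq_one_of_dvd_coprimes hcop dvd_rfl hd)
  have hp : IsPGroup 3 (centralizer (h.J : Set G)) := by
    rw [IsPGroup.iff_card]
    have hne := (Nat.card_pos (α := centralizer (h.J : Set G))).ne'
    refine ⟨_, Nat.eq_prime_pow_of_unique_prime_dvd hne fun {p} hp hpd => ?_⟩
    by_contra hp3
    haveI : Fact p.Prime := ⟨hp⟩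
    obtain ⟨⟨x, hx⟩, ho⟩ := exists_prime_orderOf_dvd_card' p hpd
    rw [Subgroup.orderOf_mk] at ho
    have := h3' x hx (ho ▸ (Nat.coprime_primes hp Nat.prime_three).2 hp3)
    rw [this, orderOf_one] at ho
    exact hp.ne_one ho.symm
  obtain ⟨T, hT⟩ := hp.exists_le_sylow
  have hJC : h.J ≤ centralizer (h.J : Set G) := fun a ha =>
    mem_centralizer_iff.2 fun b hb => h.hJcomm b hb a ha
  have hJT : h.J ≤ T := hJC.trans hT
  obtain ⟨g, hg⟩ := MulAction.exists_smul_eq G T h.S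
  have hin : ∀ x ∈ (T : Subgroup G), g * x * g⁻¹ ∈ (h.S : Subgroup G) := fun x hx => by
    rw [← hg]; exact ⟨x, hx, rfl⟩
  have hgN : g ∈ normalizer (h.J : Set G) := h.conj_J_of_le fun a ha => hin a (hJT ha)
  intro x hx
  have hgx : g * x * g⁻¹ ∈ h.J := by
    refine h.cent_JQ (hin x (hT hx)) fun b hb => ?_
    have hb' : g⁻¹ * b * g ∈ h.J := by
      have := (mem_normalizer_iff.1 (inv_mem hgN) b).1 hb.1
      rwa [inv_inv] at this
    calc g * x * g⁻¹ * b = g * (x * (g⁻¹ * b * g)) * g⁻¹ := by group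
      _ = g * ((g⁻¹ * b * g) * x) * g⁻¹ := by rw [mem_centralizer_iff.1 hx _ hb']
      _ = _ := by group
  exact (mem_normalizer_iff.1 hgN x).2 hgx

theorem card_M : Nat.card h.M = 81 * 360 := by
  rw [card_eq_card_quotient_mul_card_subgroup h.φM.ker,
    Nat.card_congr (QuotientGroup.quotientKerEquivOfSurjective _ h.φM_surj).toEquiv,
    h.φM_ker, Nat.card_congr (subgroupOfEquivOfLe h.hJM).toEquiv, h.hJcard, mul_comm]
  rw [nat_card_alternatingGroup, Nat.card_fin]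
  rfl

end Hyp

/-- The consequences `Basic` of the hypotheses. -/
theorem exists_basic {G : Type u} [Group G] [Finite G] (h : Hyp G) : ∃ b : Basic G, b.toHyp = h := by
  obtain ⟨z, hZz, hzo⟩ := h.exists_z
  refine ⟨{ toHyp := h, z := z, Z_eq := hZz, z_order := hzo, S_card := h.S_card', Z_le_Q := h.Z_le_Q',
            Z_le_J := h.Z_le_J', Q_comm := h.Q_comm', Q_center := h.Q_center', centQ := h.centQ',
            normZ_le := h.normZ_le_normQ, Q_le_S := h.Q_le_S', S_le_L := h.S_le_L',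
            S_le_M := h.sylow_le_M h.hJS, JQ_card := h.JQ_card', JQ_sup := h.JQ_sup',
            J_only := h.J_only', sylow_J := fun T hT => h.sylow_le_M hT, centJ := h.centJ',
            M_card := h.card_M, J_moves := h.J_moves' }, rfl⟩

end CfsgLib.McLThreeLocal
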