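import Cfsg.Agent.Lib.McLThreeLocal.Defs
import Cfsg.Agent.Lib.Cores.PCore

/-!
# Fusion of the elements of `D` and the centraliser of `z w^{±1}`

From the frame core we get `C(y) ≤ N(J)` for `y = z w^{±1}`, that `y` is not conjugate to `z`, and that
`D` is a Sylow three-subgroup of `C(t)`.
-/

set_option autoImplicit false
set_option linter.style.haveILetI false
set_option linter.unusedSectionVars false

namespace CfsgLib.McLThreeLocal.CentY

open Subgroup

universe u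

/-- The alternating group of degree six has no elements of order six. -/
lemma altSix_pow_six : ∀ g : alternatingGroup (Fin 6), g ^ 6 = 1 → g ^ 2 = 1 ∨ g ^ 3 = 1 := by
  decide +kernel

/-- Elements of three-power order in the alternating group of degree six have order dividing three. -/
lemma altSix_pow_nine : ∀ g : alternatingGroup (Fin 6), g ^ 9 = 1 → g ^ 3 = 1 := by
  decide +kernel

/-- An involution of `A₆` centralises no element of order three. -/
lemma altSix_eq_one {a x : alternatingGroup (Fin 6)} (ha : a ^ 2 = 1) (ha1 : a ≠ 1) (hx : x ^ 3 = 1)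
    (hax : a * x = x * a) : x = 1 := by
  have hc : Commute a x := hax
  have h6 : (a * x) ^ 6 = 1 := by
    have e1 : a ^ (2 * 3) = 1 := by rw [pow_mul, ha, one_pow]
    have e2 : x ^ (3 * 2) = 1 := by rw [pow_mul, hx, one_pow]
    norm_num only at e1 e2
    rw [hc.mul_pow, e1, e2, one_mul]
  rcases altSix_pow_six _ h6 with h | h
  · rw [hc.mul_pow, ha, one_mul] at h
    calc x = x ^ 3 * (x ^ 2)⁻¹ := by group
      _ = 1 := by rw [hx, h, inv_one, mul_one]
  · rw [hc.mul_pow, hx, mul_one] at h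
    exfalso
    apply ha1
    calc a = a ^ 3 * (a ^ 2)⁻¹ := by group
      _ = 1 := by rw [h, ha, inv_one, mul_one]

/-- A three-subgroup of `A₆` normalised by a four-group is trivial. -/
lemma eq_bot_of_four_group (X : Subgroup (alternatingGroup (Fin 6))) (hX : IsPGroup 3 X)
    {a b : alternatingGroup (Fin 6)} (ha : a ^ 2 = 1) (hb : b ^ 2 = 1) (hab : a * b = b * a)
    (ha1 : a ≠ 1) (hb1 : b ≠ 1) (hne : a ≠ b) (han : ∀ x ∈ X, a * x * a⁻¹ ∈ X)
    (hbn : ∀ x ∈ X, b * x * b⁻¹ ∈ X) : X = ⊥ := by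
  haveI : Fact (Nat.Prime 3) := ⟨Nat.prime_three⟩
  obtain ⟨n, hn⟩ := hX.exists_card_eq
  have hA : Nat.card (alternatingGroup (Fin 6)) = 360 := by
    rw [nat_card_alternatingGroup, Nat.card_fin]; rfl
  have hn2 : n ≤ 2 := by
    by_contra h
    have h27 : 27 ∣ 360 := by
      rw [← hA]
      exact (pow_dvd_pow 3 (show 3 ≤ n by omega)).trans (hn ▸ Subgroup.card_subgroup_dvd_card X)
    omega
  have h3 : ∀ x ∈ X, x ^ 3 = 1 := fun x hx => by
    refine altSix_pow_nine x ?_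
    have h := congrArg Subtype.val (pow_card_eq_one' (x := (⟨x, hx⟩ : X)))
    rw [hn] at h
    have h9 : x ^ 3 ^ n = 1 := by simpa using h
    rw [show (9 : ℕ) = 3 ^ n * 3 ^ (2 - n) by rw [← pow_add, Nat.add_sub_cancel' hn2]; rfl, pow_mul,
      h9, one_pow]
  have hcomm : ∀ x ∈ X, ∀ y ∈ X, x * y = y * x := by
    intro x hx y hy
    rcases (show n = 0 ∨ n = 1 ∨ n = 2 by omega) with rfl | rfl | rfl
    · have hb := X.eq_bot_of_card_eq (by rw [hn, pow_zero])
      rw [hb, mem_bot] at hx hy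
      rw [hx, hy]
    · haveI := isCyclic_of_prime_card (α := X) (p := 3) (by rw [hn, pow_one])
      exact congrArg Subtype.val ((IsCyclic.commGroup (α := X)).mul_comm ⟨x, hx⟩ ⟨y, hy⟩)
    · have h := IsPGroup.isMulCommutative_of_card_eq_prime_sq (p := 3) (G := X) hn
      exact congrArg Subtype.val (h.is_comm.comm ⟨x, hx⟩ ⟨y, hy⟩)
  have key : ∀ c : alternatingGroup (Fin 6), c ^ 2 = 1 → c ≠ 1 → (∀ x ∈ X, c * x * c⁻¹ ∈ X) →
      ∀ x ∈ X, c * x * c⁻¹ = x⁻¹ := by
    intro c hc hc1 hcn x hx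
    have hci : c⁻¹ = c := inv_eq_of_mul_eq_one_right (by rw [← sq, hc])
    have hd := hcn x hx
    have h1 : c * (x * (c * x * c⁻¹)) = (x * (c * x * c⁻¹)) * c := by
      have h2 : c * (x * (c * x * c⁻¹)) * c⁻¹ = (c * x * c⁻¹) * x := by
        calc _ = (c * x * c⁻¹) * ((c * c) * x * (c * c)⁻¹) := by group
          _ = _ := by rw [← sq, hc]; group
      rw [hcomm _ hd _ hx] at h2
      exact mul_inv_eq_iff_eq_mul.1 h2
    have h4 := altSix_eq_one hc hc1 (h3 _ (X.mul_mem hx hd)) h1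
    exact eq_inv_of_mul_eq_one_right h4
  rw [Subgroup.eq_bot_iff_forall]
  intro x hx
  have hxb := key b hb hb1 hbn x hx
  have hxa := key a ha ha1 han x⁻¹ (X.inv_mem hx)
  rw [inv_inv] at hxa
  refine altSix_eq_one (a := a * b) ?_ ?_ (h3 x hx) ?_
  · rw [(show Commute a b from hab).mul_pow, ha, hb, one_mul]
  · intro h
    apply hne
    calc a = a * b * b⁻¹ := by group
      _ = b⁻¹ := by rw [h, one_mul]
      _ = b := inv_eq_of_mul_eq_one_right (by rw [← sq, hb])
  · refine mul_inv_eq_iff_eq_mul.1 ?_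
    calc a * b * x * (a * b)⁻¹ = a * (b * x * b⁻¹) * a⁻¹ := by group
      _ = x := by rw [hxb, hxa]

variable {G : Type u} [Group G] (f : FrameCore G)

/-- `k' = j k j⁻¹`. -/
def kTwo : G := f.j * f.k * f.j⁻¹

lemma z_mem_Z : f.z ∈ f.Z := by rw [f.Z_eq]; exact mem_zpowers f.z

lemma z_mem_J : f.z ∈ f.J := f.Z_le_J (z_mem_Z f)

lemma zw : f.z * f.w = f.w * f.z := f.hJcomm _ (z_mem_J f) _ f.w_mem_J

lemma wt : f.w * f.t = f.t * f.w := f.K_t _ f.w_mem_K

lemma zt : f.z * f.t = f.t * f.z := f.tz.symm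

lemma z_mem_D : f.z ∈ closure ({f.z, f.w} : Set G) := subset_closure (Set.mem_insert _ _)

lemma w_mem_D : f.w ∈ closure ({f.z, f.w} : Set G) :=
  subset_closure (Set.mem_insert_of_mem _ (Set.mem_singleton _))

lemma zpowers_z_card : Nat.card (zpowers f.z) = 3 := by rw [Nat.card_zpowers, f.z_order]

lemma w_not_mem : f.w ∉ zpowers f.z := by
  intro h
  have hle : closure ({f.z, f.w} : Set G) ≤ zpowers f.z := by
    rw [closure_le]
    rintro x (rfl | rfl)
    · exact mem_zpowers _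
    · exact h
  have := Subgroup.card_dvd_of_le hle
  rw [f.D_card, zpowers_z_card] at this
  omega

lemma w_ne_z : f.w ≠ f.z := fun h => w_not_mem f (h ▸ mem_zpowers f.z)

lemma w_ne_z_inv : f.w ≠ f.z⁻¹ := fun h => w_not_mem f (h ▸ inv_mem (mem_zpowers f.z))

lemma kTwo_w : kTwo f * f.w = f.w * kTwo f := by
  rw [kTwo, ← f.j_z]
  calc f.j * f.k * f.j⁻¹ * (f.j * f.z * f.j⁻¹) = f.j * (f.k * f.z) * f.j⁻¹ := by group
    _ = f.j * (f.z * f.k) * f.j⁻¹ := by rw [f.K_z _ f.k_mem_K]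
    _ = _ := by group

lemma kTwo_z : kTwo f * f.z * (kTwo f)⁻¹ = f.z⁻¹ := by
  rw [kTwo]
  calc f.j * f.k * f.j⁻¹ * f.z * (f.j * f.k * f.j⁻¹)⁻¹
      = f.j * (f.k * (f.j⁻¹ * f.z * f.j) * f.k⁻¹) * f.j⁻¹ := by group
    _ = f.j * f.w⁻¹ * f.j⁻¹ := by
        rw [show f.j⁻¹ * f.z * f.j = f.w by rw [← f.j_w]; group, f.k_w]
    _ = (f.j * f.w * f.j⁻¹)⁻¹ := by group
    _ = _ := by rw [f.j_w]

lemma kk_z : f.k * kTwo f * f.z * (f.k * kTwo f)⁻¹ = f.z⁻¹ := by
  calc _ = f.k * (kTwo f * f.z * (kTwo f)⁻¹) * f.k⁻¹ := by group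
    _ = (f.k * f.z * f.k⁻¹)⁻¹ := by rw [kTwo_z]; group
    _ = _ := by rw [f.K_z _ f.k_mem_K, mul_inv_cancel_right]

lemma kk_w : f.k * kTwo f * f.w * (f.k * kTwo f)⁻¹ = f.w⁻¹ := by
  calc _ = f.k * (kTwo f * f.w * (kTwo f)⁻¹) * f.k⁻¹ := by group
    _ = f.k * f.w * f.k⁻¹ := by rw [kTwo_w, mul_inv_cancel_right]
    _ = _ := f.k_w

lemma kk_t : f.k * kTwo f * f.t = f.t * (f.k * kTwo f) := by
  have hk : Commute f.k f.t := f.K_t _ f.k_mem_K
  have hj : Commute f.j f.t := f.jt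
  exact ((hk.mul_left ((hj.mul_left hk).mul_left hj.inv_left)) : Commute _ _)

lemma j_inv : f.j⁻¹ = f.j := inv_eq_of_mul_eq_one_right f.j_sq

lemma tt : f.t * f.t = 1 := by
  rw [← sq]
  exact f.t_order ▸ pow_orderOf_eq_one f.t

lemma u_sq : f.j * (f.k * kTwo f) * (f.j * (f.k * kTwo f)) = 1 := by
  have hjj : ∀ x : G, f.j * (f.j * x) = x := fun x => by rw [← mul_assoc, f.j_sq, one_mul]
  have hkk : ∀ x : G, f.k * (f.k * x) = f.t * x := fun x => by rw [← mul_assoc, f.k_sq]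
  have htt : ∀ x : G, f.t * (f.t * x) = x := fun x => by rw [← mul_assoc, tt, one_mul]
  have hjt : ∀ x : G, f.j * (f.t * x) = f.t * (f.j * x) := fun x => by
    rw [← mul_assoc, f.jt, mul_assoc]
  have hkt : ∀ x : G, f.k * (f.t * x) = f.t * (f.k * x) := fun x => by
    rw [← mul_assoc, f.K_t _ f.k_mem_K, mul_assoc]
  simp only [kTwo, j_inv, mul_assoc, hjj, hkk, htt, hjt, hkt, f.j_sq]

/-- An element of `C_M(y)` besides `t`, for `y = z w^{±1}`. -/
lemma exists_u {y : G} (hy : y = f.z * f.w ∨ y = f.z * f.w⁻¹) :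
    ∃ u ∈ f.M, u * u = 1 ∧ u * f.t = f.t * u ∧ u * y = y * u ∧ u * f.z ≠ f.z * u := by
  rcases hy with rfl | rfl
  · refine ⟨f.j, f.j_mem_M, f.j_sq, f.jt, ?_, ?_⟩
    · calc f.j * (f.z * f.w) = (f.j * f.z * f.j⁻¹) * (f.j * f.w * f.j⁻¹) * f.j := by group
        _ = f.z * f.w * f.j := by rw [f.j_z, f.j_w, zw]
    · intro h
      apply w_ne_z f
      rw [← f.j_z, h, mul_inv_cancel_right]
  · refine ⟨f.j * (f.k * kTwo f), mul_mem f.j_mem_M f.kk_mem_M, u_sq f, ?_, ?_, ?_⟩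
    · exact ((show Commute f.j f.t from f.jt).mul_left (kk_t f) : Commute _ _)
    · have hcomm : f.w⁻¹ * f.z = f.z * f.w⁻¹ := ((show Commute f.z f.w from zw f).inv_right).symm
      calc f.j * (f.k * kTwo f) * (f.z * f.w⁻¹) =
            f.j * ((f.k * kTwo f * f.z * (f.k * kTwo f)⁻¹) *
              (f.k * kTwo f * f.w * (f.k * kTwo f)⁻¹)⁻¹) * f.j⁻¹ * (f.j * (f.k * kTwo f)) := by group
        _ = (f.j * f.z * f.j⁻¹)⁻¹ * (f.j * f.w * f.j⁻¹) * (f.j * (f.k * kTwo f)) := by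
            rw [kk_z, kk_w]; group
        _ = _ := by rw [f.j_z, f.j_w, hcomm]
    · intro h
      apply w_ne_z_inv f
      have h1 : f.j * (f.k * kTwo f) * f.z * (f.j * (f.k * kTwo f))⁻¹ = f.w⁻¹ := by
        calc _ = f.j * (f.k * kTwo f * f.z * (f.k * kTwo f)⁻¹) * f.j⁻¹ := by group
          _ = (f.j * f.z * f.j⁻¹)⁻¹ := by rw [kk_z]; group
          _ = _ := by rw [f.j_z]
      rw [h, mul_inv_cancel_right] at h1
      rw [← inv_inj, inv_inv]
      exact h1.symm

lemma phi_eq_one {a : G} (ha : a ∈ f.M) : f.φM ⟨a, ha⟩ = 1 ↔ a ∈ f.J := by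
  rw [← MonoidHom.mem_ker, f.φM_ker, mem_subgroupOf]

section Finite

variable [Finite G]

lemma isPGroup_R3 (x : G) : IsPGroup 3 (R3 x) :=
  (CfsgLib.Cores.isPGroup_pCore 3 (centralizer ({x} : Set G))).map _

omit [Finite G] in
lemma R3_le (x : G) : R3 x ≤ centralizer ({x} : Set G) := map_subtype_le _

omit [Finite G] in
lemma conj_mem_R3 {x g r : G} (hg : g ∈ centralizer ({x} : Set G)) (hr : r ∈ R3 x) :
    g * r * g⁻¹ ∈ R3 x := by
  obtain ⟨r', hr', rfl⟩ := hr
  have hn : (Cfsg.pCore 3 (centralizer ({x} : Set G))).Normal := inferInstance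
  exact ⟨⟨g, hg⟩ * r' * ⟨g, hg⟩⁻¹, hn.conj_mem r' hr' _, rfl⟩

omit [Finite G] in
lemma commute_of_mem {x g : G} (hg : g ∈ centralizer ({x} : Set G)) : g * x = x * g :=
  (mem_centralizer_singleton_iff.1 hg)

omit [Finite G] in
lemma mem_of_commute {x g : G} (h : g * x = x * g) : g ∈ centralizer ({x} : Set G) :=
  mem_centralizer_singleton_iff.2 h

lemma y_ne_one {y : G} (hy : y = f.z * f.w ∨ y = f.z * f.w⁻¹) : y ≠ 1 := by
  rintro rfl
  rcases hy with h | h
  · exact w_ne_z_inv f (eq_inv_of_mul_eq_one_right h.symm)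
  · exact w_ne_z f (inv_inj.1 (eq_inv_of_mul_eq_one_right h.symm))

omit [Finite G] in
lemma y_mem_J {y : G} (hy : y = f.z * f.w ∨ y = f.z * f.w⁻¹) : y ∈ f.J := by
  rcases hy with rfl | rfl
  · exact mul_mem (z_mem_J f) f.w_mem_J
  · exact mul_mem (z_mem_J f) (inv_mem f.w_mem_J)

omit [Finite G] in
lemma y_t {y : G} (hy : y = f.z * f.w ∨ y = f.z * f.w⁻¹) : y * f.t = f.t * y := by
  rcases hy with rfl | rfl
  · exact ((show Commute f.z f.t from zt f).mul_left (wt f) : Commute _ _)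
  · exact ((show Commute f.z f.t from zt f).mul_left (show Commute f.w f.t from wt f).inv_left :
      Commute _ _)

lemma R3_le_J {y : G} (hy : y = f.z * f.w ∨ y = f.z * f.w⁻¹) : R3 y ≤ f.J := by
  haveI : Fact (Nat.Prime 3) := ⟨Nat.prime_three⟩
  have hyJ := y_mem_J f hy
  have hJC : f.J ≤ centralizer ({y} : Set G) := fun a ha => mem_of_commute (f.hJcomm a ha y hyJ)
  have hJp : IsPGroup 3 f.J := IsPGroup.of_card (n := 4) (by rw [f.hJcard]; norm_num)
  have hnorm : f.J ≤ normalizer (R3 y : Set G) := fun a ha => by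
    rw [mem_normalizer_iff]
    intro r
    refine ⟨fun hr => conj_mem_R3 (hJC ha) hr, fun hr => ?_⟩
    have := conj_mem_R3 (inv_mem (hJC ha)) hr
    simpa [mul_assoc] using this
  obtain ⟨T, hT⟩ := (hJp.to_sup_of_normal_right' (isPGroup_R3 y) hnorm).exists_le_sylow
  have hRM : R3 y ≤ f.M := (le_sup_right.trans hT).trans (f.sylow_J T (le_sup_left.trans hT))
  obtain ⟨u, huM, hu2, hut, huy, huz⟩ := exists_u f hy
  have hRJ : R3 y ≤ f.J := by
    set a := f.φM ⟨f.t, f.t_mem_M⟩ with ha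
    set b := f.φM ⟨u, huM⟩ with hb
    set X := ((R3 y).subgroupOf f.M).map f.φM with hX
    have ht1 : f.t ∉ f.J := fun h => by
      have h3 := f.hJexp _ h
      have h1 := orderOf_dvd_of_pow_eq_one h3
      rw [f.t_order] at h1
      omega
    have hu1 : u ∉ f.J := fun h => huz (f.hJcomm u h _ (z_mem_J f))
    have htu : f.t⁻¹ * u ∉ f.J := fun h => by
      apply huz
      have h1 := f.hJcomm _ h _ (z_mem_J f)
      calc u * f.z = f.t * (f.t⁻¹ * u * f.z) := by group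
        _ = f.t * f.z * f.t⁻¹ * u := by rw [h1]; group
        _ = _ := by rw [f.tz, mul_inv_cancel_right]
    have hbot : X = ⊥ := by
      refine eq_bot_of_four_group X
        (((isPGroup_R3 y).comap_subtype (K := f.M)).map f.φM) (a := a) (b := b)
        ?_ ?_ ?_ ?_ ?_ ?_ ?_ ?_
      · rw [ha, ← map_pow, ← map_one f.φM]
        exact congrArg f.φM (Subtype.ext (by simp [sq, tt]))
      · rw [hb, ← map_pow, ← map_one f.φM]
        exact congrArg f.φM (Subtype.ext (by simp [sq, hu2]))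
      · rw [ha, hb, ← map_mul, ← map_mul]
        exact congrArg f.φM (Subtype.ext hut.symm)
      · exact fun h => ht1 ((phi_eq_one f f.t_mem_M).1 h)
      · exact fun h => hu1 ((phi_eq_one f huM).1 h)
      · intro h
        apply htu
        refine (phi_eq_one f (mul_mem (inv_mem f.t_mem_M) huM)).1 ?_
        rw [show (⟨f.t⁻¹ * u, mul_mem (inv_mem f.t_mem_M) huM⟩ : f.M) =
          ⟨f.t, f.t_mem_M⟩⁻¹ * ⟨u, huM⟩ from rfl, map_mul, map_inv, ← ha, ← hb, h, inv_mul_cancel]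
      · rintro _ ⟨r, hr, rfl⟩
        rw [ha, ← map_inv, ← map_mul, ← map_mul]
        exact mem_map_of_mem _ (conj_mem_R3 (mem_of_commute (y_t f hy).symm) hr :
          f.t * (r : G) * f.t⁻¹ ∈ R3 y)
      · rintro _ ⟨r, hr, rfl⟩
        rw [hb, ← map_inv, ← map_mul, ← map_mul]
        exact mem_map_of_mem _ (conj_mem_R3 (mem_of_commute huy) hr : u * (r : G) * u⁻¹ ∈ R3 y)
    intro r hr
    refine (phi_eq_one f (hRM hr)).1 ?_
    have : f.φM ⟨r, hRM hr⟩ ∈ X := mem_map_of_mem _ (show r ∈ R3 y from hr)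
    rw [hbot, mem_bot] at this
    exact this
  exact hRJ

lemma R3_eq_J (hiii : ∀ x ∈ f.J, x ≠ 1 → centralizer (R3 x : Set G) ≤ R3 x) {y : G}
    (hy : y = f.z * f.w ∨ y = f.z * f.w⁻¹) : R3 y = f.J := by
  refine le_antisymm (R3_le_J f hy) fun a ha => hiii y (y_mem_J f hy) (y_ne_one f hy) ?_
  rw [mem_centralizer_iff]
  intro r hr
  exact f.hJcomm r (R3_le_J f hy hr) a ha

lemma centY (hiii : ∀ x ∈ f.J, x ≠ 1 → centralizer (R3 x : Set G) ≤ R3 x) {y : G} (hy : y = f.z * f.w ∨ y = f.z * f.w⁻¹) :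
    centralizer ({y} : Set G) ≤ normalizer (f.J : Set G) := by
  intro g hg
  rw [← R3_eq_J f hiii hy, mem_normalizer_iff]
  intro r
  refine ⟨fun hr => conj_mem_R3 hg hr, fun hr => ?_⟩
  have := conj_mem_R3 (inv_mem hg) hr
  simpa [mul_assoc] using this

lemma Q_le_R3 : f.Q ≤ R3 f.z := by
  haveI : Fact (Nat.Prime 3) := ⟨Nat.prime_three⟩
  have hQC : f.Q ≤ centralizer ({f.z} : Set G) := fun a ha => by
    have hz := z_mem_Z f
    rw [f.hZ] at hz
    exact mem_of_commute (mem_centralizer_iff.1 (Subgroup.mem_inf.1 hz).2 a (f.Q_le_S ha))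
  have hCN : centralizer ({f.z} : Set G) ≤ normalizer (f.Q : Set G) :=
    (f.centZ_eq ▸ centralizer_le_normalizer (f.Z : Set G)).trans f.normZ_le
  haveI : (f.Q.subgroupOf (centralizer ({f.z} : Set G))).Normal :=
    (Subgroup.normal_subgroupOf_iff_le_normalizer hQC).2 hCN
  have hp : IsPGroup 3 (f.Q.subgroupOf (centralizer ({f.z} : Set G))) :=
    (IsPGroup.of_card (n := 5) (by rw [f.hQcard]; norm_num) : IsPGroup 3 f.Q).of_equiv
      (Subgroup.subgroupOfEquivOfLe hQC).symm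
  intro a ha
  exact ⟨⟨a, hQC ha⟩, CfsgLib.Cores.le_pCore hp (show a ∈ f.Q from ha), rfl⟩

lemma y_not_Z {y : G} (hy : y = f.z * f.w ∨ y = f.z * f.w⁻¹) (g : G) : g * f.z * g⁻¹ ≠ y := by
  intro h
  haveI : Fact (Nat.Prime 3) := ⟨Nat.prime_three⟩
  have hC : ∀ a, a ∈ centralizer ({f.z} : Set G) → g * a * g⁻¹ ∈ centralizer ({y} : Set G) :=
    fun a ha => mem_of_commute (by
      rw [← h]
      calc g * a * g⁻¹ * (g * f.z * g⁻¹) = g * (a * f.z) * g⁻¹ := by group
        _ = g * (f.z * a) * g⁻¹ := by rw [commute_of_mem ha]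
        _ = _ := by group)
  have hC' : ∀ a, a ∈ centralizer ({y} : Set G) → g⁻¹ * a * g ∈ centralizer ({f.z} : Set G) :=
    fun a ha => mem_of_commute (by
      calc g⁻¹ * a * g * f.z = g⁻¹ * (a * (g * f.z * g⁻¹)) * g := by group
        _ = g⁻¹ * ((g * f.z * g⁻¹) * a) * g := by rw [h, commute_of_mem ha]
        _ = _ := by group)
  let e : centralizer ({f.z} : Set G) →* centralizer ({y} : Set G) :=
    { toFun := fun a => ⟨g * a * g⁻¹, hC a a.2⟩
      map_one' := Subtype.ext (by simp)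
      map_mul' := fun a b => Subtype.ext (by simp [mul_assoc]) }
  have he : Function.Surjective e := fun a =>
    ⟨⟨g⁻¹ * a * g, hC' a a.2⟩, Subtype.ext (by simp [e, mul_assoc])⟩
  have hle : (Cfsg.pCore 3 (centralizer ({f.z} : Set G))).map e ≤
      Cfsg.pCore 3 (centralizer ({y} : Set G)) := by
    haveI := Subgroup.Normal.map (inferInstance : (Cfsg.pCore 3 (centralizer ({f.z} : Set G))).Normal) e he
    exact CfsgLib.Cores.le_pCore ((CfsgLib.Cores.isPGroup_pCore 3 _).map e)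
  have hQJ : f.Q.map (MulAut.conj g).toMonoidHom ≤ f.J := by
    rintro _ ⟨a, ha, rfl⟩
    obtain ⟨a', ha', rfl⟩ := Q_le_R3 f ha
    exact R3_le_J f hy ⟨e a', hle (mem_map_of_mem e ha'), rfl⟩
  have hcard := Nat.le_of_dvd Nat.card_pos (Subgroup.card_dvd_of_le hQJ)
  rw [Subgroup.card_map_of_injective (MulAut.conj g).injective, f.hQcard, f.hJcard] at hcard
  omega

lemma exists_exp {a : G} (ha : a ∈ closure ({f.z, f.w} : Set G)) :
    ∃ i j : ℕ, i < 3 ∧ j < 3 ∧ a = f.z ^ i * f.w ^ j := by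
  have hint : ∃ i j : ℤ, a = f.z ^ i * f.w ^ j := by
    induction ha using closure_induction with
    | mem x hx =>
      rcases hx with rfl | rfl
      · exact ⟨1, 0, by simp⟩
      · exact ⟨0, 1, by simp⟩
    | one => exact ⟨0, 0, by simp⟩
    | mul x y _ _ hx hy =>
      obtain ⟨i, j, rfl⟩ := hx
      obtain ⟨i', j', rfl⟩ := hy
      refine ⟨i + i', j + j', ?_⟩
      rw [zpow_add, zpow_add]
      exact ((show Commute f.z f.w from zw f).symm.zpow_zpow j i').mul_mul_mul_comm _ _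
    | inv x _ hx =>
      obtain ⟨i, j, rfl⟩ := hx
      refine ⟨-i, -j, ?_⟩
      rw [mul_inv_rev, zpow_neg, zpow_neg]
      exact (((show Commute f.z f.w from zw f).zpow_zpow i j).inv_inv).symm
  obtain ⟨i, j, rfl⟩ := hint
  refine ⟨(i % 3).toNat, (j % 3).toNat, by omega, by omega, ?_⟩
  have hz : f.z ^ i = f.z ^ (i % 3).toNat := by
    rw [← zpow_natCast, Int.toNat_of_nonneg (by omega), ← zpow_mod_orderOf f.z i, f.z_order]
    rfl
  have hw : f.w ^ j = f.w ^ (j % 3).toNat := by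
    rw [← zpow_natCast, Int.toNat_of_nonneg (by omega), ← zpow_mod_orderOf f.w j, f.w_order]
    rfl
  rw [hz, hw]

lemma zsq : f.z ^ 2 = f.z⁻¹ :=
  eq_inv_of_mul_eq_one_left (by rw [← pow_succ]; rw [show (2 + 1 : ℕ) = orderOf f.z from f.z_order.symm]; exact pow_orderOf_eq_one f.z)

lemma wsq : f.w ^ 2 = f.w⁻¹ :=
  eq_inv_of_mul_eq_one_left (by rw [← pow_succ]; rw [show (2 + 1 : ℕ) = orderOf f.w from f.w_order.symm]; exact pow_orderOf_eq_one f.w)

/-- The conjugates of `z` in `D`. -/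
lemma zclass {g : G} (h : g * f.z * g⁻¹ ∈ closure ({f.z, f.w} : Set G)) :
    g * f.z * g⁻¹ = f.z ∨ g * f.z * g⁻¹ = f.z⁻¹ ∨ g * f.z * g⁻¹ = f.w ∨ g * f.z * g⁻¹ = f.w⁻¹ := by
  obtain ⟨i, j, hi, hj, e⟩ := exists_exp f h
  have hne : g * f.z * g⁻¹ ≠ 1 := fun h1 => by
    rw [conj_eq_one_iff] at h1
    have := f.z_order
    rw [h1, orderOf_one] at this
    omega
  have hinv : kTwo f * g * f.z * (kTwo f * g)⁻¹ = kTwo f * (g * f.z * g⁻¹) * (kTwo f)⁻¹ := by group
  interval_cases i <;> interval_cases j <;>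
    simp only [pow_zero, pow_one, one_mul, mul_one, zsq, wsq] at e
  · exact absurd e hne
  · exact Or.inr (Or.inr (Or.inl e))
  · exact Or.inr (Or.inr (Or.inr e))
  · exact Or.inl e
  · exact absurd e (y_not_Z f (Or.inl rfl) g)
  · exact absurd e (y_not_Z f (Or.inr rfl) g)
  · exact Or.inr (Or.inl e)
  · refine absurd ?_ (y_not_Z f (Or.inl rfl) (kTwo f * g))
    rw [hinv, e]
    calc kTwo f * (f.z⁻¹ * f.w) * (kTwo f)⁻¹
        = (kTwo f * f.z * (kTwo f)⁻¹)⁻¹ * (kTwo f * f.w * (kTwo f)⁻¹) := by group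
      _ = f.z * f.w := by rw [kTwo_z, kTwo_w, mul_inv_cancel_right, inv_inv]
      _ = _ := rfl
  · refine absurd ?_ (y_not_Z f (Or.inr rfl) (kTwo f * g))
    rw [hinv, e]
    calc kTwo f * (f.z⁻¹ * f.w⁻¹) * (kTwo f)⁻¹
        = (kTwo f * f.z * (kTwo f)⁻¹)⁻¹ * (kTwo f * f.w * (kTwo f)⁻¹)⁻¹ := by group
      _ = f.z * f.w⁻¹ := by rw [kTwo_z, kTwo_w, mul_inv_cancel_right, inv_inv]
      _ = _ := rfl

/-- A three-element of `C(t) ∩ C(z)` normalising `D` lies in `D`. -/
lemma mem_D_of_cent {g : G} {m : ℕ} (hg3 : g ^ 3 ^ m = 1) (hgt : g * f.t = f.t * g)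
    (hgz : g * f.z = f.z * g)
    (hgn : g ∈ normalizer ((closure ({f.z, f.w} : Set G) : Subgroup G) : Set G)) :
    g ∈ closure ({f.z, f.w} : Set G) := by
  haveI : Fact (Nat.Prime 3) := ⟨Nat.prime_three⟩
  set D := closure ({f.z, f.w} : Set G) with hD
  have hDp : IsPGroup 3 D := IsPGroup.of_card (n := 2) (by rw [f.D_card]; norm_num)
  have hgp : IsPGroup 3 (zpowers g) := by
    obtain ⟨k, -, hk⟩ := (Nat.dvd_prime_pow Nat.prime_three).1 (orderOf_dvd_of_pow_eq_one hg3)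
    exact IsPGroup.of_card (n := k) (by rw [Nat.card_zpowers, hk])
  have hP := hgp.to_sup_of_normal_right' hDp (zpowers_le.2 hgn)
  obtain ⟨k, hk⟩ := hP.exists_card_eq
  have hle : zpowers g ⊔ D ≤ centralizer ({f.z} : Set G) ⊓ centralizer ({f.t} : Set G) := by
    refine sup_le (zpowers_le.2 ⟨mem_of_commute hgz, mem_of_commute hgt⟩) ?_
    rw [hD, closure_le]
    rintro x (rfl | rfl)
    · exact ⟨mem_of_commute rfl, mem_of_commute (zt f)⟩
    · exact ⟨mem_of_commute (zw f).symm, mem_of_commute (wt f)⟩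
  have h1 := Subgroup.card_dvd_of_le hle
  have hk2 : k ≤ 2 := by
    by_contra hk2
    have h27 : 27 ∣ Nat.card ↥(centralizer ({f.z} : Set G) ⊓ centralizer ({f.t} : Set G)) :=
      (pow_dvd_pow 3 (show 3 ≤ k by omega)).trans (hk ▸ h1)
    rcases f.card_Czt with h | h <;> rw [h] at h27 <;> omega
  have h2 : Nat.card ↥(zpowers g ⊔ D) ≤ Nat.card D := by
    rw [hk, f.D_card]
    exact (Nat.pow_le_pow_right (by norm_num) hk2).trans (by norm_num)
  rw [Subgroup.eq_of_le_of_card_ge (le_sup_right : D ≤ zpowers g ⊔ D) h2]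
  exact mem_sup_left (mem_zpowers g)

lemma D_sylow : ¬ 27 ∣ Nat.card (centralizer ({f.t} : Set G)) := by
  intro h27
  haveI : Fact (Nat.Prime 3) := ⟨Nat.prime_three⟩
  set D := closure ({f.z, f.w} : Set G) with hD
  set C := centralizer ({f.t} : Set G) with hC
  have hDC : D ≤ C := by
    rw [hD, closure_le]
    rintro x (rfl | rfl)
    · exact mem_of_commute (zt f)
    · exact mem_of_commute (wt f)
  have hDp : IsPGroup 3 (D.subgroupOf C) :=
    (IsPGroup.of_card (n := 2) (by rw [f.D_card]; norm_num) : IsPGroup 3 D).of_equiv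
      (Subgroup.subgroupOfEquivOfLe hDC).symm
  obtain ⟨P, hP⟩ := hDp.exists_le_sylow
  have hPcard : 27 ∣ Nat.card P := P.pow_dvd_card_of_pow_dvd_card (n := 3) h27
  set H := ((D.subgroupOf C).subgroupOf (P : Subgroup C)) with hH
  have hHtop : H < ⊤ := by
    refine lt_top_iff_ne_top.2 fun h => ?_
    have h1 : Nat.card H = Nat.card P := by rw [h, Subgroup.card_top]
    rw [hH, Nat.card_congr (Subgroup.subgroupOfEquivOfLe hP).toEquiv,
      Nat.card_congr (Subgroup.subgroupOfEquivOfLe hDC).toEquiv, f.D_card] at h1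
    omega
  haveI := P.2.isNilpotent
  obtain ⟨x, hxn, hx⟩ := SetLike.exists_of_lt (Group.normalizerCondition_of_isNilpotent H hHtop)
  set g : G := ((x : C) : G) with hg
  have hgt : g * f.t = f.t * g := commute_of_mem (x : C).2
  have hgD : g ∉ D := fun h => hx (show ((x : C) : G) ∈ D from h)
  obtain ⟨m, hm⟩ := P.2 x
  have hg3 : g ^ 3 ^ m = 1 := by
    have := congrArg (fun a : P => ((a : C) : G)) hm
    simpa [hg] using this
  have hgn : ∀ a ∈ D, g * a * g⁻¹ ∈ D := fun a ha =>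
    (mem_normalizer_iff.1 hxn ⟨⟨a, hDC ha⟩, hP (show (⟨a, hDC ha⟩ : C) ∈ D.subgroupOf C from ha)⟩).1 ha
  have hgN : g ∈ normalizer (D : Set G) := by
    rw [mem_normalizer_iff]
    intro a
    refine ⟨hgn a, fun ha => ?_⟩
    have hfin : ∀ n : ℕ, ∀ b ∈ D, g ^ n * b * (g ^ n)⁻¹ ∈ D := by
      intro n
      induction n with
      | zero => intro b hb; simpa using hb
      | succ n ih =>
        intro b hb
        have := hgn _ (ih b hb)
        rw [pow_succ']
        simpa [mul_assoc] using this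
    have hinv : g ^ (orderOf g - 1) = g⁻¹ := by
      refine eq_inv_of_mul_eq_one_left ?_
      rw [← pow_succ, Nat.sub_add_cancel (orderOf_pos g), pow_orderOf_eq_one]
    have := hfin (orderOf g - 1) _ ha
    rw [hinv] at this
    simpa [mul_assoc] using this
  have hjD : ∀ a ∈ D, f.j * a * f.j⁻¹ ∈ D := by
    intro a ha
    obtain ⟨i, l, -, -, rfl⟩ := exists_exp f ha
    rw [show f.j * (f.z ^ i * f.w ^ l) * f.j⁻¹ = (f.j * f.z ^ i * f.j⁻¹) * (f.j * f.w ^ l * f.j⁻¹) by group,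
      ← conj_pow, ← conj_pow, f.j_z, f.j_w]
    exact mul_mem (pow_mem (w_mem_D f) i) (pow_mem (z_mem_D f) l)
  -- conjugation by `g` acts on the four conjugates of `z`
  set c : MulAut G := MulAut.conj g with hc
  have hcz : c f.z = f.z ∨ c f.z = f.z⁻¹ ∨ c f.z = f.w ∨ c f.z = f.w⁻¹ :=
    zclass f (hgn _ (z_mem_D f))
  have hcw : c f.w = f.z ∨ c f.w = f.z⁻¹ ∨ c f.w = f.w ∨ c f.w = f.w⁻¹ := by
    have e : c f.w = g * f.j * f.z * (g * f.j)⁻¹ := by
      rw [hc, MulAut.conj_apply, ← f.j_z]; group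
    rw [e]
    exact zclass f (e ▸ hgn _ (w_mem_D f))
  have hc4 : c (c (c (c f.z))) = f.z ∨ c (c (c (c f.w))) = f.w := by
    rcases hcz with h | h | h | h <;> rcases hcw with h' | h' | h' | h' <;>
      simp [h, h', map_inv]
  have hback : g ∈ zpowers (g ^ 4) := by
    obtain ⟨k, -, hk⟩ := (Nat.dvd_prime_pow Nat.prime_three).1 (orderOf_dvd_of_pow_eq_one hg3)
    have : (orderOf g).gcd 4 = 1 := by
      rw [hk]
      exact Nat.Coprime.pow_left k (by norm_num)
    obtain ⟨n, hn⟩ := exists_pow_eq_self_of_coprime (x := g) (n := 4)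
      (Nat.coprime_comm.1 this)
    exact ⟨n, by simp only [zpow_natCast]; exact hn⟩
  have hfix : ∀ a : G, c (c (c (c a))) = a → g * a = a * g := by
    intro a ha
    have h4 : Commute (g ^ 4) a := by
      refine mul_inv_eq_iff_eq_mul.1 ?_
      rw [hc] at ha
      simp only [MulAut.conj_apply] at ha
      calc g ^ 4 * a * (g ^ 4)⁻¹
          = g * (g * (g * (g * a * g⁻¹) * g⁻¹) * g⁻¹) * g⁻¹ := by simp [pow_succ, mul_assoc]
        _ = a := ha
    obtain ⟨n, hn⟩ := hback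
    have := h4.zpow_left n
    rw [show (g ^ 4) ^ n = g from hn] at this
    exact this
  rcases hc4 with h | h
  · exact hgD (mem_D_of_cent f hg3 hgt (hfix _ h) hgN)
  · have hgw := hfix _ h
    set g' := f.j * g * f.j⁻¹ with hg'
    have h1 : g' ^ 3 ^ m = 1 := by rw [hg', conj_pow, hg3]; group
    have h2 : g' * f.t = f.t * g' :=
      (((show Commute f.j f.t from f.jt).mul_left hgt).mul_left
        (show Commute f.j f.t from f.jt).inv_left : Commute _ _)
    have h3 : g' * f.z = f.z * g' := by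
      rw [hg', ← f.j_w]
      calc f.j * g * f.j⁻¹ * (f.j * f.w * f.j⁻¹) = f.j * (g * f.w) * f.j⁻¹ := by group
        _ = _ := by rw [hgw]; group
    have hjN : f.j ∈ normalizer (D : Set G) := by
      rw [mem_normalizer_iff]
      intro a
      refine ⟨hjD a, fun ha => ?_⟩
      have hh := hjD _ ha
      rw [j_inv] at hh
      have e : f.j * (f.j * a * f.j) * f.j = a := by
        calc _ = (f.j * f.j) * a * (f.j * f.j) := by group
          _ = a := by rw [f.j_sq, one_mul, mul_one]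
      rwa [e] at hh
    have h4 := mem_D_of_cent f h1 h2 h3 (mul_mem (mul_mem hjN hgN) (inv_mem hjN))
    apply hgD
    have h5 := hjD _ h4
    have e : f.j * g' * f.j⁻¹ = g := by
      rw [hg', j_inv]
      calc _ = (f.j * f.j) * g * (f.j * f.j) := by group
        _ = g := by rw [f.j_sq, one_mul, mul_one]
    rwa [e] at h5

end Finite

end CfsgLib.McLThreeLocal.CentY

namespace CfsgLib.McLThreeLocal

open Subgroup

universe u

/-- The fusion half of the frame. -/
theorem exists_frame {G : Type u} [Group G] [Finite G] (f : FrameCore G)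
    (hiii : ∀ x ∈ f.J, x ≠ 1 → centralizer (R3 x : Set G) ≤ R3 x) :
    ∃ f' : Frame G, f'.toFrameCore = f :=
  ⟨⟨f, CentY.D_sylow f, fun _ hy => CentY.centY f hiii hy, fun _ hy g => CentY.y_not_Z f hy g⟩, rfl⟩

/-- The fusion half of the frame, given the centraliser of `z w`. -/
theorem exists_frame_of_centY {G : Type u} [Group G] [Finite G] (f : FrameCore G)
    (hY : ∀ y : G, y = f.z * f.w ∨ y = f.z * f.w⁻¹ →
      centralizer ({y} : Set G) ≤ normalizer (f.J : Set G)) :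
    ∃ f' : Frame G, f'.toFrameCore = f :=
  ⟨⟨f, CentY.D_sylow f, hY, fun _ hy g => CentY.y_not_Z f hy g⟩, rfl⟩

end CfsgLib.McLThreeLocal
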