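import Cfsg.Agent.Lib.McLThreeLocal.FrameTMem

/-!
The frame inside `C(t)`: the elements `w`, `k` and the swap `j`.
-/

set_option autoImplicit false
set_option linter.unusedSectionVars false
set_option linter.style.haveILetI false

namespace CfsgLib.McLThreeLocal

open Subgroup Equiv FrameSix MatrixGroups

universe u

variable {G : Type u} [Group G] [Finite G]

namespace LocalZ

variable (l : LocalZ G)

theorem t_conj_J {d : G} (htM : l.t ∈ l.M) (hd : d ∈ l.J) : l.t * d * l.t ∈ l.J := by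
  have := (mem_normalizer_iff.mp (l.M_le_normJ htM) d).mp hd
  rwa [l.t_inv_eq] at this

/-- Elements of `C(t1)` lift to `C_M(t)`. -/
theorem exists_lift_comm (π : Proj l.toHyp) (htM : l.t ∈ l.M) (hπt : π.map l.t = t1)
    (x : Perm (Fin 6)) (hx : Perm.sign x = 1) (hxt : x * t1 = t1 * x) :
    ∃ g ∈ l.M, π.map g = x ∧ g * l.t = l.t * g := by
  obtain ⟨g, hg, hπg⟩ := π.surj_map x hx
  have hcM := mul_mem (mul_mem hg htM) (inv_mem hg)
  set d := l.t * (g * l.t * g⁻¹) with hd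
  have hdJ : d ∈ l.J := by
    rw [← π.ker_map _ (mul_mem htM hcM), π.map_mul' _ htM _ hcM, π.map_conj hg htM, hπg, hπt, hxt,
      mul_inv_cancel_right, FrameSix.basic.2.2.2.2.2.2.1]
  have hinv : l.t * d * l.t⁻¹ = d⁻¹ := by
    have e : d * (l.t * d * l.t⁻¹) = 1 := by
      rw [hd]
      calc l.t * (g * l.t * g⁻¹) * (l.t * (l.t * (g * l.t * g⁻¹)) * l.t⁻¹)
          = l.t * (g * l.t * g⁻¹) * ((l.t * l.t) * (g * l.t * g⁻¹)) * l.t⁻¹ := by group
        _ = l.t * (g * l.t * g⁻¹) * (g * l.t * g⁻¹) * l.t⁻¹ := by rw [l.t_sq]; group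
        _ = l.t * (g * (l.t * l.t) * g⁻¹) * l.t⁻¹ := by group
        _ = 1 := by rw [l.t_sq]; group
    exact eq_inv_of_mul_eq_one_right e
  refine ⟨d * d * g, mul_mem (mul_mem (l.hJM hdJ) (l.hJM hdJ)) hg, ?_, ?_⟩
  · rw [π.map_mul' _ (mul_mem (l.hJM hdJ) (l.hJM hdJ)) _ hg,
      (π.ker_map _ (mul_mem (l.hJM hdJ) (l.hJM hdJ))).mpr (mul_mem hdJ hdJ), one_mul, hπg]
  · have h3 := l.hJexp d hdJ
    rw [pow_succ, pow_two] at h3
    have hgt : g * l.t = l.t * d * g := by rw [hd, ← mul_assoc l.t, l.t_sq, one_mul]; group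
    have htd : d * l.t = l.t * d⁻¹ := by
      rw [← hinv, show l.t * (l.t * d * l.t⁻¹) = l.t * l.t * d * l.t⁻¹ by group, l.t_sq, one_mul,
        l.t_inv_eq]
    calc d * d * g * l.t = d * d * (g * l.t) := by group
      _ = d * (d * l.t) * d * g := by rw [hgt]; group
      _ = d * (l.t * d⁻¹) * d * g := by rw [← htd]
      _ = d * l.t * g := by group
      _ = l.t * d⁻¹ * g := by rw [htd]
      _ = l.t * (d * d * g) := by
        rw [← inv_eq_of_mul_eq_one_right (show d * (d * d) = 1 by rw [← mul_assoc]; exact h3)]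
        group

theorem exists_swap (π : Proj l.toHyp) (htM : l.t ∈ l.M) (hπt : π.map l.t = t1) :
    ∃ w j k : G, w ∈ l.K ∧ w ∈ (l.S : Subgroup G) ∧ orderOf w = 3 ∧
      (∀ s ∈ (l.S : Subgroup G), ∃ a ∈ l.Q, ∃ i : ℕ, s = a * w ^ i) ∧
      j ∈ l.M ∧ j * j = 1 ∧ j * l.t = l.t * j ∧ j * l.z * j⁻¹ = w ∧
      k ∈ l.K ∧ k * k = l.t ∧ k * w * k⁻¹ = w⁻¹ ∧
      (∀ s ∈ (l.S : Subgroup G), k * s * k⁻¹ ∈ (l.S : Subgroup G)) := by
  obtain ⟨-, -, hj1s, -, -, -, ht1, -, hj1c, hj1sq, hj1ne, -, -, -, hPa, hPb, hj1n⟩ :=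
    FrameSix.basic
  obtain ⟨w, hwK, hwS, hw3, hw⟩ := l.exists_w
  obtain ⟨hwJ, -, hD, hCJ⟩ := l.w_facts hwK hwS hw3 hw
  have hw1 : w ^ 3 = 1 := by rw [← hw3, pow_orderOf_eq_one]
  have hwt : Commute w l.t := l.K_t w hwK
  have hwz : Commute w l.z := l.K_z w hwK
  -- the involution lifting `j1`
  obtain ⟨g, hg, hπg, hgt⟩ := l.exists_lift_comm π htM hπt j1 hj1s hj1c
  have hgg : g * g ∈ l.J := by
    rw [← π.ker_map _ (mul_mem hg hg), π.map_mul' _ hg _ hg, hπg, hj1sq]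
  set j := g ^ 3 with hjdef
  have hj : j ∈ l.M := pow_mem hg 3
  have hπj : π.map j = j1 := by
    rw [hjdef, π.map_pow hg, hπg, pow_succ, pow_two, hj1sq, one_mul]
  have hjj : j * j = 1 := by
    have := l.hJexp _ hgg
    rw [← pow_two, ← pow_mul] at this
    rw [hjdef, ← pow_add]; exact this
  have hjt : Commute j l.t := (show Commute g l.t from hgt).pow_left 3
  have hconjD : ∀ a ∈ l.J, a * l.t = l.t * a → ∃ i i' : ℕ, j * a * j⁻¹ = l.z ^ i * w ^ i' :=
    fun a ha hat => hCJ _ ((mem_normalizer_iff.mp (l.M_le_normJ hj) a).mp ha)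
      ((hjt.mul_left hat).mul_left hjt.inv_left)
  obtain ⟨a, b, hab⟩ := hconjD l.z l.z_mem_J l.tz.symm
  have hzw : Commute l.z w := hwz.symm
  -- `j` moves `⟨z⟩`
  have hb3 : b % 3 ≠ 0 := by
    intro h0
    rw [pow_eq_pow_mod b hw1, h0, pow_zero, mul_one] at hab
    have hjZ : j ∈ normalizer (l.Z : Set G) := by
      refine normalizer_of_conj_mem fun x hx => ?_
      rw [l.Z_eq] at hx ⊢
      obtain ⟨i, rfl⟩ := mem_zpowers_iff.mp hx
      rw [← conj_zpow, hab]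
      exact zpow_mem (pow_mem (mem_zpowers _) _) _
    have hjS : ∀ s ∈ (l.S : Subgroup G), j * s * j⁻¹ ∈ (l.S : Subgroup G) := by
      have hle : (l.J ⊔ l.Q) ≤ (l.S : Subgroup G).comap (MulAut.conj j).toMonoidHom := by
        refine sup_le ?_ ?_
        · intro x hx
          exact l.hJS ((mem_normalizer_iff.mp (l.M_le_normJ hj) x).mp hx)
        · intro x hx
          exact l.Q_le_S ((mem_normalizer_iff.mp (l.normZ_le hjZ) x).mp hx)
      rw [l.JQ_sup] at hle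
      exact fun s hs => hle hs
    apply hj1n
    constructor
    all_goals
      first
      | (obtain ⟨s, hs, hπs⟩ := π.surj_map a1 FrameSix.basic.2.2.2.1
         rw [← hπs, ← hπj, ← π.map_conj hj hs]
         exact (π.syl_map _ (mul_mem (mul_mem hj hs) (inv_mem hj))).mpr
           (hjS s ((π.syl_map s hs).mp (hπs ▸ hPa))))
      | (obtain ⟨s, hs, hπs⟩ := π.surj_map b1 FrameSix.basic.2.2.2.2.1
         rw [← hπs, ← hπj, ← π.map_conj hj hs]
         exact (π.syl_map _ (mul_mem (mul_mem hj hs) (inv_mem hj))).mpr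
           (hjS s ((π.syl_map s hs).mp (hπs ▸ hPb))))
  -- the element `k`
  have hexk : ∃ k ∈ l.K, k * k = l.t ∧ k * w * k⁻¹ = w⁻¹ := by
    set τ := l.eK ⟨w, hwK⟩ with hτ
    have h1 : τ ≠ 1 := fun h => by
      have := congrArg Subtype.val (l.eK.injective (h.trans (map_one l.eK).symm))
      simp only [OneMemClass.coe_one] at this
      rw [this, orderOf_one] at hw3
      omega
    have h3 : τ ^ 3 = 1 := by
      rw [hτ, ← map_pow, show (⟨w, hwK⟩ : l.K) ^ 3 = 1 from Subtype.ext hw1, map_one]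
    obtain ⟨x, hx2, hx⟩ := SLFive.exists_root τ h1 h3
    obtain ⟨k, rfl⟩ := l.eK.surjective x
    rw [← map_mul, ← l.eK_t] at hx2
    rw [hτ, ← map_mul, ← map_mul] at hx
    have e2 := congrArg Subtype.val (l.eK.injective hx2)
    have e := congrArg Subtype.val (l.eK.injective hx)
    simp only [Subgroup.coe_mul] at e e2
    refine ⟨k, k.2, e2, ?_⟩
    calc (k : G) * w * (k : G)⁻¹ = w⁻¹ * (w * k * w) * (k : G)⁻¹ := by group
      _ = w⁻¹ := by rw [e]; group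
  obtain ⟨k, hkK, hk2, hkw⟩ := hexk
  have hkz : Commute k l.z := l.K_z k hkK
  have hkt : Commute k l.t := l.K_t k hkK
  have hkS : ∀ s ∈ (l.S : Subgroup G), k * s * k⁻¹ ∈ (l.S : Subgroup G) := fun s hs =>
    l.K_conj_S hkz hw (hkw ▸ inv_mem hwS) hs
  -- `j z j⁻¹` lies in `⟨w⟩`
  have ha3 : a % 3 = 0 := by
    by_contra ha0
    have hkN := l.normJ_of_conj_S hkS
    have hiM : k * j * k⁻¹ ∈ l.M := l.conj_mem_M hkN hj
    set i := k * j * k⁻¹ with hidef
    have hii : i * i = 1 := by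
      rw [hidef, show k * j * k⁻¹ * (k * j * k⁻¹) = k * (j * j) * k⁻¹ by group, hjj]; group
    have hit : Commute i l.t := (hkt.mul_left hjt).mul_left hkt.inv_left
    have hkwn : ∀ n : ℕ, k * w ^ n * k⁻¹ = (w ^ n)⁻¹ := fun n => by
      rw [← conj_pow, hkw, inv_pow]
    have hiz : i * l.z * i⁻¹ = l.z ^ a * (w ^ b)⁻¹ := by
      rw [hidef, show k * j * k⁻¹ * l.z * (k * j * k⁻¹)⁻¹ = k * (j * (k⁻¹ * l.z * k) * j⁻¹) * k⁻¹
        by group, (hkz.inv_left).eq, inv_mul_cancel_right, hab, ← conj_mul, hkwn,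
        (hkz.pow_right a).eq, mul_inv_cancel_right]
    set g' := i * j with hg'
    have hg'M : g' ∈ l.M := mul_mem hiM hj
    have hg't : g' * l.t = l.t * g' := hit.mul_left hjt
    have hπ4 : π.map (g' ^ 4) = 1 := by
      rw [π.map_pow hg'M]
      refine (cent_t1 _ ?_ (π.sign_map _)).1
      rw [← hπt, ← π.map_mul' _ hg'M _ htM, ← π.map_mul' _ htM _ hg'M, hg't]
    have h4J : g' ^ 4 ∈ l.J := (π.ker_map _ (pow_mem hg'M 4)).mp hπ4
    -- the action on `⟨z, w⟩`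
    have hij : i⁻¹ = i := inv_eq_of_mul_eq_one_right hii
    have hji : j⁻¹ = j := inv_eq_of_mul_eq_one_right hjj
    have hcA : ∀ x y : G, j * x * j⁻¹ = y → j * y * j⁻¹ = x := fun x y h => by
      rw [← h, hji, show j * (j * x * j) * j = (j * j) * x * (j * j) by group, hjj, one_mul,
        mul_one]
    have hjz2 := hcA _ _ hab
    have hiz2 : i * (l.z ^ a * (w ^ b)⁻¹) * i⁻¹ = l.z := by
      rw [← hiz, hij, show i * (i * l.z * i) * i = (i * i) * l.z * (i * i) by group, hii, one_mul,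
        mul_one]
    have hjwb : j * w ^ b * j⁻¹ = (l.z ^ (a * a) * (w ^ (a * b)))⁻¹ * l.z := by
      have e : j * (l.z ^ a * w ^ b) * j⁻¹ = (j * l.z * j⁻¹) ^ a * (j * w ^ b * j⁻¹) := by
        rw [conj_pow, conj_mul]
      rw [hjz2, hab, (hzw.pow_pow a b).mul_pow, ← pow_mul, ← pow_mul, mul_comm b a] at e
      exact eq_inv_mul_iff_mul_eq.mpr e.symm
    have hiwb : i * (w ^ b)⁻¹ * i⁻¹ = (l.z ^ (a * a) * ((w ^ (a * b)))⁻¹)⁻¹ * l.z := by
      have e : i * (l.z ^ a * (w ^ b)⁻¹) * i⁻¹ = (i * l.z * i⁻¹) ^ a * (i * (w ^ b)⁻¹ * i⁻¹) := by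
        rw [conj_pow, conj_mul]
      rw [hiz2, hiz, ((hzw.pow_pow a b).inv_right).mul_pow, ← pow_mul, inv_pow, ← pow_mul,
        mul_comm b a] at e
      exact eq_inv_mul_iff_mul_eq.mpr e.symm
    have ha2 : l.z ^ (a * a) = l.z := by
      rw [pow_eq_pow_mod (a * a) l.z_cube, Nat.mul_mod]
      rcases (show a % 3 = 1 ∨ a % 3 = 2 by omega) with h | h <;> rw [h] <;> simp
    have hjwb' : j * w ^ b * j⁻¹ = (w ^ (a * b))⁻¹ := by
      rw [hjwb, ha2, mul_inv_rev, inv_mul_cancel_right]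
    have hiwb' : i * (w ^ b)⁻¹ * i⁻¹ = w ^ (a * b) := by
      rw [hiwb, ha2, mul_inv_rev, inv_mul_cancel_right, inv_inv]
    have hgz : g' * l.z * g'⁻¹ = l.z * (w ^ (a * b) * w ^ (a * b))⁻¹ := by
      rw [hg', show i * j * l.z * (i * j)⁻¹ = i * (j * l.z * j⁻¹) * i⁻¹ by group, hab, ← conj_mul,
        ← conj_pow, hiz, show i * w ^ b * i⁻¹ = (i * (w ^ b)⁻¹ * i⁻¹)⁻¹ by group, hiwb',
        ((hzw.pow_pow a b).inv_right).mul_pow, ← pow_mul, ha2, inv_pow, ← pow_mul, mul_comm b a,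
        mul_assoc, ← mul_inv_rev]
    have hgw : g' * w ^ (a * b) * g'⁻¹ = w ^ (a * b) := by
      rw [show a * b = b * a from mul_comm a b, pow_mul, ← conj_pow]
      congr 1
      rw [hg', show i * j * w ^ b * (i * j)⁻¹ = i * (j * w ^ b * j⁻¹) * i⁻¹ by group, hjwb',
        mul_comm a b, pow_mul, ← inv_pow, ← conj_pow, hiwb', ← pow_mul]
      rw [show a * b * a = a * a * b by ring, pow_mul, pow_eq_pow_mod (a * a) hw1, Nat.mul_mod]
      rcases (show a % 3 = 1 ∨ a % 3 = 2 by omega) with h | h <;> rw [h] <;> simp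
    set c := w ^ (a * b) * w ^ (a * b) with hc
    have hgc : g' * c⁻¹ * g'⁻¹ = c⁻¹ := by
      rw [← conj_inv, hc, ← conj_mul, hgw]
    have hpow : ∀ n : ℕ, g' ^ n * l.z * (g' ^ n)⁻¹ = l.z * (c⁻¹) ^ n := by
      intro n
      induction n with
      | zero => simp
      | succ n ih =>
        rw [pow_succ', show g' * g' ^ n * l.z * (g' * g' ^ n)⁻¹ =
          g' * (g' ^ n * l.z * (g' ^ n)⁻¹) * g'⁻¹ by group, ih, ← conj_mul, hgz, ← conj_pow, hgc,
          mul_assoc, ← pow_succ']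
    have h := hpow 4
    rw [l.hJcomm _ h4J _ l.z_mem_J, mul_inv_cancel_right, left_eq_mul, inv_pow, inv_eq_one, hc,
      ← pow_add, ← pow_mul] at h
    have hd : 3 ∣ (a * b + a * b) * 4 := hw3 ▸ orderOf_dvd_of_pow_eq_one h
    have := Nat.Coprime.dvd_of_dvd_mul_right (by norm_num) hd
    rw [show a * b + a * b = a * b * 2 by ring] at this
    rcases (Nat.Prime.dvd_mul Nat.prime_three).mp
      (Nat.Coprime.dvd_of_dvd_mul_right (by norm_num) this) with h' | h' <;> omega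
  rw [pow_eq_pow_mod a l.z_cube, ha3, pow_zero, one_mul] at hab
  -- replace `w` by `j z j⁻¹`
  have hcop : Nat.Coprime b 3 := by
    rw [Nat.coprime_comm, Nat.Prime.coprime_iff_not_dvd Nat.prime_three]; omega
  obtain ⟨m, hm⟩ := exists_pow_eq_self_of_coprime (x := w) (by rw [hw3]; exact hcop)
  refine ⟨w ^ b, j, k, pow_mem hwK b, pow_mem hwS b, ?_, ?_, hj, hjj, hjt.eq, hab, hkK, hk2, ?_,
    hkS⟩
  · rw [Nat.Coprime.orderOf_pow (hw3 ▸ hcop.symm), hw3]
  · intro s hs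
    obtain ⟨q, hq, i, rfl⟩ := hw s hs
    exact ⟨q, hq, m * i, by rw [pow_mul, hm]⟩
  · rw [← conj_pow, hkw, inv_pow]

end LocalZ

/-- The frame inside `C(t)` exists. -/
theorem exists_frameCore (l : LocalZ G) : ∃ f : FrameCore G, f.toLocalZ = l := by
  obtain ⟨htM, π, hπt⟩ := l.t_mem_and_proj
  obtain ⟨w, j, k, hwK, hwS, hw3, hw, hj, hjj, hjt, hjz, hkK, hk2, hkw, hkS⟩ :=
    l.exists_swap π htM hπt
  obtain ⟨hwJ, -, hD, hCJ⟩ := l.w_facts hwK hwS hw3 hw
  have hw1 : w ^ 3 = 1 := by rw [← hw3, pow_orderOf_eq_one]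
  have hkN := l.normJ_of_conj_S hkS
  have hji : j⁻¹ = j := inv_eq_of_mul_eq_one_right hjj
  have hjw : j * w * j⁻¹ = l.z := by
    rw [← hjz, hji, show j * (j * l.z * j) * j = (j * j) * l.z * (j * j) by group, hjj, one_mul,
      mul_one]
  have hkz : Commute k l.z := l.K_z k hkK
  have hkt : Commute k l.t := l.K_t k hkK
  have hjt' : Commute j l.t := hjt
  have hwz : Commute w l.z := l.K_z w hwK
  -- `z ∉ ⟨w⟩`
  have hzw : ∀ n : ℕ, l.z ≠ w ^ n := fun n h => l.z_ne_one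
    (l.Q_inf_K (l.Z_le_Q l.z_mem_Z) (h ▸ pow_mem hwK n))
  have hcard : Nat.card (closure ({l.z, w} : Set G)) = 9 := by
    let f : Fin 3 × Fin 3 → closure ({l.z, w} : Set G) := fun p =>
      ⟨l.z ^ (p.1 : ℕ) * w ^ (p.2 : ℕ), mul_mem (pow_mem (subset_closure (by simp)) _)
        (pow_mem (subset_closure (by simp)) _)⟩
    have hf : Function.Bijective f := by
      constructor
      · intro p q e
        have e' : l.z ^ (p.1 : ℕ) * w ^ (p.2 : ℕ) = l.z ^ (q.1 : ℕ) * w ^ (q.2 : ℕ) :=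
          congrArg Subtype.val e
        have h2 : (l.z ^ (q.1 : ℕ))⁻¹ * l.z ^ (p.1 : ℕ) = w ^ (q.2 : ℕ) * (w ^ (p.2 : ℕ))⁻¹ := by
          rw [inv_mul_eq_iff_eq_mul, ← mul_assoc, eq_mul_inv_iff_mul_eq, e']
        have h1 := l.Q_inf_K (x := (l.z ^ (q.1 : ℕ))⁻¹ * l.z ^ (p.1 : ℕ))
          (mul_mem (inv_mem (pow_mem (l.Z_le_Q l.z_mem_Z) _)) (pow_mem (l.Z_le_Q l.z_mem_Z) _))
          (h2 ▸ mul_mem (pow_mem hwK _) (inv_mem (pow_mem hwK _)))
        have e1 : l.z ^ (p.1 : ℕ) = l.z ^ (q.1 : ℕ) := (inv_mul_eq_one.mp h1).symm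
        have e2 : w ^ (p.2 : ℕ) = w ^ (q.2 : ℕ) := by
          rw [e1] at e'
          exact mul_left_cancel e'
        exact Prod.ext
          (Fin.ext (pow_injOn_Iio_orderOf (by rw [Set.mem_Iio, l.z_order]; exact p.1.2)
            (by rw [Set.mem_Iio, l.z_order]; exact q.1.2) e1))
          (Fin.ext (pow_injOn_Iio_orderOf (by rw [Set.mem_Iio, hw3]; exact p.2.2)
            (by rw [Set.mem_Iio, hw3]; exact q.2.2) e2))
      · rintro ⟨x, hx⟩
        obtain ⟨a, b, rfl⟩ := hCJ x ((hD x).mp hx).1 ((hD x).mp hx).2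
        exact ⟨(⟨a % 3, Nat.mod_lt _ (by norm_num)⟩, ⟨b % 3, Nat.mod_lt _ (by norm_num)⟩),
          Subtype.ext (by simp [f, ← pow_eq_pow_mod a l.z_cube, ← pow_eq_pow_mod b hw1])⟩
    rw [← Nat.card_eq_of_bijective f hf, Nat.card_prod, Nat.card_fin]
  -- the element `c = [k, j]`
  set c := k * j * k⁻¹ * j with hc
  have hcM : c ∈ l.M := mul_mem (l.conj_mem_M hkN hj) hj
  have hct : Commute c l.t := ((hkt.mul_left hjt').mul_left hkt.inv_left).mul_left hjt'
  have hcz : c * l.z * c⁻¹ = l.z⁻¹ := by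
    rw [hc, show k * j * k⁻¹ * j * l.z * (k * j * k⁻¹ * j)⁻¹ =
      k * (j * (k⁻¹ * (j * l.z * j⁻¹) * k) * j⁻¹) * k⁻¹ by group, hjz]
    have : k⁻¹ * w * k = w⁻¹ := by
      have h := congrArg (fun x => k⁻¹ * x⁻¹ * k) hkw
      simp only [inv_inv] at h
      rw [← h]; group
    rw [this, ← conj_inv, hjw, ← conj_inv, hkz.eq, mul_inv_cancel_right]
  have hcw : c * w * c⁻¹ = w⁻¹ := by
    rw [hc, show k * j * k⁻¹ * j * w * (k * j * k⁻¹ * j)⁻¹ =
      k * (j * (k⁻¹ * (j * w * j⁻¹) * k) * j⁻¹) * k⁻¹ by group, hjw, hkz.inv_left.eq,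
      inv_mul_cancel_right, hjz, hkw]
  have hcfix : ∀ x : G, c * x * c⁻¹ = x⁻¹ → Commute c x → x ^ 3 = 1 → x = 1 := fun x h h' h3 =>
    eq_one_of_eq_inv_cube h3 (by rwa [h'.eq, mul_inv_cancel_right] at h)
  have hczne : ¬ Commute c l.z := fun h => l.z_ne_one (hcfix _ hcz h l.z_cube)
  have hnotJ : c ∉ l.J := fun h => hczne (l.hJcomm _ h _ l.z_mem_J)
  have hnotJt : l.t * c ∉ l.J := fun h => hczne (by
    have h' : Commute (l.t * c) l.z := l.hJcomm _ h _ l.z_mem_J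
    have := (show Commute l.t⁻¹ l.z from (show Commute l.t l.z from l.tz).inv_left).mul_left h'
    rwa [inv_mul_cancel_left] at this)
  have hcS : ∀ s ∈ (l.S : Subgroup G), c * s * c⁻¹ ∈ (l.S : Subgroup G) := by
    have hcZ : c ∈ normalizer (l.Z : Set G) := by
      refine normalizer_of_conj_mem fun x hx => ?_
      rw [l.Z_eq] at hx ⊢
      obtain ⟨i, rfl⟩ := mem_zpowers_iff.mp hx
      rw [← conj_zpow, hcz]
      exact zpow_mem (inv_mem (mem_zpowers _)) _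
    have hle : (l.J ⊔ l.Q) ≤ (l.S : Subgroup G).comap (MulAut.conj c).toMonoidHom := by
      refine sup_le ?_ ?_
      · intro x hx
        exact l.hJS ((mem_normalizer_iff.mp (l.M_le_normJ hcM) x).mp hx)
      · intro x hx
        exact l.Q_le_S ((mem_normalizer_iff.mp (l.normZ_le hcZ) x).mp hx)
    rw [l.JQ_sup] at hle
    exact fun s hs => hle hs
  have hπc : π.map c * π.map c = t1 := by
    obtain ⟨-, -, -, ha1s, hb1s, -, -, -, -, -, -, -, -, -, hPa, hPb, -⟩ := FrameSix.basic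
    have hcomm : π.map c * t1 = t1 * π.map c := by
      rw [← hπt, ← π.map_mul' _ hcM _ htM, ← π.map_mul' _ htM _ hcM, hct.eq]
    rcases (cent_t1 _ hcomm (π.sign_map _)).2 with h | h | h | ⟨-, h⟩
    · exact absurd ((π.ker_map c hcM).mp h) hnotJ
    · exfalso
      apply hnotJt
      rw [← π.ker_map _ (mul_mem htM hcM), π.map_mul' _ htM _ hcM, hπt, h,
        FrameSix.basic.2.2.2.2.2.2.1]
    · exact h
    · refine absurd ⟨?_, ?_⟩ h
      · obtain ⟨s, hs, hπs⟩ := π.surj_map a1 ha1s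
        rw [← hπs, ← π.map_conj hcM hs]
        exact (π.syl_map _ (mul_mem (mul_mem hcM hs) (inv_mem hcM))).mpr
          (hcS s ((π.syl_map s hs).mp (hπs ▸ hPa)))
      · obtain ⟨s, hs, hπs⟩ := π.surj_map b1 hb1s
        rw [← hπs, ← π.map_conj hcM hs]
        exact (π.syl_map _ (mul_mem (mul_mem hcM hs) (inv_mem hcM))).mpr
          (hcS s ((π.syl_map s hs).mp (hπs ▸ hPb)))
  have hcc : c * c = l.t := by
    set d := l.t * (c * c) with hd
    have hdJ : d ∈ l.J := by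
      rw [← π.ker_map _ (mul_mem htM (mul_mem hcM hcM)), π.map_mul' _ htM _ (mul_mem hcM hcM),
        π.map_mul' _ hcM _ hcM, hπc, hπt, FrameSix.basic.2.2.2.2.2.2.1]
    have hdt : d * l.t = l.t * d := (Commute.refl l.t).mul_left (hct.mul_left hct)
    obtain ⟨a, b, hab⟩ := hCJ d hdJ hdt
    have hcd : Commute c d := hct.mul_right ((Commute.refl c).mul_right (Commute.refl c))
    have hinv : c * d * c⁻¹ = d⁻¹ := by
      rw [hab, ← conj_mul, ← conj_pow, ← conj_pow, hcz, hcw, inv_pow, inv_pow, mul_inv_rev,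
        ((hwz.symm.pow_pow a b).inv_inv).eq]
    have h1 := hcfix d hinv hcd (l.hJexp d hdJ)
    rw [hd] at h1
    rw [eq_inv_of_mul_eq_one_right h1, l.t_inv_eq]
  have hkk : k * (j * k * j⁻¹) = l.t * c⁻¹⁻¹ := by
    have hk' : k = l.t * k⁻¹ := by rw [← hk2, mul_inv_cancel_right]
    rw [inv_inv, hc, hji]
    calc k * (j * k * j) = k * (j * (l.t * k⁻¹) * j) := by rw [← hk']
      _ = (k * (j * l.t)) * k⁻¹ * j := by group
      _ = l.t * (k * j * k⁻¹ * j) := by rw [hjt, ← mul_assoc k, hkt.eq]; group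
  rw [inv_inv] at hkk
  refine ⟨{ l with
    w := w, w_order := hw3, w_mem_K := hwK, w_mem_J := hwJ, D_eq := hD, D_card := hcard,
    t_mem_M := htM, k := k, k_mem_K := hkK, k_sq := hk2, k_w := hkw, k_normJ := hkN,
    j := j, j_mem_M := hj, j_sq := hjj, jt := hjt, j_z := hjz, j_w := hjw,
    comm_kk := ?_, kk_mem_M := hkk ▸ mul_mem htM hcM }, rfl⟩
  set k' := j * k * j⁻¹ with hk'
  have hk'2 : k' * k' = l.t := by
    rw [hk', show j * k * j⁻¹ * (j * k * j⁻¹) = j * (k * k) * j⁻¹ by group, hk2, hjt,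
      mul_inv_cancel_right]
  have hsq : k * k' * (k * k') = l.t := by
    have hgen : ∀ x : G, x * l.t = l.t * x → x * x = l.t → l.t * x * (l.t * x) = l.t := by
      intro x hx hxx
      rw [mul_assoc, ← mul_assoc x l.t x, hx, mul_assoc l.t x x, hxx, l.t_sq, mul_one]
    rw [hkk]
    exact hgen c hct.eq hcc
  have h1 : k⁻¹ * (k * k' * (k * k')) * k'⁻¹ = k⁻¹ * l.t * k'⁻¹ := by rw [hsq]
  rw [show k⁻¹ * (k * k' * (k * k')) * k'⁻¹ = k' * k by group,
    show k⁻¹ * l.t = k by rw [inv_mul_eq_iff_eq_mul, hk2]] at h1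
  have h2 : k'⁻¹ = k' * l.t := by
    apply inv_eq_of_mul_eq_one_right
    rw [← mul_assoc, hk'2, l.t_sq]
  show k * k' = k' * k * l.t
  rw [h1, h2, mul_assoc, mul_assoc, l.t_sq, mul_one]

end CfsgLib.McLThreeLocal
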