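import Mathlib
import Cfsg.Agent.Lib.DivisionFinite.SLFive

/-!
Finite facts for the centraliser of the centre: `SL(2,5)` has at most 120 automorphisms, and the
five-cycle on a symplectic space of dimension four over three elements has few isometries commuting with it.
-/

set_option autoImplicit false
set_option maxRecDepth 8000

namespace CfsgLib.McLThreeLocal.LocalZFacts

open Matrix CfsgLib.DivisionFinite

local notation "S5" => Matrix.SpecialLinearGroup (Fin 2) (ZMod 5)

theorem forall_entries {P : S5 → Prop} (h : ∀ a b c d : ZMod 5, P (ofEntries a b c d)) (X : S5) : P X := by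
  have hd : X 0 0 * X 1 1 - X 0 1 * X 1 0 = 1 := by
    have := X.det_coe
    rwa [Matrix.det_fin_two] at this
  have he : ofEntries (X 0 0) (X 0 1) (X 1 0) (X 1 1) = X := by
    rw [show ofEntries (X 0 0) (X 0 1) (X 1 0) (X 1 1) = _ from dif_pos hd]
    ext i j
    fin_cases i <;> fin_cases j <;> rfl
  exact he ▸ h _ _ _ _

theorem two_ne : (2 : ZMod 5) ≠ 0 := by decide

theorem two_sq_ne : (2 : ZMod 5) ^ 2 ≠ 1 := by decide

theorem commutator_eq_top : commutator S5 = ⊤ :=
  @Matrix.SL2.commutator_eq_top (ZMod 5) (@ZMod.instField 5 ⟨by norm_num⟩) (2 : ZMod 5) two_ne two_sq_ne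

theorem transv (c : ZMod 5) :
    SpecialLinearGroup.transvection zero_ne_one c = g₀ ^ c.val ∧
    SpecialLinearGroup.transvection one_ne_zero c = s₀ * g₀ ^ (-c).val * s₀⁻¹ := by
  revert c; decide +kernel

theorem closure_pair : Subgroup.closure ({g₀, s₀} : Set S5) = ⊤ := by
  haveI : Fact (Nat.Prime 5) := ⟨by norm_num⟩
  refine eq_top_iff.2 fun A _ => Matrix.SL2.transvection_induction (fun A => A ∈ Subgroup.closure {g₀, s₀})
    (fun i j h c => ?_) (fun _ _ => mul_mem) A
  have hg : g₀ ∈ Subgroup.closure ({g₀, s₀} : Set S5) := Subgroup.subset_closure (Or.inl rfl)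
  have hs : s₀ ∈ Subgroup.closure ({g₀, s₀} : Set S5) := Subgroup.subset_closure (Or.inr rfl)
  fin_cases i <;> fin_cases j <;> first | exact absurd rfl h | skip
  · show SpecialLinearGroup.transvection zero_ne_one c ∈ _
    rw [(transv c).1]; exact pow_mem hg _
  · show SpecialLinearGroup.transvection one_ne_zero c ∈ _
    rw [(transv c).2]; exact mul_mem (mul_mem hs (pow_mem hg _)) (inv_mem hs)

/-- The list of the elements of order five. -/
def fives : List S5 := [
  ofEntries 0 1 4 2, ofEntries 0 2 2 2, ofEntries 0 3 3 2, ofEntries 0 4 1 2,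
  ofEntries 1 0 1 1, ofEntries 1 0 2 1, ofEntries 1 0 3 1, ofEntries 1 0 4 1,
  ofEntries 1 1 0 1, ofEntries 1 2 0 1, ofEntries 1 3 0 1, ofEntries 1 4 0 1,
  ofEntries 2 1 4 0, ofEntries 2 2 2 0, ofEntries 2 3 3 0, ofEntries 2 4 1 0,
  ofEntries 3 1 1 4, ofEntries 3 2 3 4, ofEntries 3 3 2 4, ofEntries 3 4 4 4,
  ofEntries 4 1 1 3, ofEntries 4 2 3 3, ofEntries 4 3 2 3, ofEntries 4 4 4 3]

/-- The list of possible images of the second generator. -/
def weyls : List S5 := [
  ofEntries 0 1 4 0, ofEntries 1 2 4 4, ofEntries 2 0 4 3, ofEntries 3 0 4 2,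
  ofEntries 4 2 4 1]

theorem fives_spec (X : S5) (h : X ^ 5 = 1) (h1 : X ≠ 1) : X ∈ fives := by
  revert h h1; revert X
  exact forall_entries (by decide +kernel)

theorem weyls_spec (X : S5) (h : X * X = m₀) (h1 : (X * g₀) ^ 3 = 1) : X ∈ weyls := by
  revert h h1; revert X
  exact forall_entries (by decide +kernel)

theorem list_cards : fives.toFinset.card ≤ 24 ∧ weyls.toFinset.card ≤ 5 :=
  ⟨(List.toFinset_card_le _).trans (le_of_eq rfl), (List.toFinset_card_le _).trans (le_of_eq rfl)⟩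

theorem aut_m₀ (α : MulAut S5) : α m₀ = m₀ := by
  rcases eq_one_or_m₀ (α m₀) (by rw [← map_mul, relations.2.2.1, map_one]) with h | h
  · exact absurd (α.injective (h.trans (map_one α).symm)) relations.2.2.2.1
  · exact h

attribute [local irreducible] fives weyls g₀ s₀ m₀

/-- `SL(2,5)` has at most 120 automorphisms. -/
theorem card_mulAut_le : Nat.card (MulAut S5) ≤ 120 := by
  classical
  obtain ⟨hg5, hg1, -, -, -, hs2, -, -, hsg, -, -⟩ := relations
  -- a chosen automorphism over each image of the first generator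
  let base : S5 → MulAut S5 := fun X => if h : ∃ β : MulAut S5, β g₀ = X then h.choose else 1
  have hbase : ∀ α : MulAut S5, base (α g₀) g₀ = α g₀ := fun α => by
    have h : ∃ β : MulAut S5, β g₀ = α g₀ := ⟨α, rfl⟩
    simp only [base, dif_pos h]
    exact h.choose_spec
  have hX : ∀ α : MulAut S5, α g₀ ∈ fives.toFinset := fun α =>
    List.mem_toFinset.2 (fives_spec _ (by rw [← map_pow, hg5, map_one])
      fun e => hg1 (α.injective (e.trans (map_one α).symm)))
  have key : ∀ α : MulAut S5, ((base (α g₀))⁻¹ * α) s₀ ∈ weyls.toFinset := by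
    intro α
    rw [List.mem_toFinset]
    have hfix : ((base (α g₀))⁻¹ * α) g₀ = g₀ := by
      rw [MulAut.mul_apply]
      conv_lhs => arg 2; rw [← hbase α]
      rw [MulAut.inv_apply_self]
    generalize (base (α g₀))⁻¹ * α = γ at hfix ⊢
    refine weyls_spec _ (by rw [← map_mul, hs2, aut_m₀]) ?_
    rw [show γ s₀ * g₀ = γ (s₀ * g₀) by rw [map_mul, hfix], ← map_pow, hsg, map_one]
  have hF : Function.Injective fun α : MulAut S5 =>
      ((⟨α g₀, hX α⟩, ⟨_, key α⟩) : {X // X ∈ fives.toFinset} × {X // X ∈ weyls.toFinset}) := by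
    intro α β e
    have e1 : α g₀ = β g₀ := congrArg (fun p => p.1.1) e
    have e2 : ((base (α g₀))⁻¹ * α) s₀ = ((base (β g₀))⁻¹ * β) s₀ := congrArg (fun p => p.2.1) e
    rw [← e1, MulAut.mul_apply, MulAut.mul_apply] at e2
    have e3 : α s₀ = β s₀ := (MulEquiv.injective _) e2
    refine MulEquiv.ext fun x => ?_
    have hx : x ∈ Subgroup.closure ({g₀, s₀} : Set S5) := closure_pair ▸ Subgroup.mem_top x
    induction hx using Subgroup.closure_induction with
    | mem x hx =>
      rcases hx with rfl | rfl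
      · exact e1
      · exact e3
    | one => exact (map_one α).trans (map_one β).symm
    | mul x y _ _ hx hy => rw [map_mul, map_mul, hx, hy]
    | inv x _ hx => rw [map_inv, map_inv, hx]
  refine (Nat.card_le_card_of_injective _ hF).trans ?_
  rw [Nat.card_prod, Nat.card_eq_fintype_card, Nat.card_eq_fintype_card, Fintype.card_coe, Fintype.card_coe]
  exact Nat.mul_le_mul list_cards.1 list_cards.2

/-! ### The five-cycle on the symplectic space -/

/-- The Gram function of the five translates. -/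
def bb (p q : ZMod 3) : ℕ → ZMod 3
  | 0 => 0
  | 1 => p
  | 2 => q
  | 3 => -q
  | _ => -p

/-- The pairing of a combination with a translate. -/
def lam (p q : ZMod 3) (x : Fin 4 → ZMod 3) (j : ℕ) : ZMod 3 :=
  x 0 * bb p q (j % 5) + x 1 * bb p q ((j + 4) % 5) + x 2 * bb p q ((j + 3) % 5) + x 3 * bb p q ((j + 2) % 5)

/-- The pairing of a combination with its translate by `d`. -/
def quad (p q : ZMod 3) (x : Fin 4 → ZMod 3) (d : ℕ) : ZMod 3 :=
  x 0 * lam p q x (d % 5) + x 1 * lam p q x ((d + 1) % 5) + x 2 * lam p q x ((d + 2) % 5) +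
    x 3 * lam p q x ((d + 3) % 5)

/-- A vector from its coordinates. -/
def vc (a b c d : ZMod 3) : Fin 4 → ZMod 3 := ![a, b, c, d]

theorem eq_vc (x : Fin 4 → ZMod 3) : x = vc (x 0) (x 1) (x 2) (x 3) := by
  funext i; fin_cases i <;> rfl

theorem lam_inj (p q : ZMod 3) (hpq : p ≠ 0 ∨ q ≠ 0) (x : Fin 4 → ZMod 3)
    (h : ∀ j, j < 4 → lam p q x j = 0) : x = 0 := by
  have key : ∀ p q a b c d : ZMod 3, (p ≠ 0 ∨ q ≠ 0) →
      (∀ j ∈ List.range 4, lam p q (vc a b c d) j = 0) → a = 0 ∧ b = 0 ∧ c = 0 ∧ d = 0 := by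
    decide +kernel
  rw [eq_vc x] at h
  obtain ⟨e0, e1, e2, e3⟩ := key p q _ _ _ _ hpq fun j hj => h j (List.mem_range.1 hj)
  rw [eq_vc x, e0, e1, e2, e3]
  funext i; fin_cases i <;> rfl

theorem isometry_cases (p q : ZMod 3) (hpq : p ≠ 0 ∨ q ≠ 0) (x : Fin 4 → ZMod 3)
    (h1 : quad p q x 1 = p) (h2 : quad p q x 2 = q) :
    ∃ i < 5, ∃ s : ZMod 3, (s = 1 ∨ s = -1) ∧ ∀ j, j < 4 → lam p q x j = s * bb p q ((j + 5 - i) % 5) := by
  have key : ∀ p q a b c d : ZMod 3, (p ≠ 0 ∨ q ≠ 0) → quad p q (vc a b c d) 1 = p →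
      quad p q (vc a b c d) 2 = q → ∃ i ∈ List.range 5, ∃ s ∈ [(1 : ZMod 3), -1],
        ∀ j ∈ List.range 4, lam p q (vc a b c d) j = s * bb p q ((j + 5 - i) % 5) := by
    decide +kernel
  rw [eq_vc x] at h1 h2
  obtain ⟨i, hi, s, hs, hj⟩ := key p q _ _ _ _ hpq h1 h2
  rw [eq_vc x]
  exact ⟨i, List.mem_range.1 hi, s, by simpa using hs, fun j hj' => hj j (List.mem_range.2 hj')⟩

end CfsgLib.McLThreeLocal.LocalZFacts
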