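import Cfsg.Agent.Lib.McLThreeLocal.Defs
import Cfsg.Agent.Lib.McLThreeLocal.LocalZFacts

/-!
The normaliser of the centre: the involution inverting `Q/Z`, the complement `SL(2,5)` centralising it,
and the bound on the centraliser.
-/

set_option autoImplicit false
set_option maxRecDepth 8000
set_option linter.style.haveILetI false
set_option linter.unusedSectionVars false

namespace CfsgLib.McLThreeLocal

open Subgroup LocalZFacts CfsgLib.DivisionFinite

universe u

/-- Points fixed by conjugation with an element of order dividing five. -/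
theorem card_fix_mod {G : Type u} [Group G] [Finite G] {f : G} (hf : f ^ 5 = 1) (A : Subgroup G)
    (hA : ∀ a ∈ A, f * a * f⁻¹ ∈ A) :
    Nat.card A ≡ Nat.card ↥(A ⊓ centralizer ({f} : Set G)) [MOD 5] := by
  classical
  haveI : Fact (Nat.Prime 5) := ⟨by norm_num⟩
  haveI := Fintype.ofFinite A
  let g : Function.End A := fun a => ⟨f * a * f⁻¹, hA a a.2⟩
  have hit : ∀ k : ℕ, ∀ a : A, (((g ^ k) a : A) : G) = f ^ k * a * (f ^ k)⁻¹ := by
    intro k
    induction k with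
    | zero => intro a; simp; rfl
    | succ k ih =>
      intro a
      rw [pow_succ']
      show f * (((g ^ k) a : A) : G) * f⁻¹ = _
      rw [ih, pow_succ']
      group
  have h5 : g ^ 5 ^ 1 = 1 := by
    funext a
    refine Subtype.ext ?_
    rw [hit, pow_one, hf]
    simp
    rfl
  have h := Equiv.Perm.card_fixedPoints_modEq h5
  rw [← Nat.card_eq_fintype_card, ← Nat.card_eq_fintype_card] at h
  refine h.trans (congrArg (fun m => m % 5) (Nat.card_congr ?_))
  exact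
    { toFun := fun a => ⟨a.1, a.1.2, Subgroup.mem_centralizer_singleton_iff.2 (by
        have e : f * (a.1 : G) * f⁻¹ = a.1 := congrArg Subtype.val a.2
        exact (mul_inv_eq_iff_eq_mul.1 e).symm)⟩
      invFun := fun a => ⟨⟨a.1, a.2.1⟩, Subtype.ext (by
        show f * (a.1 : G) * f⁻¹ = a.1
        rw [← Subgroup.mem_centralizer_singleton_iff.1 a.2.2, mul_inv_cancel_right])⟩
      left_inv := fun _ => rfl
      right_inv := fun _ => rfl }

namespace Basic

variable {G : Type u} [Group G] [Finite G] (b : Basic G)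

theorem z_mem : b.z ∈ b.Z := b.Z_eq ▸ mem_zpowers b.z

theorem z_memQ : b.z ∈ b.Q := b.Z_le_Q b.z_mem

theorem z_cube : b.z ^ 3 = 1 := b.z_order ▸ pow_orderOf_eq_one b.z

theorem z_ne : b.z ≠ 1 := fun e => by
  have h := b.z_order
  rw [e, orderOf_one] at h
  omega

theorem z_comm {a : G} (ha : a ∈ b.Q) : a * b.z = b.z * a := by
  have h : b.z ∈ b.Z := b.z_mem
  rw [b.hZ] at h
  exact (mem_centralizer_iff.1 h.2 a (b.Q_le_S ha))

theorem Z_cases {x : G} (hx : x ∈ b.Z) : x = 1 ∨ x = b.z ∨ x = b.z * b.z := by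
  rw [b.Z_eq] at hx
  obtain ⟨i, rfl⟩ := mem_zpowers_iff.1 hx
  rw [← zpow_mod_orderOf, b.z_order]
  have h1 : i % ((3 : ℕ) : ℤ) = 0 ∨ i % ((3 : ℕ) : ℤ) = 1 ∨ i % ((3 : ℕ) : ℤ) = 2 := by omega
  rcases h1 with e | e | e <;> rw [e]
  · exact Or.inl (zpow_zero _)
  · exact Or.inr (Or.inl (zpow_one _))
  · exact Or.inr (Or.inr (zpow_two _))

theorem Z_comm {x n : G} (hx : x ∈ b.Z) (hn : n * b.z = b.z * n) : n * x = x * n := by
  rw [b.Z_eq] at hx
  obtain ⟨i, rfl⟩ := mem_zpowers_iff.1 hx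
  exact ((show Commute n b.z from hn).zpow_right i).eq

theorem Z_cube {x : G} (hx : x ∈ b.Z) : x ^ 3 = 1 := b.hQexp x (b.Z_le_Q hx)

theorem card_Z : Nat.card b.Z = 3 := by rw [b.Z_eq, Nat.card_zpowers, b.z_order]

theorem cz_normZ {n : G} (hn : n * b.z = b.z * n) : n ∈ normalizer (b.Z : Set G) := by
  refine Subgroup.mem_normalizer_fintype fun x hx => ?_
  show n * x * n⁻¹ ∈ b.Z
  rw [b.Z_comm hx hn, mul_inv_cancel_right]
  exact hx

theorem normQ {n a : G} (hn : n ∈ normalizer (b.Z : Set G)) (ha : a ∈ b.Q) : n * a * n⁻¹ ∈ b.Q :=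
  (Subgroup.mem_normalizer_iff.1 (b.normZ_le hn) a).1 ha

theorem L_le_cz {g : G} (hg : g ∈ b.L) : g * b.z = b.z * g := by
  rw [b.hL] at hg
  induction hg using Subgroup.closure_induction with
  | mem g hg =>
    obtain ⟨hN, k, hk⟩ := hg
    have hz : g * b.z * g⁻¹ ∈ b.Z := (Subgroup.mem_normalizer_iff.1 hN _).1 b.z_mem
    rcases b.Z_cases hz with e | e | e
    · exact absurd (conj_eq_one_iff.1 e) b.z_ne
    · exact mul_inv_eq_iff_eq_mul.1 e
    · have h2 : Commute (g * g) b.z := by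
        have h4 : g * g * b.z * (g * g)⁻¹ = b.z := by
          rw [show g * g * b.z * (g * g)⁻¹ = g * (g * b.z * g⁻¹) * g⁻¹ by group, e,
            show g * (b.z * b.z) * g⁻¹ = (g * b.z * g⁻¹) * (g * b.z * g⁻¹) by group, e]
          have := b.z_cube
          rw [pow_succ, pow_two] at this
          calc b.z * b.z * (b.z * b.z) = b.z * b.z * b.z * b.z := by group
            _ = b.z := by rw [this, one_mul]
        exact mul_inv_eq_iff_eq_mul.1 h4
      have hodd : Odd (3 ^ k) := Odd.pow ⟨1, rfl⟩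
      obtain ⟨m, hm⟩ := hodd
      have hg' : g = (g * g) ^ (m + 1) := by
        rw [← pow_two, ← pow_mul, show 2 * (m + 1) = 2 * m + 1 + 1 by ring, ← hm, pow_succ, ← hk,
          pow_orderOf_eq_one, one_mul]
      rw [hg']
      exact (h2.pow_left _).eq
  | one => simp
  | mul x y _ _ hx hy => exact (Commute.mul_left (show Commute x b.z from hx) hy).eq
  | inv x _ hx => exact (Commute.inv_left (show Commute x b.z from hx)).eq

theorem L_le_normZ {g : G} (hg : g ∈ b.L) : g ∈ normalizer (b.Z : Set G) := b.cz_normZ (b.L_le_cz hg)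

theorem L_conj {n g : G} (hn : n ∈ normalizer (b.Z : Set G)) (hg : g ∈ b.L) : n * g * n⁻¹ ∈ b.L := by
  have hle : b.L ≤ b.L.comap (MulAut.conj n).toMonoidHom := by
    conv_lhs => rw [b.hL]
    rw [Subgroup.closure_le]
    rintro x ⟨hx, k, hk⟩
    show n * x * n⁻¹ ∈ b.L
    rw [b.hL]
    exact Subgroup.subset_closure ⟨mul_mem (mul_mem hn hx) (inv_mem hn), k, (MulEquiv.orderOf_eq (MulAut.conj n) x).trans hk⟩
  exact hle hg

/-- Elements centralising `Z` and `Q` modulo `Z`. -/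
def fixSub : Subgroup G where
  carrier := {x | x * b.z = b.z * x ∧ ∀ a ∈ b.Q, x * a * x⁻¹ * a⁻¹ ∈ b.Z}
  one_mem' := ⟨by simp, fun a _ => by simp⟩
  mul_mem' := by
    rintro x y ⟨hxz, hx⟩ ⟨hyz, hy⟩
    refine ⟨(Commute.mul_left (show Commute x b.z from hxz) hyz).eq, fun a ha => ?_⟩
    have e : x * y * a * (x * y)⁻¹ * a⁻¹ = x * (y * a * y⁻¹ * a⁻¹) * x⁻¹ * (x * a * x⁻¹ * a⁻¹) := by group
    rw [e, b.Z_comm (hy a ha) hxz, mul_inv_cancel_right]
    exact mul_mem (hy a ha) (hx a ha)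
  inv_mem' := by
    rintro x ⟨hxz, hx⟩
    have hxz' : x⁻¹ * b.z = b.z * x⁻¹ := (Commute.inv_left (show Commute x b.z from hxz)).eq
    refine ⟨hxz', fun a ha => ?_⟩
    have h1 := hx _ (b.normQ (b.cz_normZ hxz') ha)
    rw [show x * (x⁻¹ * a * x⁻¹⁻¹) * x⁻¹ * (x⁻¹ * a * x⁻¹⁻¹)⁻¹ = (x⁻¹ * a * x⁻¹⁻¹ * a⁻¹)⁻¹ by group] at h1
    exact inv_mem_iff.1 h1

theorem eq_one_of_fix {x : G} (hx : x ∈ b.fixSub) {o : ℕ} (ho : x ^ o = 1) (h3 : ¬ 3 ∣ o) : x = 1 := by
  have hco : Nat.Coprime 3 o := (Nat.Prime.coprime_iff_not_dvd Nat.prime_three).2 h3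
  have hc : x ∈ centralizer (b.Q : Set G) := by
    rw [mem_centralizer_iff]
    intro a ha
    set e := x * a * x⁻¹ * a⁻¹ with he
    have heZ : e ∈ b.Z := hx.2 a ha
    have hk : ∀ k : ℕ, x ^ k * a * (x ^ k)⁻¹ = e ^ k * a := by
      intro k
      induction k with
      | zero => simp
      | succ k ih =>
        rw [show x ^ (k + 1) * a * (x ^ (k + 1))⁻¹ = x * (x ^ k * a * (x ^ k)⁻¹) * x⁻¹ by
          rw [pow_succ']; group, ih,
          show x * (e ^ k * a) * x⁻¹ = x * e ^ k * x⁻¹ * (x * a * x⁻¹) by group,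
          b.Z_comm (pow_mem heZ k) hx.1, mul_inv_cancel_right,
          pow_succ, he]
        group
    have h1 := hk o
    rw [ho, one_mul, inv_one, mul_one] at h1
    have h2 : e ^ o = 1 := by
      have := congrArg (· * a⁻¹) h1
      simpa using this.symm
    have h4 : e = 1 := by
      have := pow_gcd_eq_one.2 ⟨b.Z_cube heZ, h2⟩
      rwa [hco.gcd_eq_one, pow_one] at this
    exact (mul_inv_eq_iff_eq_mul.1 (mul_inv_eq_one.1 h4)).symm
  have h3' := b.hQexp x (b.centQ hc)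
  have := pow_gcd_eq_one.2 ⟨h3', ho⟩
  rwa [hco.gcd_eq_one, pow_one] at this

theorem mem_L_of_fix {x : G} (hx : x ∈ b.fixSub) : x ∈ b.L := by
  obtain ⟨k, m, hm, hkm⟩ := Nat.exists_eq_pow_mul_and_not_dvd (orderOf_pos x).ne' 3 (by norm_num)
  have h1 : x ^ 3 ^ k = 1 := by
    refine b.eq_one_of_fix (pow_mem hx _) (o := m) ?_ hm
    rw [← pow_mul, ← hkm, pow_orderOf_eq_one]
  obtain ⟨j, -, hj⟩ := (Nat.dvd_prime_pow Nat.prime_three).1 (orderOf_dvd_of_pow_eq_one h1)
  rw [b.hL]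
  exact Subgroup.subset_closure ⟨b.cz_normZ hx.1, j, hj⟩

/-- The elements of `Q` fixed by `x` modulo `Z`. -/
def fixQ {x : G} (hxz : x * b.z = b.z * x) : Subgroup G where
  carrier := {a | a ∈ b.Q ∧ x * a * x⁻¹ * a⁻¹ ∈ b.Z}
  one_mem' := ⟨one_mem _, by simp⟩
  mul_mem' := by
    rintro a c ⟨ha, ha'⟩ ⟨hc, hc'⟩
    refine ⟨mul_mem ha hc, ?_⟩
    rw [show x * (a * c) * x⁻¹ * (a * c)⁻¹ = x * a * x⁻¹ * a⁻¹ * (a * (x * c * x⁻¹ * c⁻¹) * a⁻¹) by group,
      b.Z_comm hc' (b.z_comm ha), mul_inv_cancel_right]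
    exact mul_mem ha' hc'
  inv_mem' := by
    rintro a ⟨ha, ha'⟩
    refine ⟨inv_mem ha, ?_⟩
    rw [show x * a⁻¹ * x⁻¹ * a⁻¹⁻¹ = a⁻¹ * (x * a * x⁻¹ * a⁻¹)⁻¹ * a by group,
      b.Z_comm (inv_mem ha') (b.z_comm (inv_mem ha)), inv_mul_cancel_right]
    exact inv_mem ha'

/-- An element of order five of the centraliser of `z` centralises only `Z` in `Q`. -/
theorem five_fix {f : G} (hfz : f * b.z = b.z * f) (hf : f ^ 5 = 1) (hf1 : f ≠ 1) :
    b.Q ⊓ centralizer ({f} : Set G) = b.Z := by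
  haveI : Fact (Nat.Prime 3) := ⟨Nat.prime_three⟩
  have hZle : b.Z ≤ b.Q ⊓ centralizer ({f} : Set G) := fun x hx =>
    ⟨b.Z_le_Q hx, mem_centralizer_singleton_iff.2 (b.Z_comm hx hfz).symm⟩
  have hmod := card_fix_mod hf b.Q fun a ha => b.normQ (b.cz_normZ hfz) ha
  rw [b.hQcard] at hmod
  obtain ⟨i, hi, he⟩ := (Nat.dvd_prime_pow Nat.prime_three (m := 5)).1
    (show Nat.card ↥(b.Q ⊓ centralizer ({f} : Set G)) ∣ 3 ^ 5 by
      rw [show (3 : ℕ) ^ 5 = Nat.card b.Q by rw [b.hQcard]; norm_num]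
      exact Subgroup.card_dvd_of_le inf_le_left)
  have hne : Nat.card ↥(b.Q ⊓ centralizer ({f} : Set G)) ≠ 243 := by
    intro e
    have hle : b.Q ≤ centralizer ({f} : Set G) :=
      inf_eq_left.1 (Subgroup.eq_of_le_of_card_ge inf_le_left (by rw [e, b.hQcard]))
    refine hf1 (b.eq_one_of_fix (o := 5) ⟨hfz, fun a ha => ?_⟩ hf (by norm_num))
    rw [← mem_centralizer_singleton_iff.1 (hle ha), mul_inv_cancel_right, mul_inv_cancel]
    exact one_mem _
  have h3 := Subgroup.card_dvd_of_le hZle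
  rw [b.card_Z] at h3
  refine (Subgroup.eq_of_le_of_card_ge hZle ?_).symm
  rw [b.card_Z, he]
  rw [he] at hne h3 hmod
  interval_cases i <;> simp_all [Nat.ModEq]

/-- Subgroups of `Q` containing `Z` invariant under an element of order five. -/
theorem five_invariant {f : G} (hfz : f * b.z = b.z * f) (hf : f ^ 5 = 1) (hf1 : f ≠ 1) {A : Subgroup G}
    (hA : A ≤ b.Q) (hz : b.z ∈ A) (hinv : ∀ a ∈ A, f * a * f⁻¹ ∈ A) : A ≤ b.Z ∨ A = b.Q := by
  have hZA : b.Z ≤ A := by rw [b.Z_eq, zpowers_le]; exact hz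
  have hfix : A ⊓ centralizer ({f} : Set G) = b.Z := by
    refine le_antisymm ((inf_le_inf_right _ hA).trans (b.five_fix hfz hf hf1).le) (le_inf hZA ?_)
    exact fun x hx => mem_centralizer_singleton_iff.2 (b.Z_comm hx hfz).symm
  have hmod := card_fix_mod hf A hinv
  rw [hfix, b.card_Z] at hmod
  obtain ⟨i, hi, he⟩ := (Nat.dvd_prime_pow Nat.prime_three (m := 5)).1 (show Nat.card A ∣ 3 ^ 5 by
      rw [show (3 : ℕ) ^ 5 = Nat.card b.Q by rw [b.hQcard]; norm_num]
      exact Subgroup.card_dvd_of_le hA)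
  rw [he] at hmod
  have : i = 1 ∨ i = 5 := by interval_cases i <;> simp_all [Nat.ModEq]
  rcases this with rfl | rfl
  · exact Or.inl (Subgroup.eq_of_le_of_card_ge hZA (by rw [he, b.card_Z]; norm_num)).ge
  · exact Or.inr (Subgroup.eq_of_le_of_card_ge hA (by rw [he, b.hQcard]; norm_num))

/-- An element fixing modulo `Z` a point of `Q ∖ Z` and commuting with an element of order five fixes all. -/
theorem fix_of_point {f x a : G} (hfz : f * b.z = b.z * f) (hf : f ^ 5 = 1) (hf1 : f ≠ 1)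
    (hxz : x * b.z = b.z * x) (hxf : x * f = f * x) (ha : a ∈ b.Q) (haZ : a ∉ b.Z)
    (hfix : x * a * x⁻¹ * a⁻¹ ∈ b.Z) : x ∈ b.fixSub := by
  have hA := b.five_invariant hfz hf hf1 (A := b.fixQ hxz) (fun c hc => hc.1)
    ⟨b.z_memQ, by rw [hxz, mul_inv_cancel_right, mul_inv_cancel]; exact one_mem _⟩
    (fun c hc => ⟨b.normQ (b.cz_normZ hfz) hc.1, by
      have : x * (f * c * f⁻¹) * x⁻¹ * (f * c * f⁻¹)⁻¹ = f * (x * c * x⁻¹ * c⁻¹) * f⁻¹ := by
        rw [show x * (f * c * f⁻¹) * x⁻¹ = x * f * c * (x * f)⁻¹ by group, hxf]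
        group
      rw [this, b.Z_comm hc.2 hfz, mul_inv_cancel_right]
      exact hc.2⟩)
  rcases hA with h | h
  · exact absurd (h ⟨ha, hfix⟩) haZ
  · exact ⟨hxz, fun c hc => (show c ∈ b.fixQ hxz by rw [h]; exact hc).2⟩

/-- The image in `SL(2,5)` vanishes on `Q`. -/
theorem φ_eq_one_iff (g : b.L) : b.φL g = 1 ↔ (g : G) ∈ b.Q := by
  rw [← MonoidHom.mem_ker, b.φL_ker, mem_subgroupOf]

/-- An involution over the centre of `SL(2,5)`. -/
theorem exists_t : ∃ t : G, ∃ ht : t ∈ b.L, t * t = 1 ∧ t ≠ 1 ∧ b.φL ⟨t, ht⟩ = m₀ := by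
  obtain ⟨x, hx⟩ := b.φL_surj m₀
  have h2 : ((x * x : b.L) : G) ∈ b.Q := (b.φ_eq_one_iff _).1 (by rw [map_mul, hx]; exact relations.2.2.1)
  have e3 : b.φL (x * x * x) = m₀ := by rw [map_mul, map_mul, hx, relations.2.2.1, one_mul]
  refine ⟨((x * x * x : b.L) : G), (x * x * x).2, ?_, fun e => relations.2.2.2.1 ?_, e3⟩
  · have := b.hQexp _ h2
    push_cast at this ⊢
    rw [pow_succ, pow_two] at this
    rw [← this]
    group
  · rw [← e3, show (x * x * x : b.L) = 1 from Subtype.ext e, map_one]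

variable {t : G} (htL : t ∈ b.L) (ht2 : t * t = 1) (ht1 : t ≠ 1) (htφ : b.φL ⟨t, htL⟩ = m₀)
include htL ht2 ht1 htφ

theorem t_comm_z : t * b.z = b.z * t := b.L_le_cz htL

theorem adjust {n : G} (hn : n ∈ normalizer (b.Z : Set G)) :
    ∃ s ∈ b.Q, (s⁻¹ * n) * t = t * (s⁻¹ * n) := by
  have huL := b.L_conj hn htL
  set v : G := n * t * n⁻¹ with hv
  have hv2 : v * v = 1 := by rw [hv, show n * t * n⁻¹ * (n * t * n⁻¹) = n * (t * t) * n⁻¹ by group, ht2]; simp
  have hφv : b.φL ⟨v, huL⟩ = m₀ := by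
    refine (eq_one_or_m₀ _ ?_).resolve_left fun e => ?_
    · rw [← map_mul, show (⟨v, huL⟩ : b.L) * ⟨v, huL⟩ = 1 from Subtype.ext hv2, map_one]
    · have h3 := b.hQexp v ((b.φ_eq_one_iff _).1 e)
      rw [pow_succ, pow_two, hv2, one_mul] at h3
      exact ht1 (conj_eq_one_iff.1 h3)
  set q := v * t with hq
  have hqQ : q ∈ b.Q := (b.φ_eq_one_iff (⟨v, huL⟩ * ⟨t, htL⟩)).1 (by rw [map_mul, hφv, htφ]; exact relations.2.2.1)
  have hq3 : q * q * q = 1 := by
    have := b.hQexp q hqQ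
    rwa [pow_succ, pow_two] at this
  have htinv : t⁻¹ = t := inv_eq_of_mul_eq_one_right ht2
  have hvinv : v⁻¹ = v := inv_eq_of_mul_eq_one_right hv2
  have htq : t * q * t = q⁻¹ := by
    rw [hq, mul_inv_rev, htinv, hvinv, mul_assoc, mul_assoc, ht2, mul_one]
  have hsi : (q * q)⁻¹ = q := inv_eq_of_mul_eq_one_right hq3
  have hvs : v = q * q * t * (q * q)⁻¹ := by
    rw [hsi]
    have e1 : t * q = q⁻¹ * t := by
      rw [← htq]; simp [mul_assoc, ht2]
    calc v = q * t := by rw [hq, mul_assoc, ht2, mul_one]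
      _ = q * (q * q⁻¹) * t := by group
      _ = q * q * (t * q) := by rw [e1]; group
      _ = q * q * t * q := by group
  refine ⟨q * q, mul_mem hqQ hqQ, ?_⟩
  rw [hv] at hvs
  calc (q * q)⁻¹ * n * t = (q * q)⁻¹ * (n * t * n⁻¹) * n := by group
    _ = t * ((q * q)⁻¹ * n) := by rw [hvs]; group

/-- The centraliser of `t` in `L`. -/
theorem exists_lift (c : Matrix.SpecialLinearGroup (Fin 2) (ZMod 5)) :
    ∃ g : b.L, b.φL g = c ∧ (g : G) * t = t * g := by
  obtain ⟨g, rfl⟩ := b.φL_surj c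
  obtain ⟨s, hs, hst⟩ := b.adjust htL ht2 ht1 htφ (b.L_le_normZ g.2)
  refine ⟨⟨s, b.hQL hs⟩⁻¹ * g, ?_, hst⟩
  rw [map_mul, map_inv, (b.φ_eq_one_iff _).2 hs, inv_one, one_mul]

theorem exists_five : ∃ f : G, f * b.z = b.z * f ∧ f * t = t * f ∧ f ^ 5 = 1 ∧ f ≠ 1 := by
  haveI : Fact (Nat.Prime 5) := ⟨by norm_num⟩
  obtain ⟨g, hg, hgt⟩ := b.exists_lift htL ht2 ht1 htφ g₀
  have h5 : orderOf g₀ = 5 := orderOf_eq_prime relations.1 relations.2.1
  have hd : 5 ∣ orderOf g := h5 ▸ hg ▸ orderOf_map_dvd b.φL g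
  obtain ⟨d, hd⟩ := hd
  refine ⟨((g ^ d : b.L) : G), b.L_le_cz (g ^ d).2, ?_, ?_, fun e => ?_⟩
  · push_cast
    exact ((show Commute (g : G) t from hgt).pow_left d).eq
  · rw [← SubmonoidClass.coe_pow, ← pow_mul, mul_comm, ← hd, pow_orderOf_eq_one]; rfl
  · have h1 := orderOf_dvd_of_pow_eq_one (show g ^ d = 1 from Subtype.ext e)
    have h2 := orderOf_pos g
    have := Nat.le_of_dvd (Nat.pos_of_ne_zero fun h0 => by rw [hd, h0] at h2; omega) h1
    rw [hd] at this
    omega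

theorem t_fix {a : G} (ha : a ∈ b.Q) (h : t * a * t⁻¹ * a⁻¹ ∈ b.Z) : a ∈ b.Z := by
  by_contra haZ
  obtain ⟨f, hfz, hft, hf, hf1⟩ := b.exists_five htL ht2 ht1 htφ
  exact ht1 (b.eq_one_of_fix (b.fix_of_point hfz hf hf1 (b.L_le_cz htL) hft.symm ha haZ h) (o := 2)
    (by rw [pow_two, ht2]) (by norm_num))

theorem centQt' {a : G} (ha : a ∈ b.Q) (h : t * a = a * t) : a ∈ b.Z :=
  b.t_fix htL ht2 ht1 htφ ha (by rw [h, mul_inv_cancel_right, mul_inv_cancel]; exact one_mem _)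

theorem t_inv' {a : G} (ha : a ∈ b.Q) : t * a * t⁻¹ * a ∈ b.Z := by
  have hta := b.normQ (b.L_le_normZ htL) ha
  refine b.t_fix htL ht2 ht1 htφ (mul_mem hta ha) ?_
  have htinv : t⁻¹ = t := inv_eq_of_mul_eq_one_right ht2
  rw [show t * (t * a * t⁻¹ * a) * t⁻¹ * (t * a * t⁻¹ * a)⁻¹ =
    (t * t) * a * (t * t)⁻¹ * (t * a * t⁻¹) * a⁻¹ * (t * a * t⁻¹)⁻¹ by group, ht2, inv_one, one_mul, mul_one]
  exact b.Q_comm a ha _ hta

end Basic

/-! ### The pairing on `Q` -/

/-- Powers of the central element. -/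
def zc {G : Type u} [Group G] (z : G) (e : ZMod 3) : G := z ^ e.val

/-- The exponent of a commutator. -/
noncomputable def pairB {G : Type u} [Group G] (z a c : G) : ZMod 3 :=
  Function.invFun (zc z) (a * c * a⁻¹ * c⁻¹)

namespace Basic

variable {G : Type u} [Group G] [Finite G] (b : Basic G)

theorem zc_add (e e' : ZMod 3) : zc b.z (e + e') = zc b.z e * zc b.z e' := by
  rw [zc, zc, zc, ← pow_add, ← pow_mod_orderOf b.z (e.val + e'.val), b.z_order, ZMod.val_add]

theorem zc_inj : Function.Injective (zc b.z) := fun e e' h =>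
  ZMod.val_injective 3 (pow_injOn_Iio_orderOf (by rw [Set.mem_Iio, b.z_order]; exact e.val_lt)
    (by rw [Set.mem_Iio, b.z_order]; exact e'.val_lt) h)

theorem exists_zc {x : G} (hx : x ∈ b.Z) : ∃ e, zc b.z e = x := by
  rcases b.Z_cases hx with rfl | rfl | rfl
  · exact ⟨0, pow_zero _⟩
  · exact ⟨1, pow_one _⟩
  · exact ⟨2, pow_two _⟩

theorem B_spec {a c : G} (ha : a ∈ b.Q) (hc : c ∈ b.Q) : zc b.z (pairB b.z a c) = a * c * a⁻¹ * c⁻¹ :=
  Function.invFun_eq (b.exists_zc (b.Q_comm a ha c hc))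

theorem B_of_eq {a c : G} (ha : a ∈ b.Q) (hc : c ∈ b.Q) {e : ZMod 3} (h : zc b.z e = a * c * a⁻¹ * c⁻¹) :
    pairB b.z a c = e := b.zc_inj ((b.B_spec ha hc).trans h.symm)

theorem B_mul_left {a a' c : G} (ha : a ∈ b.Q) (ha' : a' ∈ b.Q) (hc : c ∈ b.Q) :
    pairB b.z (a * a') c = pairB b.z a c + pairB b.z a' c := by
  refine b.B_of_eq (mul_mem ha ha') hc ?_
  have hZ := b.Q_comm a' ha' c hc
  rw [add_comm, b.zc_add, b.B_spec ha hc, b.B_spec ha' hc,
    show a * a' * c * (a * a')⁻¹ * c⁻¹ = a * (a' * c * a'⁻¹ * c⁻¹) * a⁻¹ * (a * c * a⁻¹ * c⁻¹) by group,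
    b.Z_comm hZ (b.z_comm ha), mul_inv_cancel_right]

theorem B_swap {a c : G} (ha : a ∈ b.Q) (hc : c ∈ b.Q) : pairB b.z c a = -pairB b.z a c := by
  have h : zc b.z (pairB b.z c a + pairB b.z a c) = zc b.z 0 := by
    rw [b.zc_add, b.B_spec hc ha, b.B_spec ha hc]
    simp only [zc, ZMod.val_zero, pow_zero]
    group
  exact eq_neg_of_add_eq_zero_left (b.zc_inj h)

theorem B_mul_right {a c c' : G} (ha : a ∈ b.Q) (hc : c ∈ b.Q) (hc' : c' ∈ b.Q) :
    pairB b.z a (c * c') = pairB b.z a c + pairB b.z a c' := by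
  rw [b.B_swap (mul_mem hc hc') ha, b.B_mul_left hc hc' ha, b.B_swap ha hc, b.B_swap ha hc']
  ring

theorem B_Z {e c : G} (he : e ∈ b.Z) (hc : c ∈ b.Q) : pairB b.z e c = 0 := by
  refine b.B_of_eq (b.Z_le_Q he) hc ?_
  rw [← b.Z_comm he (b.z_comm hc), mul_inv_cancel_right, mul_inv_cancel]
  exact pow_zero _

theorem B_self {a : G} (ha : a ∈ b.Q) : pairB b.z a a = 0 := by
  refine b.B_of_eq ha ha ?_
  simp [zc]

theorem B_conj {n a c : G} (hn : n * b.z = b.z * n) (ha : a ∈ b.Q) (hc : c ∈ b.Q) :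
    pairB b.z (n * a * n⁻¹) (n * c * n⁻¹) = pairB b.z a c := by
  refine b.B_of_eq (b.normQ (b.cz_normZ hn) ha) (b.normQ (b.cz_normZ hn) hc) ?_
  rw [show n * a * n⁻¹ * (n * c * n⁻¹) * (n * a * n⁻¹)⁻¹ * (n * c * n⁻¹)⁻¹ =
    n * (a * c * a⁻¹ * c⁻¹) * n⁻¹ by group, b.Z_comm (b.Q_comm a ha c hc) hn, mul_inv_cancel_right,
    b.B_spec ha hc]

theorem B_pow_left {a c : G} (ha : a ∈ b.Q) (hc : c ∈ b.Q) (k : ℕ) :
    pairB b.z (a ^ k) c = k * pairB b.z a c := by
  induction k with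
  | zero => simp [b.B_Z (one_mem _) hc]
  | succ k ih => rw [pow_succ, b.B_mul_left (pow_mem ha k) ha hc, ih]; push_cast; ring

theorem B_pow_right {a c : G} (ha : a ∈ b.Q) (hc : c ∈ b.Q) (k : ℕ) :
    pairB b.z a (c ^ k) = k * pairB b.z a c := by
  rw [b.B_swap (pow_mem hc k) ha, b.B_pow_left hc ha, b.B_swap ha hc]
  ring

theorem fix_mod_inv {x a : G} (hx : x * b.z = b.z * x) {e : G} (he : e ∈ b.Z) :
    x * e * a * x⁻¹ = e * (x * a * x⁻¹) := by
  rw [b.Z_comm he hx]; group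

/-- An element commuting with `t` and an element of order five fixes `Q/Z` up to their powers. -/
theorem exists_fix {t f n : G} (htz : t * b.z = b.z * t) (htinv : ∀ a ∈ b.Q, t * a * t⁻¹ * a ∈ b.Z)
    (htf : t * f = f * t) (hfz : f * b.z = b.z * f) (hf : f ^ 5 = 1) (hf1 : f ≠ 1)
    (hnz : n * b.z = b.z * n) (hnf : n * f = f * n) :
    ∃ i : ℕ, (f ^ i)⁻¹ * n ∈ b.fixSub ∨ t * ((f ^ i)⁻¹ * n) ∈ b.fixSub := by
  obtain ⟨a, ha, haZ⟩ : ∃ a ∈ b.Q, a ∉ b.Z := by
    by_contra h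
    push Not at h
    have := Subgroup.card_le_of_le (H := b.Q) (K := b.Z) h
    rw [b.hQcard, b.card_Z] at this
    omega
  have hfi : ∀ i : ℕ, f ^ i * b.z = b.z * f ^ i := fun i => ((show Commute f b.z from hfz).pow_left i).eq
  set v : ℕ → G := fun i => f ^ i * a * (f ^ i)⁻¹ with hv
  have hvQ : ∀ i, v i ∈ b.Q := fun i => b.normQ (b.cz_normZ (hfi i)) ha
  have hper : ∀ i, v (i % 5) = v i := fun i => by
    have : f ^ (i % 5) = f ^ i := by
      conv_rhs => rw [← Nat.mod_add_div i 5, pow_add, pow_mul, hf, one_pow, mul_one]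
    simp only [hv, this]
  have hshift : ∀ d i, f ^ d * v i * (f ^ d)⁻¹ = v (d + i) := fun d i => by
    simp only [hv, pow_add]; group
  set p := pairB b.z a (v 1) with hp
  set q := pairB b.z a (v 2) with hq
  have hv0 : v 0 = a := by simp [hv]
  have hB0 : ∀ d, d < 5 → pairB b.z a (v d) = bb p q d := by
    intro d hd
    have hrev : ∀ d e : ℕ, e + d = 5 → pairB b.z a (v d) = -pairB b.z a (v e) := fun d e hde => by
      rw [← b.B_conj (hfi e) ha (hvQ d), hshift, hde, ← hper 5, show f ^ e * a * (f ^ e)⁻¹ = v e from rfl,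
        show (5 : ℕ) % 5 = 0 from rfl, hv0, b.B_swap ha (hvQ e)]
    interval_cases d
    · rw [hv0, b.B_self ha]; rfl
    · rfl
    · rfl
    · rw [hrev 3 2 rfl]; rfl
    · rw [hrev 4 1 rfl]; rfl
  have hBv : ∀ i j, i < 5 → pairB b.z (v i) (v j) = bb p q ((j + 5 - i) % 5) := fun i j hi => by
    rw [← hB0 _ (Nat.mod_lt _ (by norm_num)), hper, ← b.B_conj (hfi i) ha (hvQ _), hshift,
      show i + (j + 5 - i) = j + 5 by omega, ← hper (j + 5), Nat.add_mod_right, hper]
  have hpq : p ≠ 0 ∨ q ≠ 0 := by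
    by_contra h
    push Not at h
    let A : Subgroup G :=
      { carrier := {c | c ∈ b.Q ∧ ∀ i, pairB b.z (v i) c = 0}
        one_mem' := ⟨one_mem _, fun i => by rw [b.B_swap (one_mem _) (hvQ i), b.B_Z (one_mem _) (hvQ i), neg_zero]⟩
        mul_mem' := fun {c d} hc hd => ⟨mul_mem hc.1 hd.1, fun i => by
          rw [b.B_mul_right (hvQ i) hc.1 hd.1, hc.2, hd.2, add_zero]⟩
        inv_mem' := fun {c} hc => ⟨inv_mem hc.1, fun i => by
          have h1 := b.B_mul_right (hvQ i) hc.1 (inv_mem hc.1)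
          rw [mul_inv_cancel, hc.2, zero_add, b.B_swap (one_mem _) (hvQ i), b.B_Z (one_mem _) (hvQ i),
            neg_zero] at h1
          exact h1.symm⟩ }
    have hA := b.five_invariant hfz hf hf1 (A := A) (fun c hc => hc.1)
      ⟨b.z_memQ, fun i => by rw [b.B_swap b.z_memQ (hvQ i), b.B_Z b.z_mem (hvQ i), neg_zero]⟩
      (fun c hc => ⟨b.normQ (b.cz_normZ hfz) hc.1, fun i => by
        rw [← hper i, ← Nat.add_mod_right i 5, hper, show i + 5 = 1 + (i + 4) by omega, ← hshift, pow_one,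
          b.B_conj hfz (hvQ _) hc.1, hc.2]⟩)
    have haA : a ∈ A := ⟨ha, fun i => by
      rw [← hper i, ← hv0, hBv _ _ (Nat.mod_lt _ (by norm_num)), h.1, h.2]
      generalize (0 + 5 - i % 5) % 5 = d
      rcases d with _ | _ | _ | _ | d <;> simp [bb]⟩
    rcases hA with h' | h'
    · exact haZ (h' haA)
    · refine haZ (b.Q_center a ha fun c hc => ?_)
      have h0 := (show c ∈ A by rw [h']; exact hc).2 0
      rw [hv0] at h0
      have := b.B_spec ha hc
      rw [h0] at this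
      exact mul_inv_eq_iff_eq_mul.1 (mul_inv_eq_one.1 (this.symm.trans (pow_zero _)))
  -- coordinates
  let Ψ : b.Q →* Multiplicative (Fin 4 → ZMod 3) :=
    { toFun := fun c => Multiplicative.ofAdd fun j => pairB b.z c (v j)
      map_one' := by
        refine congrArg Multiplicative.ofAdd (funext fun j => ?_)
        exact b.B_Z (one_mem _) (hvQ j)
      map_mul' := fun c d => by
        rw [← ofAdd_add]
        refine congrArg Multiplicative.ofAdd (funext fun j => ?_)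
        exact b.B_mul_left c.2 d.2 (hvQ j) }
  let P : (Fin 4 → ZMod 3) → G := fun x =>
    v 0 ^ (x 0).val * v 1 ^ (x 1).val * v 2 ^ (x 2).val * v 3 ^ (x 3).val
  have hPQ : ∀ x, P x ∈ b.Q := fun x =>
    mul_mem (mul_mem (mul_mem (pow_mem (hvQ _) _) (pow_mem (hvQ _) _)) (pow_mem (hvQ _) _)) (pow_mem (hvQ _) _)
  have hlam : ∀ x j, j < 5 → pairB b.z (P x) (v j) = lam p q x j := fun x j hj => by
    simp only [P]
    rw [b.B_mul_left (mul_mem (mul_mem (pow_mem (hvQ _) _) (pow_mem (hvQ _) _)) (pow_mem (hvQ _) _))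
        (pow_mem (hvQ _) _) (hvQ j),
      b.B_mul_left (mul_mem (pow_mem (hvQ _) _) (pow_mem (hvQ _) _)) (pow_mem (hvQ _) _) (hvQ j),
      b.B_mul_left (pow_mem (hvQ _) _) (pow_mem (hvQ _) _) (hvQ j)]
    simp only [b.B_pow_left (hvQ _) (hvQ j), ZMod.natCast_val, ZMod.cast_id', id_eq, lam]
    rw [hBv 0 j (by norm_num), hBv 1 j (by norm_num), hBv 2 j (by norm_num), hBv 3 j (by norm_num)]
    interval_cases j <;> rfl
  have hinj : Function.Injective fun x : Fin 4 → ZMod 3 => Ψ ⟨P x, hPQ x⟩ := by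
    intro x y e
    have e' : ∀ j, j < 4 → lam p q (x - y) j = 0 := fun j hj => by
      have h1 : pairB b.z (P x) (v j) = pairB b.z (P y) (v j) :=
        congrFun (Multiplicative.ofAdd.injective e) ⟨j, hj⟩
      rw [hlam _ _ (by omega), hlam _ _ (by omega)] at h1
      simp only [lam, Pi.sub_apply] at h1 ⊢
      linear_combination h1
    exact sub_eq_zero.1 (lam_inj p q hpq _ e')
  have hsurj : Function.Surjective fun x : Fin 4 → ZMod 3 => Ψ ⟨P x, hPQ x⟩ :=
    ((Nat.bijective_iff_injective_and_card _).2 ⟨hinj, Nat.card_congr Multiplicative.ofAdd⟩).2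
  have hker : ∀ c (hc : c ∈ b.Q), (∀ j, j < 4 → pairB b.z c (v j) = 0) → c ∈ b.Z := by
    intro c hc hc0
    have hrange : Ψ.range = ⊤ := eq_top_iff.2 fun y _ => by
      obtain ⟨x, hx⟩ := hsurj y
      exact ⟨_, hx⟩
    have h1 := Subgroup.card_mul_index Ψ.ker
    rw [Subgroup.index_ker, hrange, Subgroup.card_top, Nat.card_congr Multiplicative.toAdd, Nat.card_fun,
      Nat.card_zmod, Nat.card_fin, b.hQcard] at h1
    have hle : b.Z.subgroupOf b.Q ≤ Ψ.ker := fun e he => by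
      refine MonoidHom.mem_ker.2 (congrArg Multiplicative.ofAdd (funext fun j => ?_))
      exact b.B_Z (mem_subgroupOf.1 he) (hvQ j)
    have heq := Subgroup.eq_of_le_of_card_ge hle (by
      rw [Nat.card_congr (subgroupOfEquivOfLe b.Z_le_Q).toEquiv, b.card_Z]; omega)
    have hmem : (⟨c, hc⟩ : b.Q) ∈ Ψ.ker :=
      MonoidHom.mem_ker.2 (congrArg Multiplicative.ofAdd (funext fun j => hc0 j j.2))
    rw [← heq] at hmem
    exact mem_subgroupOf.1 hmem
  -- the image of `a` under `n`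
  set w := n * a * n⁻¹ with hw
  have hwQ : w ∈ b.Q := b.normQ (b.cz_normZ hnz) ha
  obtain ⟨x, hx⟩ := hsurj (Ψ ⟨w, hwQ⟩)
  have hsame : ∀ c ∈ b.Q, ∀ c' ∈ b.Q, (∀ j, j < 4 → pairB b.z c (v j) = pairB b.z c' (v j)) → c * c'⁻¹ ∈ b.Z := by
    intro c hc c' hc' h
    refine hker _ (mul_mem hc (inv_mem hc')) fun j hj => ?_
    have h1 := b.B_mul_left hc' (inv_mem hc') (hvQ j)
    rw [mul_inv_cancel, b.B_Z (one_mem _) (hvQ j)] at h1
    rw [b.B_mul_left hc (inv_mem hc') (hvQ j), h j hj]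
    exact h1.symm
  have hwx : w * (P x)⁻¹ ∈ b.Z := hsame w hwQ _ (hPQ x) fun j hj =>
    (congrFun (Multiplicative.ofAdd.injective hx) ⟨j, hj⟩).symm
  have hwlam : ∀ j, j < 5 → pairB b.z w (v j) = lam p q x j := fun j hj => by
    rw [show w = w * (P x)⁻¹ * P x by group, b.B_mul_left (b.Z_le_Q hwx) (hPQ x) (hvQ j),
      b.B_Z hwx (hvQ j), zero_add, hlam x j hj]
  have hquad : ∀ d, 0 < d → d < 3 → quad p q x d = bb p q d := fun d hd0 hd => by
    rw [← hB0 d (by omega), ← b.B_conj hnz ha (hvQ d)]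
    have hc : n * v d * n⁻¹ = f ^ d * w * (f ^ d)⁻¹ := by
      have hcn : Commute n (f ^ d) := (show Commute n f from hnf).pow_right d
      simp only [hv, hw]
      rw [show n * (f ^ d * a * (f ^ d)⁻¹) * n⁻¹ = n * f ^ d * a * (n * f ^ d)⁻¹ by group, hcn.eq]
      group
    rw [hc, show w = w * (P x)⁻¹ * P x by group]
    have hmove : f ^ d * (w * (P x)⁻¹ * P x) * (f ^ d)⁻¹ = w * (P x)⁻¹ *
        (v (d + 0) ^ (x 0).val * v (d + 1) ^ (x 1).val * v (d + 2) ^ (x 2).val * v (d + 3) ^ (x 3).val) := by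
      rw [← mul_assoc, b.fix_mod_inv (hfi d) hwx]
      simp only [P, ← hshift, conj_pow]
      group
    rw [hmove, ← hw]
    have hq' : ∀ m k, v m ^ k ∈ b.Q := fun m k => pow_mem (hvQ m) k
    rw [b.B_mul_right hwQ (b.Z_le_Q hwx) (mul_mem (mul_mem (mul_mem (hq' _ _) (hq' _ _)) (hq' _ _)) (hq' _ _)),
      b.B_mul_right hwQ (mul_mem (mul_mem (hq' _ _) (hq' _ _)) (hq' _ _)) (hq' _ _),
      b.B_mul_right hwQ (mul_mem (hq' _ _) (hq' _ _)) (hq' _ _),
      b.B_mul_right hwQ (hq' _ _) (hq' _ _), b.B_swap (b.Z_le_Q hwx) hwQ, b.B_Z hwx hwQ]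
    simp only [b.B_pow_right hwQ (hvQ _), ZMod.natCast_val, ZMod.cast_id', id_eq, quad]
    rw [← hper (d + 0), ← hper (d + 1), ← hper (d + 2), ← hper (d + 3),
      hwlam _ (Nat.mod_lt _ (by norm_num)), hwlam _ (Nat.mod_lt _ (by norm_num)),
      hwlam _ (Nat.mod_lt _ (by norm_num)), hwlam _ (Nat.mod_lt _ (by norm_num))]
    simp
  obtain ⟨i, hi, s, hs, hcase⟩ := isometry_cases p q hpq x (hquad 1 (by norm_num) (by norm_num))
    (hquad 2 (by norm_num) (by norm_num))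
  refine ⟨i, ?_⟩
  have hgi : (f ^ i)⁻¹ * b.z = b.z * (f ^ i)⁻¹ := (Commute.inv_left (show Commute (f ^ i) b.z from hfi i)).eq
  have hmz : (f ^ i)⁻¹ * n * b.z = b.z * ((f ^ i)⁻¹ * n) := (Commute.mul_left (show Commute _ b.z from hgi) hnz).eq
  have hmf : (f ^ i)⁻¹ * n * f = f * ((f ^ i)⁻¹ * n) :=
    (Commute.mul_left ((Commute.refl f).pow_left i).inv_left (show Commute n f from hnf)).eq
  have hconj : (f ^ i)⁻¹ * n * a * ((f ^ i)⁻¹ * n)⁻¹ = (f ^ i)⁻¹ * w * f ^ i := by rw [hw]; group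
  rcases hs with rfl | rfl
  · left
    refine b.fix_of_point hfz hf hf1 hmz hmf ha haZ ?_
    have h1 : w * (v i)⁻¹ ∈ b.Z := hsame w hwQ _ (hvQ i) fun j hj => by
      rw [hwlam j (by omega), hcase j hj, one_mul, hBv i j hi]
    rw [hconj, show (f ^ i)⁻¹ * w * f ^ i * a⁻¹ = (f ^ i)⁻¹ * (w * (v i)⁻¹) * f ^ i by simp only [hv]; group,
      b.Z_comm h1 hgi, inv_mul_cancel_right]
    exact h1
  · right
    have htmz : t * ((f ^ i)⁻¹ * n) * b.z = b.z * (t * ((f ^ i)⁻¹ * n)) :=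
      (Commute.mul_left (show Commute t b.z from htz) hmz).eq
    have htmf : t * ((f ^ i)⁻¹ * n) * f = f * (t * ((f ^ i)⁻¹ * n)) :=
      (Commute.mul_left (show Commute t f from htf) hmf).eq
    refine b.fix_of_point hfz hf hf1 htmz htmf ha haZ ?_
    have h1 : w * ((v i)⁻¹)⁻¹ ∈ b.Z := hsame w hwQ _ (inv_mem (hvQ i)) fun j hj => by
      have h1 := b.B_mul_left (hvQ i) (inv_mem (hvQ i)) (hvQ j)
      rw [mul_inv_cancel, b.B_Z (one_mem _) (hvQ j)] at h1
      rw [hwlam j (by omega), hcase j hj, ← hBv i j hi]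
      linear_combination h1
    rw [inv_inv] at h1
    have e : (f ^ i)⁻¹ * w * f ^ i = w * v i * a⁻¹ := by
      have : (f ^ i)⁻¹ * (w * v i) * f ^ i = w * v i := by rw [b.Z_comm h1 hgi, inv_mul_cancel_right]
      conv_rhs => rw [← this]
      simp only [hv]; group
    rw [show t * ((f ^ i)⁻¹ * n) * a * (t * ((f ^ i)⁻¹ * n))⁻¹ =
      t * ((f ^ i)⁻¹ * n * a * ((f ^ i)⁻¹ * n)⁻¹) * t⁻¹ by group, hconj, e, ← mul_assoc,
      b.fix_mod_inv htz h1, mul_assoc,
      show t * a⁻¹ * t⁻¹ * a⁻¹ = (a * (t * a * t⁻¹))⁻¹ by group]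
    refine mul_mem h1 (inv_mem ?_)
    have h2 := htinv a ha
    rw [show a * (t * a * t⁻¹) = a * (t * a * t⁻¹ * a) * a⁻¹ by group, b.Z_comm h2 (b.z_comm ha),
      mul_inv_cancel_right]
    exact h2

end Basic

variable {G : Type u} [Group G] [Finite G]

/-- The structure of the normaliser of the centre. -/
theorem exists_localZ (b : Basic G) : ∃ l : LocalZ G, l.toBasic = b := by
  classical
  obtain ⟨t, htL, ht2, ht1, htφ⟩ := b.exists_t
  have htz := b.L_le_cz htL
  set C0 : Subgroup G := b.L ⊓ centralizer ({t} : Set G) with hC0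
  let φ0 : C0 →* Matrix.SpecialLinearGroup (Fin 2) (ZMod 5) := b.φL.comp (Subgroup.inclusion inf_le_left)
  have hφ0 : Function.Surjective φ0 := fun c => by
    obtain ⟨g, hg, hgt⟩ := b.exists_lift htL ht2 ht1 htφ c
    exact ⟨⟨g, g.2, mem_centralizer_singleton_iff.2 hgt⟩, hg⟩
  have hkerQ : ∀ x : C0, φ0 x = 1 ↔ (x : G) ∈ b.Z := fun x => by
    have := b.φ_eq_one_iff (Subgroup.inclusion inf_le_left x)
    refine this.trans ⟨fun h => b.centQt' htL ht2 ht1 htφ h (mem_centralizer_singleton_iff.1 x.2.2).symm,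
      fun h => b.Z_le_Q h⟩
  have hZC : b.Z ≤ C0 := fun x hx =>
    ⟨b.hQL (b.Z_le_Q hx), mem_centralizer_singleton_iff.2 (b.Z_comm hx htz).symm⟩
  have hker : φ0.ker = b.Z.subgroupOf C0 := by
    ext x; rw [MonoidHom.mem_ker, hkerQ, mem_subgroupOf]
  have hcard0 : Nat.card C0 = 360 := by
    rw [Subgroup.card_eq_card_quotient_mul_card_subgroup φ0.ker,
      Nat.card_congr (QuotientGroup.quotientKerEquivOfSurjective φ0 hφ0).toEquiv, hker,
      Nat.card_congr (subgroupOfEquivOfLe hZC).toEquiv, b.card_Z, Nat.card_eq_fintype_card]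
    decide +kernel
  -- the kernel meets the derived group trivially
  have htriv : ∀ x ∈ _root_.commutator C0, φ0 x = 1 → x = 1 := by
    intro x hx hx1
    haveI : Fact (Nat.Prime 3) := ⟨Nat.prime_three⟩
    obtain ⟨P, hP⟩ := Sylow.exists_subgroup_card_pow_prime 3 (n := 2) (G := C0)
      (by rw [hcard0]; norm_num)
    letI : CommGroup P := { (inferInstance : Group P) with mul_comm := IsPGroup.commutative_of_card_eq_prime_sq hP }
    have hidx : P.index = 40 := by
      have := P.card_mul_index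
      rw [hP, hcard0] at this
      omega
    haveI : P.FiniteIndex := ⟨by rw [hidx]; norm_num⟩
    have hxZ := (hkerQ x).1 hx1
    have hcen : ∀ (k : ℕ) (g : C0), g⁻¹ * x ^ k * g ∈ P → g⁻¹ * x ^ k * g = x ^ k := by
      intro k g _
      have hc : Commute g x := Subtype.ext (b.Z_comm hxZ (b.L_le_cz g.2.1))
      rw [mul_assoc, ← (hc.pow_right k).eq, inv_mul_cancel_left]
    have h1 := MonoidHom.transfer_eq_pow (ϕ := MonoidHom.id P) x hcen
    have h2 : MonoidHom.transfer (MonoidHom.id P) x = 1 := Abelianization.commutator_subset_ker _ hx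
    rw [h2] at h1
    have h3 : x ^ 40 = 1 := by
      rw [← hidx]
      exact (congrArg Subtype.val h1).symm
    have h4 : x ^ 3 = 1 := Subtype.ext (by push_cast; exact b.Z_cube hxZ)
    have := pow_gcd_eq_one.2 ⟨h4, h3⟩
    simpa using this
  let φK : _root_.commutator C0 →* Matrix.SpecialLinearGroup (Fin 2) (ZMod 5) := φ0.comp (Subgroup.subtype _)
  have hφK : Function.Bijective φK := by
    refine ⟨(injective_iff_map_eq_one φK).2 fun x hx => Subtype.ext (htriv x x.2 hx), fun c => ?_⟩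
    have hmap : (_root_.commutator C0).map φ0 = ⊤ := by
      rw [_root_.commutator_def, Subgroup.map_commutator, Subgroup.map_top_of_surjective φ0 hφ0, ← _root_.commutator_def,
        LocalZFacts.commutator_eq_top]
    obtain ⟨x, hx, e⟩ := (hmap ▸ Subgroup.mem_top c : c ∈ (_root_.commutator C0).map φ0)
    exact ⟨⟨x, hx⟩, e⟩
  set K : Subgroup G := (_root_.commutator C0).map C0.subtype with hK
  let eK : K ≃* Matrix.SpecialLinearGroup (Fin 2) (ZMod 5) :=
    ((_root_.commutator C0).equivMapOfInjective C0.subtype C0.subtype_injective).symm.trans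
      (MulEquiv.ofBijective φK hφK)
  have hKC : K ≤ C0 := Subgroup.map_subtype_le _
  have hKeq : K = ⁅C0, C0⁆ := by
    rw [hK, _root_.commutator_def, Subgroup.map_commutator, ← MonoidHom.range_eq_map, Subgroup.range_subtype]
  have hlift : ∀ g : b.L, ∃ k ∈ K, ∃ hk : k ∈ b.L, b.φL ⟨k, hk⟩ = b.φL g := by
    intro g
    obtain ⟨k, hk⟩ := hφK.2 (b.φL g)
    exact ⟨((k : C0) : G), ⟨_, k.2, rfl⟩, (k : C0).2.1, hk⟩
  have htK : t ∈ K := by
    obtain ⟨k, hkK, hkL, hk⟩ := hlift ⟨t, htL⟩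
    obtain ⟨x, hx, rfl⟩ := hkK
    have hx2 : x * x = 1 := htriv _ (mul_mem hx hx) (by
      show b.φL _ = 1
      rw [map_mul, map_mul]
      exact (congrArg₂ (· * ·) hk hk).trans (by rw [htφ]; exact relations.2.2.1))
    have hxt : (x : G) * t ∈ b.Z := by
      refine b.centQt' htL ht2 ht1 htφ ((b.φ_eq_one_iff (⟨(x : G), hkL⟩ * ⟨t, htL⟩)).1 (by
        rw [map_mul, show b.φL ⟨(x : G), hkL⟩ = b.φL ⟨t, htL⟩ from hk, htφ, relations.2.2.1])) ?_
      rw [← mul_assoc, ← mem_centralizer_singleton_iff.1 x.2.2]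
    have h3 := b.Z_cube hxt
    have h2 : ((x : G) * t) ^ 2 = 1 := by
      rw [(show Commute (x : G) t from mem_centralizer_singleton_iff.1 x.2.2).mul_pow, pow_two, pow_two, ht2,
        mul_one]
      exact congrArg Subtype.val hx2
    have := pow_gcd_eq_one.2 ⟨h3, h2⟩
    simp only [show Nat.gcd 3 2 = 1 from rfl, pow_one] at this
    have htinv : t⁻¹ = t := inv_eq_of_mul_eq_one_right ht2
    rw [show t = (x : G) by rw [eq_inv_of_mul_eq_one_left this, htinv]]
    exact ⟨x, hx, rfl⟩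
  have hKt : ∀ g ∈ K, g * t = t * g := fun g hg => mem_centralizer_singleton_iff.1 (hKC hg).2
  have hKz : ∀ g ∈ K, g * b.z = b.z * g := fun g hg => b.L_le_cz (hKC hg).1
  have hsplit : ∀ g ∈ normalizer (b.Z : Set G),
      ∃ a ∈ b.Q, ∃ n ∈ normalizer (b.Z : Set G), n * t = t * n ∧ g = a * n := fun g hg => by
    obtain ⟨s, hs, hst⟩ := b.adjust htL ht2 ht1 htφ hg
    exact ⟨s, hs, s⁻¹ * g, mul_mem (inv_mem (b.L_le_normZ (b.hQL hs))) hg, hst, by group⟩
  have hnormal : ∀ n ∈ normalizer (b.Z : Set G), n * t = t * n → n ∈ normalizer (K : Set G) := by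
    intro n hn hnt
    refine Subgroup.mem_normalizer_fintype fun x hx => ?_
    have hle : C0.map (MulAut.conj n).toMonoidHom ≤ C0 := by
      rintro _ ⟨c, hc, rfl⟩
      show n * c * n⁻¹ ∈ C0
      refine ⟨b.L_conj hn hc.1, mem_centralizer_singleton_iff.2 ?_⟩
      exact (Commute.mul_left (Commute.mul_left (show Commute n t from hnt)
        (mem_centralizer_singleton_iff.1 hc.2)) (show Commute n t from hnt).inv_left).eq
    have h1 : n * x * n⁻¹ ∈ K.map (MulAut.conj n).toMonoidHom := ⟨x, hx, rfl⟩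
    rw [hKeq, Subgroup.map_commutator] at h1
    show n * x * n⁻¹ ∈ K
    rw [hKeq]
    exact Subgroup.commutator_mono hle hle h1
  -- an element of order five in `K`
  obtain ⟨f, hfK, hf5, hf1⟩ : ∃ f ∈ K, f ^ 5 = 1 ∧ f ≠ 1 := by
    refine ⟨((eK.symm g₀ : K) : G), (eK.symm g₀).2, ?_, fun e => relations.2.1 ?_⟩
    · rw [← SubmonoidClass.coe_pow, ← map_pow, relations.1, map_one]; rfl
    · rw [← eK.apply_symm_apply g₀, show eK.symm g₀ = 1 from Subtype.ext e, map_one]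
  have hcentK : ∀ n : G, n * b.z = b.z * n → n * t = t * n → (∀ g ∈ K, n * g = g * n) →
      n ∈ zpowers (b.z * t) := by
    intro n hnz hnt hnK
    obtain ⟨i, hi⟩ := b.exists_fix htz (fun a ha => b.t_inv' htL ht2 ht1 htφ ha) (hKt f hfK).symm
      (hKz f hfK) hf5 hf1 hnz (hnK f hfK)
    have hfL : f ∈ b.L := (hKC hfK).1
    have hnL : n ∈ b.L := by
      rcases hi with h | h
      · have h1 := mul_mem (pow_mem hfL i) (b.mem_L_of_fix h)
        rwa [mul_inv_cancel_left] at h1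
      · have h1 := mul_mem (pow_mem hfL i) (mul_mem (inv_mem htL) (b.mem_L_of_fix h))
        rwa [inv_mul_cancel_left, mul_inv_cancel_left] at h1
    have hcomm : ∀ g : b.L, b.φL ⟨n, hnL⟩ * b.φL g = b.φL g * b.φL ⟨n, hnL⟩ := by
      intro g
      obtain ⟨k, hkK, hkL, hk⟩ := hlift g
      rw [← hk, ← map_mul, ← map_mul]
      exact congrArg _ (Subtype.ext (hnK k hkK))
    have hz : b.z ∈ zpowers (b.z * t) := by
      refine ⟨4, ?_⟩
      show (b.z * t) ^ (4 : ℤ) = b.z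
      rw [show (4 : ℤ) = ((4 : ℕ) : ℤ) from rfl, zpow_natCast, (show Commute b.z t from htz.symm).mul_pow,
        show (4 : ℕ) = 3 + 1 from rfl, pow_succ, b.z_cube, one_mul, pow_succ, pow_succ, pow_two, ht2, one_mul, ht2,
        mul_one]
    have ht : t ∈ zpowers (b.z * t) := by
      refine ⟨3, ?_⟩
      show (b.z * t) ^ (3 : ℤ) = t
      rw [show (3 : ℤ) = ((3 : ℕ) : ℤ) from rfl, zpow_natCast, (show Commute b.z t from htz.symm).mul_pow,
        b.z_cube, one_mul, pow_succ, pow_two, ht2, one_mul]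
    have hZle : b.Z ≤ zpowers (b.z * t) := by rw [b.Z_eq, zpowers_le]; exact hz
    obtain ⟨g₁, hg₁⟩ := b.φL_surj g₀
    obtain ⟨g₂, hg₂⟩ := b.φL_surj s₀
    rcases centralizer_pair (b.φL ⟨n, hnL⟩) (hg₁ ▸ hcomm g₁) (hg₂ ▸ hcomm g₂) with e | e
    · exact hZle (b.centQt' htL ht2 ht1 htφ ((b.φ_eq_one_iff _).1 e) hnt.symm)
    · have h1 : n * t ∈ b.Q := (b.φ_eq_one_iff (⟨n, hnL⟩ * ⟨t, htL⟩)).1 (by
        rw [map_mul, e, htφ]; exact relations.2.2.1)
      have h2 := hZle (b.centQt' htL ht2 ht1 htφ h1 (by rw [← mul_assoc, ← hnt]))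
      have := mul_mem h2 (inv_mem ht)
      rwa [mul_inv_cancel_right] at this
  have hcentZ : centralizer (b.Z : Set G) = centralizer ({b.z} : Set G) := by
    ext g
    rw [mem_centralizer_iff, mem_centralizer_singleton_iff]
    exact ⟨fun h => (h _ b.z_mem).symm, fun h x hx => (b.Z_comm hx h).symm⟩
  set H : Subgroup G := centralizer ({b.z} : Set G) ⊓ centralizer ({t} : Set G) with hH
  have hmemH : ∀ {g : G}, g ∈ H ↔ g * b.z = b.z * g ∧ g * t = t * g := fun {g} => by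
    rw [hH, mem_inf, mem_centralizer_singleton_iff, mem_centralizer_singleton_iff]
  have hCz : Nat.card (centralizer ({b.z} : Set G)) = 81 * Nat.card H := by
    set Cz := centralizer ({b.z} : Set G) with hCzdef
    have hQle : b.Q ≤ Cz := fun a ha => mem_centralizer_singleton_iff.2 (b.z_comm ha)
    haveI : (b.Q.subgroupOf Cz).Normal := ⟨fun a ha g => mem_subgroupOf.2
      (b.normQ (b.cz_normZ (mem_centralizer_singleton_iff.1 g.2)) (mem_subgroupOf.1 ha))⟩
    let ψ : H →* Cz ⧸ b.Q.subgroupOf Cz := (QuotientGroup.mk' _).comp (Subgroup.inclusion inf_le_left)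
    have hψ : Function.Surjective ψ := by
      intro y
      obtain ⟨g, rfl⟩ := QuotientGroup.mk_surjective y
      obtain ⟨a, ha, n, -, hnt, e⟩ := hsplit g (b.cz_normZ (mem_centralizer_singleton_iff.1 g.2))
      have hnC : n ∈ Cz := by
        have := mul_mem (inv_mem (hQle ha)) g.2
        rwa [e, inv_mul_cancel_left] at this
      refine ⟨⟨n, hnC, mem_centralizer_singleton_iff.2 hnt⟩, (QuotientGroup.eq.2 (mem_subgroupOf.2 ?_))⟩
      show n⁻¹ * (g : G) ∈ b.Q
      rw [e]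
      have := b.normQ (inv_mem (b.cz_normZ (mem_centralizer_singleton_iff.1 hnC))) ha
      rwa [inv_inv, mul_assoc] at this
    have hZH : b.Z ≤ H := fun x hx => hmemH.2 ⟨b.z_comm (b.Z_le_Q hx), (b.Z_comm hx htz).symm⟩
    have hk : ψ.ker = b.Z.subgroupOf H := by
      ext x
      rw [MonoidHom.mem_ker, mem_subgroupOf]
      change QuotientGroup.mk _ = 1 ↔ _
      rw [QuotientGroup.eq_one_iff, mem_subgroupOf]
      exact ⟨fun h => b.centQt' htL ht2 ht1 htφ h (hmemH.1 x.2).2.symm, fun h => b.Z_le_Q h⟩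
    have h1 := Subgroup.card_eq_card_quotient_mul_card_subgroup (b.Q.subgroupOf Cz)
    rw [Nat.card_congr (subgroupOfEquivOfLe hQle).toEquiv, b.hQcard] at h1
    have h2 := Subgroup.card_eq_card_quotient_mul_card_subgroup ψ.ker
    rw [Nat.card_congr (QuotientGroup.quotientKerEquivOfSurjective ψ hψ).toEquiv, hk,
      Nat.card_congr (subgroupOfEquivOfLe hZH).toEquiv, b.card_Z] at h2
    omega
  have hCzt : Nat.card H = 360 ∨ Nat.card H = 720 := by
    have hC0H : C0 ≤ H := fun g hg => hmemH.2 ⟨b.L_le_cz hg.1, mem_centralizer_singleton_iff.1 hg.2⟩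
    have hdvd := Subgroup.card_dvd_of_le hC0H
    rw [hcard0] at hdvd
    have hHN : H ≤ normalizer (K : Set G) := fun g hg => hnormal g (b.cz_normZ (hmemH.1 hg).1) (hmemH.1 hg).2
    let χ : H →* MulAut K := (Subgroup.normalizerMonoidHom K).comp (Subgroup.inclusion hHN)
    have hk : χ.ker.map H.subtype ≤ zpowers (b.z * t) := by
      rintro _ ⟨x, hx, rfl⟩
      refine hcentK _ (hmemH.1 x.2).1 (hmemH.1 x.2).2 fun g hg => ?_
      have h1 := congrArg Subtype.val (MulEquiv.congr_fun (MonoidHom.mem_ker.1 hx) ⟨g, hg⟩)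
      exact mul_inv_eq_iff_eq_mul.1 (show (x : G) * g * (x : G)⁻¹ = g from h1)
    have hkc : Nat.card χ.ker ≤ 6 := by
      rw [← Subgroup.card_map_of_injective H.subtype_injective]
      refine (Subgroup.card_le_of_le hk).trans ?_
      rw [Nat.card_zpowers]
      refine Nat.le_of_dvd (by norm_num) (orderOf_dvd_of_pow_eq_one ?_)
      rw [(show Commute b.z t from htz.symm).mul_pow, show (6 : ℕ) = 3 * 2 from rfl, pow_mul, b.z_cube, one_pow,
        one_mul, mul_comm 3 2, pow_mul, pow_two, ht2, one_pow]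
    have hr : Nat.card χ.range ≤ 120 :=
      (Subgroup.card_le_card_group _).trans (le_of_eq_of_le (Nat.card_congr (MulAut.congr eK).toEquiv) card_mulAut_le)
    have h2 := Subgroup.card_eq_card_quotient_mul_card_subgroup χ.ker
    rw [Nat.card_congr (QuotientGroup.quotientKerEquivRange χ).toEquiv] at h2
    have hle : Nat.card H ≤ 720 := h2 ▸ Nat.mul_le_mul hr hkc
    obtain ⟨d, hd⟩ := hdvd
    have hpos : 0 < Nat.card H := Nat.card_pos
    omega
  exact ⟨{ toBasic := b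
           t := t
           t_order := orderOf_eq_prime (by rw [pow_two, ht2]) ht1
           t_mem_L := htL
           tz := htz
           centQt := fun a ha h => b.centQt' htL ht2 ht1 htφ ha h
           t_inv := fun a ha => b.t_inv' htL ht2 ht1 htφ ha
           K := K
           eK := eK
           t_mem_K := htK
           K_le_L := fun g hg => (hKC hg).1
           K_t := hKt
           K_z := hKz
           L_split := fun g hg => by
             obtain ⟨k, hkK, hkL, hk⟩ := hlift ⟨g, hg⟩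
             refine ⟨g * k⁻¹, (b.φ_eq_one_iff (⟨g, hg⟩ * ⟨k, hkL⟩⁻¹)).1 (by rw [map_mul, map_inv, hk, mul_inv_cancel]),
               k, hkK, by group⟩
           normZ_split := hsplit
           K_normal := hnormal
           centK := hcentK
           centZ_eq := hcentZ
           card_Cz := hCz
           card_Czt := hCzt }, rfl⟩

end CfsgLib.McLThreeLocal
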