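import Mathlib

/-!
Facts on involutions and elements of order three and five in the symmetric group of degree eight.
-/

set_option autoImplicit false
set_option linter.unusedSectionVars false

namespace CfsgLib.McLThreeLocal.PermEight

open Equiv Equiv.Perm

section General

variable {α : Type*} [Fintype α] [DecidableEq α] {σ τ : Perm α}

theorem cycleType_inv_two (h : σ * σ = 1) :
    ∃ k, σ.cycleType = Multiset.replicate k 2 ∧ σ.support.card = 2 * k ∧ sign σ = (-1 : ℤˣ) ^ k := by
  have hall : ∀ n ∈ σ.cycleType, n = 2 := by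
    intro n hn
    have h1 : n ∣ orderOf σ := dvd_of_mem_cycleType hn
    have h2 : orderOf σ ∣ 2 := orderOf_dvd_of_pow_eq_one (by rw [pow_two, h])
    exact (Nat.le_of_dvd two_pos (h1.trans h2)).antisymm (two_le_of_mem_cycleType hn)
  have hrep := Multiset.eq_replicate_card.2 hall
  refine ⟨Multiset.card σ.cycleType, hrep, ?_, ?_⟩
  · rw [← sum_cycleType, hrep]; simp [mul_comm]
  · rw [sign_of_cycleType, hrep]
    simp [pow_add, pow_mul', ← pow_mul]

theorem isConj_of_card (hσ : σ * σ = 1) (hτ : τ * τ = 1) (h : σ.support.card = τ.support.card) :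
    ∃ π : Perm α, π * σ * π⁻¹ = τ := by
  obtain ⟨k, hk, hks, -⟩ := cycleType_inv_two hσ
  obtain ⟨l, hl, hls, -⟩ := cycleType_inv_two hτ
  rw [h, hls] at hks
  exact isConj_iff.1 (isConj_of_cycleType_eq (by rw [hk, hl, show l = k by omega]))

theorem mem_of_conj {τ' : Perm α} (h : σ * τ * σ⁻¹ = τ') {a : α} (ha : a ∈ τ.support) :
    σ a ∈ τ'.support := by
  rw [mem_support] at ha ⊢
  subst h
  simp only [mul_apply, Perm.inv_eq_iff_eq, Equiv.Perm.coe_mul, Function.comp_apply]
  rw [show σ⁻¹ (σ a) = a from Equiv.symm_apply_apply σ a]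
  exact fun e => ha (σ.injective e)

/-- An involution without fixed point on an invariant set: the set has even cardinality. -/
theorem even_of_fpf (h : σ * σ = 1) (S : Finset α) (hS : ∀ a ∈ S, σ a ∈ S)
    (hfix : ∀ a ∈ S, σ a ≠ a) : Even S.card := by
  have hiff : ∀ a, σ a ∈ S ↔ a ∈ S := fun a => ⟨fun ha => by
    have := hS _ ha
    rwa [← mul_apply, h, one_apply] at this, hS a⟩
  let σ' : Perm S := σ.subtypePerm hiff
  have h' : σ' * σ' = 1 := Perm.ext fun a => Subtype.ext (by
    show σ (σ a) = a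
    rw [← mul_apply, h, one_apply])
  obtain ⟨k, -, hk, -⟩ := cycleType_inv_two h'
  have hu : σ'.support = Finset.univ := Finset.eq_univ_iff_forall.2 fun a =>
    mem_support.2 fun e => hfix a a.2 (congrArg Subtype.val e)
  rw [hu, Finset.card_univ, Fintype.card_coe] at hk
  exact ⟨k, by omega⟩

theorem exists_pow_apply (hτ : τ.support.card = 3) {a b : α} (ha : a ∈ τ.support) (hb : b ∈ τ.support) :
    ∃ i : ℕ, (τ ^ i) a = b :=
  ((card_support_eq_three_iff.1 hτ).isCycle.exists_pow_eq (mem_support.1 ha) (mem_support.1 hb))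

/-- An involution commuting with a three-cycle fixes its points. -/
theorem fix_of_commute (hσ : σ * σ = 1) (hc : Commute σ τ) (hτ : τ.support.card = 3) :
    ∀ a ∈ τ.support, σ a = a := by
  have hinv : ∀ a ∈ τ.support, σ a ∈ τ.support := fun a ha =>
    mem_of_conj (by rw [hc.eq, mul_inv_cancel_right]) ha
  obtain ⟨a, ha, hfa⟩ : ∃ a ∈ τ.support, σ a = a := by
    by_contra hne
    push Not at hne
    obtain ⟨k, hk⟩ := even_of_fpf hσ τ.support hinv hne
    omega
  intro b hb
  obtain ⟨i, rfl⟩ := exists_pow_apply hτ ha hb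
  rw [← mul_apply, (hc.pow_right i).eq, mul_apply, hfa]

/-- An involution inverting a three-cycle moves exactly two of its points. -/
theorem moves_of_invert (hσ : σ * σ = 1) (hc : σ * τ * σ⁻¹ = τ⁻¹) (hτ : τ.support.card = 3) :
    (σ.support ∩ τ.support).card = 2 := by
  have hinv : ∀ a ∈ σ.support ∩ τ.support, σ a ∈ σ.support ∩ τ.support := fun a ha => by
    rw [Finset.mem_inter] at ha ⊢
    exact ⟨apply_mem_support.2 ha.1, by simpa using mem_of_conj hc ha.2⟩
  obtain ⟨k, hk⟩ := even_of_fpf hσ _ hinv fun a ha => mem_support.1 (Finset.mem_inter.1 ha).1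
  have hle : (σ.support ∩ τ.support).card ≤ 3 := hτ ▸ Finset.card_le_card Finset.inter_subset_right
  by_contra hne
  have h0 : (σ.support ∩ τ.support).card = 0 := by omega
  rw [Finset.card_eq_zero, ← Finset.disjoint_iff_inter_eq_empty] at h0
  have hd : Disjoint σ τ := disjoint_iff_disjoint_support.2 h0
  rw [hd.commute.eq, mul_inv_cancel_right] at hc
  have h2 : orderOf τ ∣ 2 := orderOf_dvd_of_pow_eq_one (by
    rw [pow_two]; nth_rewrite 2 [hc]; exact mul_inv_cancel τ)
  rw [(card_support_eq_three_iff.1 hτ).orderOf] at h2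
  omega

/-- Two commuting three-cycles are disjoint or generate the same subgroup. -/
theorem disjoint_of_commute {ρ : Perm α} (hc : Commute ρ τ) (hρ : ρ.support.card = 3)
    (hτ : τ.support.card = 3) (h : ∀ i : ℕ, τ ≠ ρ ^ i) : _root_.Disjoint ρ.support τ.support := by
  by_contra hd
  obtain ⟨a, haρ, haτ⟩ := Finset.not_disjoint_iff.1 hd
  have hinv : ∀ i : ℕ, (ρ ^ i) a ∈ τ.support := fun i =>
    mem_of_conj (by rw [(hc.pow_left i).eq, mul_inv_cancel_right]) haτ
  have hsub : ρ.support ⊆ τ.support := fun b hb => by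
    obtain ⟨i, rfl⟩ := exists_pow_apply hρ haρ hb
    exact hinv i
  have heq : ρ.support = τ.support := Finset.eq_of_subset_of_card_le hsub (by omega)
  obtain ⟨i, hi⟩ := exists_pow_apply hρ haρ (heq ▸ apply_mem_support.2 haτ : τ a ∈ ρ.support)
  refine h i (Perm.ext fun b => ?_)
  by_cases hb : b ∈ ρ.support
  · obtain ⟨j, rfl⟩ := exists_pow_apply hρ haρ hb
    rw [← mul_apply, ← (hc.pow_left j).eq, mul_apply, ← hi, ← mul_apply, ← pow_add, add_comm j i,
      pow_add, mul_apply]
  · have hb' : b ∉ τ.support := heq ▸ hb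
    rw [Perm.notMem_support.1 hb', pow_apply_eq_self_of_apply_eq_self (Perm.notMem_support.1 hb)]

end General

theorem card_support_five {τ : Perm (Fin 8)} (h : orderOf τ = 5) : τ.support.card = 5 := by
  obtain ⟨n, hn⟩ := cycleType_prime_order (σ := τ) (by rw [h]; norm_num)
  have hle := sum_cycleType_le τ
  rw [← sum_cycleType, hn, h]
  rw [hn, h] at hle
  simp at hle ⊢
  omega

/-- An element of order three commuting with one of order five is a three-cycle. -/
theorem card_support_three {σ τ : Perm (Fin 8)} (hσ : orderOf σ = 3) (hτ : orderOf τ = 5)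
    (hc : Commute σ τ) : σ.support.card = 3 := by
  obtain ⟨n, hn⟩ := cycleType_prime_order (σ := σ) (by rw [hσ]; norm_num)
  have hle := sum_cycleType_le σ
  rw [hn, hσ] at hle
  simp at hle
  have hdvd : orderOf τ ∣ Nat.card ↥(Subgroup.centralizer ({σ} : Set (Perm (Fin 8)))) :=
    Subgroup.orderOf_dvd_natCard _ (Subgroup.mem_centralizer_singleton_iff.2 hc.symm.eq)
  rw [nat_card_centralizer, hn, hτ, hσ] at hdvd
  rw [← sum_cycleType, hn, hσ]
  rcases (show n = 0 ∨ n = 1 by omega) with rfl | rfl
  · simp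
  · exfalso
    revert hdvd
    decide +kernel

/-- An involution inverting an element of order five has a fixed point. -/
theorem exists_fixed_of_invert_five {σ τ : Perm (Fin 8)} (hσ : σ * σ = 1) (hτ : orderOf τ = 5)
    (hc : σ * τ * σ⁻¹ = τ⁻¹) : ∃ a, σ a = a := by
  by_contra hne
  push Not at hne
  obtain ⟨k, hk⟩ := even_of_fpf hσ τ.support
    (fun a ha => by simpa using mem_of_conj hc ha) (fun a _ => hne a)
  rw [card_support_five hτ] at hk
  omega

end CfsgLib.McLThreeLocal.PermEight
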