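import Cfsg.Agent.Lib.McLThreeLocal.SplitJ
import Cfsg.Agent.Lib.McLThreeLocal.PermEight

/-!
The centraliser of `t` as a double cover of the symmetric group of degree eight: lifts.
-/

set_option autoImplicit false
set_option linter.unusedSectionVars false
set_option linter.style.haveILetI false

namespace CfsgLib.McLThreeLocal.CoverEight

open Subgroup Equiv

variable {X : Type*} [Group X] [Finite X] {τ : X} (φ : X →* Perm (Fin 8))
  (hφ : Function.Surjective φ) (hker : φ.ker = zpowers τ) (hτ : orderOf τ = 2)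
  (hcen : ∀ p : X, p * τ = τ * p)

include hker hτ

theorem sq_one : τ * τ = 1 := by
  have h := pow_orderOf_eq_one τ
  rwa [hτ, pow_two] at h

theorem eq_or {p q : X} (h : φ p = φ q) : q = p ∨ q = p * τ := by
  have h1 : p⁻¹ * q ∈ zpowers τ := by
    rw [← hker, MonoidHom.mem_ker, map_mul, map_inv, h, inv_mul_cancel]
  classical
  rw [(isOfFinOrder_of_finite τ).mem_zpowers_iff_mem_range_orderOf, hτ] at h1
  obtain ⟨i, hi, e⟩ := Finset.mem_image.1 h1
  rw [Finset.mem_range] at hi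
  rcases (show i = 0 ∨ i = 1 by omega) with rfl | rfl
  · exact Or.inl (by rw [show q = p * (p⁻¹ * q) by group, ← e, pow_zero, mul_one])
  · exact Or.inr (by rw [show q = p * (p⁻¹ * q) by group, ← e, pow_one])

theorem map_tau : φ τ = 1 := MonoidHom.mem_ker.1 (hker ▸ mem_zpowers τ)

theorem eq_one_or {p : X} (h : φ p = 1) : p = 1 ∨ p = τ := by
  rcases eq_or φ hker hτ (p := 1) (q := p) (by rw [map_one, h]) with h | h
  · exact Or.inl h
  · exact Or.inr (by rwa [one_mul] at h)

theorem ne_one_of_cube {p : X} (h3 : orderOf p = 3) : φ p ≠ 1 := by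
  intro h
  rcases eq_one_or φ hker hτ h with rfl | rfl <;> simp_all

include hcen

theorem eq_of_cube {p q : X} (hp : p ^ 3 = 1) (hq : q ^ 3 = 1) (h : φ p = φ q) : q = p := by
  rcases eq_or φ hker hτ h with h | rfl
  · exact h
  · exfalso
    rw [Commute.mul_pow (hcen p), hp, one_mul] at hq
    have := orderOf_dvd_of_pow_eq_one hq
    rw [hτ] at this
    omega

theorem commute_of_cube {p x : X} (hx : x ^ 3 = 1) (h : Commute (φ p) (φ x)) : p * x = x * p := by
  have h1 : φ (p * x * p⁻¹) = φ x := by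
    rw [map_mul, map_mul, map_inv, h.eq, mul_inv_cancel_right]
  have h2 := eq_of_cube φ hker hτ hcen (p := x) (q := p * x * p⁻¹) hx
    (by rw [conj_pow, hx, mul_one, mul_inv_cancel]) h1.symm
  exact mul_inv_eq_iff_eq_mul.1 h2

include hφ

theorem exists_lift_cube (π : Perm (Fin 8)) (h : π ^ 3 = 1) : ∃ x, φ x = π ∧ x ^ 3 = 1 := by
  obtain ⟨y, rfl⟩ := hφ π
  have hy6 : y ^ 6 = 1 := by
    rcases eq_one_or φ hker hτ (p := y ^ 3) (by rw [map_pow, h]) with e | e
    · rw [show (6 : ℕ) = 3 * 2 from rfl, pow_mul, e, one_pow]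
    · rw [show (6 : ℕ) = 3 * 2 from rfl, pow_mul, e, pow_two, sq_one φ hker hτ]
  refine ⟨y ^ 4, ?_, by rw [← pow_mul, show 4 * 3 = 6 * 2 from rfl, pow_mul, hy6, one_pow]⟩
  rw [map_pow, show (4 : ℕ) = 3 + 1 from rfl, pow_add, h, one_mul, pow_one]

/-- Lifts of conjugate involutions have the same square. -/
theorem sq_eq_of_conj {p q : X} (hp : φ p * φ p = 1)
    (h : ∃ π : Perm (Fin 8), π * φ p * π⁻¹ = φ q) : q * q = p * p := by
  obtain ⟨π, hπ⟩ := h
  obtain ⟨y, rfl⟩ := hφ π
  have hpp : p * p = 1 ∨ p * p = τ := eq_one_or φ hker hτ (by rw [map_mul, hp])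
  have hc : y * (p * p) * y⁻¹ = p * p := by
    rcases hpp with e | e
    · rw [e]; simp
    · rw [e, hcen, mul_inv_cancel_right]
  rcases eq_or φ hker hτ (p := y * p * y⁻¹) (q := q) (by rw [map_mul, map_mul, map_inv, hπ]) with
    e | e
  · rw [e, conj_mul, hc]
  · rw [e, mul_assoc (y * p * y⁻¹), ← mul_assoc τ, ← hcen, mul_assoc (y * p * y⁻¹),
      sq_one φ hker hτ, mul_one, conj_mul, hc]

variable {k : X} (hk2 : k * k = τ) (hk : φ k * φ k = 1) (hk4 : (φ k).support.card = 4)
include hk2 hk hk4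

theorem sq_eq_tau {p : X} (hp : φ p * φ p = 1) (h4 : (φ p).support.card = 4) : p * p = τ := by
  rw [sq_eq_of_conj φ hφ hker hτ hcen hk (PermEight.isConj_of_card hk hp (by rw [hk4, h4])), hk2]

/-- A lift of a fixed point free involution is conjugate to its product with `τ`. -/
theorem exists_conj_mul_tau {u : X} (hu : φ u * φ u = 1) (h8 : (φ u).support.card = 8) :
    ∃ g, g * u * g⁻¹ = u * τ := by
  obtain ⟨a, ha⟩ := hφ (swap 0 1 * swap 2 3)
  obtain ⟨g, hg⟩ := hφ (swap 0 2 * swap 1 3)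
  have h1 : g * a * g⁻¹ = a * τ := by
    have hga : φ (g * a * g⁻¹) = φ a := by
      rw [map_mul, map_mul, map_inv, ha, hg]; decide +kernel
    rcases eq_or φ hker hτ hga.symm with e | e
    · exfalso
      have hsq : ∀ p, φ p = swap 0 1 * swap 2 3 ∨ φ p = swap 0 2 * swap 1 3 ∨
          φ p = swap 0 3 * swap 1 2 → p * p = τ := fun p hp =>
        sq_eq_tau φ hφ hker hτ hcen hk2 hk hk4
          (by rcases hp with e | e | e <;> rw [e] <;> decide +kernel)
          (by rcases hp with e | e | e <;> rw [e] <;> decide +kernel)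
      have e1 : g * a = a * g := mul_inv_eq_iff_eq_mul.1 e
      have h3 := hsq (g * a) (Or.inr (Or.inr (by rw [map_mul, hg, ha]; decide +kernel)))
      have h4 : g * a * (g * a) = 1 := by
        calc g * a * (g * a) = g * (a * g) * a := by group
          _ = (g * g) * (a * a) := by rw [← e1]; group
          _ = 1 := by rw [hsq g (Or.inr (Or.inl hg)), hsq a (Or.inl ha), sq_one φ hker hτ]
      rw [h3] at h4
      rw [h4, orderOf_one] at hτ
      omega
    · exact e
  obtain ⟨x, hx, hx3⟩ := exists_lift_cube φ hφ hker hτ hcen (swap 4 5 * swap 5 6)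
    (by decide +kernel)
  obtain ⟨y, hy, hy3⟩ := exists_lift_cube φ hφ hker hτ hcen (swap 5 6 * swap 6 7)
    (by decide +kernel)
  have hcx := commute_of_cube φ hker hτ hcen (p := g) hx3 (by
    rw [hg, hx]; show _ = _; decide +kernel)
  have hcy := commute_of_cube φ hker hτ hcen (p := g) hy3 (by
    rw [hg, hy]; show _ = _; decide +kernel)
  set b := x * y
  have hu0 : φ (a * b) * φ (a * b) = 1 ∧ (φ (a * b)).support.card = 8 := by
    simp only [b, map_mul, ha, hx, hy]; decide +kernel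
  obtain ⟨π, hπ⟩ := PermEight.isConj_of_card hu0.1 hu (by rw [hu0.2, h8])
  obtain ⟨p, rfl⟩ := hφ π
  have hb : g * b * g⁻¹ = b := by
    show g * (x * y) * g⁻¹ = x * y
    rw [← mul_assoc g, hcx, mul_assoc x, hcy, ← mul_assoc x, mul_inv_cancel_right]
  have h0 : g * (a * b) * g⁻¹ = a * b * τ := by
    rw [← conj_mul, h1, hb, mul_assoc, ← hcen, ← mul_assoc]
  refine ⟨p * g * p⁻¹, ?_⟩
  rcases eq_or φ hker hτ (p := p * (a * b) * p⁻¹) (q := u)
    (by rw [map_mul, map_mul, map_inv, hπ]) with rfl | rfl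
  · calc p * g * p⁻¹ * (p * (a * b) * p⁻¹) * (p * g * p⁻¹)⁻¹ = p * (g * (a * b) * g⁻¹) * p⁻¹ := by
          group
      _ = p * (a * b) * (τ * p⁻¹) := by rw [h0]; group
      _ = p * (a * b) * p⁻¹ * τ := by rw [← hcen]; group
  · calc p * g * p⁻¹ * (p * (a * b) * p⁻¹ * τ) * (p * g * p⁻¹)⁻¹
          = p * (g * (a * b) * g⁻¹) * p⁻¹ * ((p * g * p⁻¹) * τ * (p * g * p⁻¹)⁻¹) := by group
      _ = p * (a * b) * (τ * p⁻¹) * ((p * g * p⁻¹) * τ * (p * g * p⁻¹)⁻¹) := by rw [h0]; group
      _ = p * (a * b) * p⁻¹ * τ * τ := by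
          rw [hcen (p * g * p⁻¹), mul_inv_cancel_right, ← hcen]; group

end CfsgLib.McLThreeLocal.CoverEight
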