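import Cfsg.Agent.Lib.McLThreeLocal.TransferAux
import Cfsg.Agent.Lib.McLThreeLocal.CoverEight
import Cfsg.Agent.S0111

/-!
In the large case the group has a normal subgroup of index two.
-/

set_option autoImplicit false
set_option linter.unusedSectionVars false
set_option linter.style.haveILetI false
set_option maxHeartbeats 1000000

namespace CfsgLib.McLThreeLocal

open Subgroup Equiv
open scoped Pointwise

universe u

theorem odd_mem_of_index_two {G : Type u} [Group G] {N : Subgroup G} (hN : N.index = 2) {g : G}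
    {k : ℕ} (hg : orderOf g = 3 ^ k) : g ∈ N := by
  obtain ⟨m, hm⟩ : Odd (orderOf g) := hg ▸ Odd.pow (by decide)
  have h1 : g ^ (2 * (m + 1)) = g := by
    rw [show 2 * (m + 1) = orderOf g + 1 by omega, pow_add, pow_orderOf_eq_one, one_mul, pow_one]
  rw [← h1, pow_mul]
  exact pow_mem (sq_mem_of_index_two hN g) _

theorem fact_five : Fact (Nat.Prime 5) := ⟨by norm_num⟩

attribute [local instance] fact_five

theorem units_hom_eq_one (ψ : Matrix.SpecialLinearGroup (Fin 2) (ZMod 5) →* ℤˣ)
    (x : Matrix.SpecialLinearGroup (Fin 2) (ZMod 5)) : ψ x = 1 := by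
  have hperf : commutator (Matrix.SpecialLinearGroup (Fin 2) (ZMod 5)) = ⊤ :=
    Matrix.SL2.commutator_eq_top (a := (2 : ZMod 5)) (by decide) (by decide)
  exact MonoidHom.mem_ker.1 (Abelianization.commutator_subset_ker ψ (hperf ▸ mem_top _))

theorem index_two_core {G : Type u} [Group G] [Finite G] (f : Frame G) (X : Subgroup G)
    (hX : X = centralizer ({f.t} : Set G))
    (hb : Nat.card ↥(centralizer ({f.z} : Set G) ⊓ X) = 720)
    (φ : ↥X →* Perm (Fin 8)) (hφ : Function.Surjective φ)
    (hker : φ.ker = (zpowers f.t).subgroupOf X) :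
    ∃ G0 : Subgroup G, G0.Normal ∧ G0.index = 2 ∧ f.M ≤ G0 ∧ f.L ≤ G0 ∧
      Nat.card ↥(centralizer ({f.z} : Set G) ⊓ G0) = 243 * 120 := by
  classical
  haveI : Fact (Nat.Prime 2) := ⟨Nat.prime_two⟩
  haveI : Fact (Nat.Prime 3) := ⟨Nat.prime_three⟩
  haveI : Fact (Nat.Prime 5) := ⟨by norm_num⟩
  have mX : ∀ {g : G}, g * f.t = f.t * g → g ∈ X := fun h => by
    rw [hX]; exact mem_centralizer_singleton_iff.2 h
  have xc : ∀ p : ↥X, (p : G) * f.t = f.t * p := fun p =>
    mem_centralizer_singleton_iff.1 (hX.le p.2)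
  let τ : ↥X := ⟨f.t, mX rfl⟩
  let z : ↥X := ⟨f.z, mX f.tz.symm⟩
  let w : ↥X := ⟨f.w, mX f.wt⟩
  let k : ↥X := ⟨f.k, mX f.kt⟩
  let j : ↥X := ⟨f.j, mX f.jt⟩
  have hτ : orderOf τ = 2 := by rw [orderOf_mk, f.t_order]
  have hcen : ∀ p : ↥X, p * τ = τ * p := fun p =>
    Subtype.ext (xc p)
  have hker' : φ.ker = zpowers τ := by
    rw [hker]
    ext x
    rw [mem_subgroupOf, mem_zpowers_iff, mem_zpowers_iff]
    refine ⟨fun ⟨i, e⟩ => ⟨i, Subtype.ext (by rw [SubgroupClass.coe_zpow]; exact e)⟩, ?_⟩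
    rintro ⟨i, rfl⟩
    exact ⟨i, (SubgroupClass.coe_zpow τ i).symm⟩
  have φτ : φ τ = 1 := CoverEight.map_tau φ hker' hτ
  have hz3 : orderOf z = 3 := by rw [orderOf_mk, f.z_order]
  have hw3 : orderOf w = 3 := by rw [orderOf_mk, f.w_order]
  have zc : z ^ 3 = 1 := hz3 ▸ pow_orderOf_eq_one z
  have wc : w ^ 3 = 1 := hw3 ▸ pow_orderOf_eq_one w
  have ozφ : orderOf (φ z) = 3 :=
    orderOf_eq_prime (by rw [← map_pow, zc, map_one]) (CoverEight.ne_one_of_cube φ hker' hτ hz3)
  -- `φ z` and `φ w` are disjoint three cycles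
  have hz : (φ z).support.card = 3 := by
    obtain ⟨x, hx⟩ := exists_prime_orderOf_dvd_card' (G := ↥(centralizer ({f.z} : Set G) ⊓ X)) 5
      (by rw [hb]; norm_num)
    let x' : ↥X := ⟨x, x.2.2⟩
    have hx' : orderOf x' = 5 := by rw [orderOf_mk, orderOf_coe, hx]
    have hc : Commute z x' := Subtype.ext (mem_centralizer_singleton_iff.1 x.2.1).symm
    refine PermEight.card_support_three ozφ ?_ (hc.map φ)
    refine orderOf_eq_prime (by rw [← map_pow, ← hx', pow_orderOf_eq_one, map_one]) fun e => ?_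
    rcases CoverEight.eq_one_or φ hker' hτ e with e | e <;> rw [e] at hx'
    · simp at hx'
    · omega
  have hjz : j * z * j⁻¹ = w := Subtype.ext f.j_z
  have hjw : j * w * j⁻¹ = z := Subtype.ext f.j_w
  have ιz : φ j * φ z * (φ j)⁻¹ = φ w := by rw [← map_inv, ← map_mul, ← map_mul, hjz]
  have ιw : φ j * φ w * (φ j)⁻¹ = φ z := by rw [← map_inv, ← map_mul, ← map_mul, hjw]
  have hw : (φ w).support.card = 3 := by rw [← ιz, Perm.support_conj, Finset.card_map, hz]
  have hzw : Commute (φ z) (φ w) := Commute.map (Subtype.ext f.zw_comm : Commute z w) φ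
  have hdisj : _root_.Disjoint (φ z).support (φ w).support := by
    refine PermEight.disjoint_of_commute hzw hz hw fun i e => ?_
    rw [← map_pow] at e
    have e' := CoverEight.eq_of_cube φ hker' hτ hcen (by rw [← pow_mul, mul_comm, pow_mul, zc,
      one_pow]) wc e.symm
    have hD : closure ({f.z, f.w} : Set G) ≤ zpowers f.z := by
      rw [closure_le, Set.insert_subset_iff, Set.singleton_subset_iff]
      refine ⟨mem_zpowers _, ?_⟩
      rw [SetLike.mem_coe, show f.w = f.z ^ i from congrArg Subtype.val e']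
      exact pow_mem (mem_zpowers f.z) i
    have := card_le_of_le hD
    rw [f.D_card, Nat.card_zpowers, f.z_order] at this
    omega
  obtain ⟨p, q, hpq, hcompl⟩ : ∃ p q, p ≠ q ∧
      (Finset.univ \ ((φ z).support ∪ (φ w).support)) = {p, q} := by
    rw [← Finset.card_eq_two, Finset.card_sdiff, Finset.inter_univ,
      Finset.card_union_of_disjoint hdisj, hz, hw, Finset.card_univ, Fintype.card_fin]
  have hrest : ∀ a, a ∉ (φ z).support → a ∉ (φ w).support → a = p ∨ a = q := fun a h1 h2 => by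
    have : a ∈ ({p, q} : Finset (Fin 8)) := hcompl ▸ by simp [h1, h2]
    simpa using this
  have hp : p ∉ (φ z).support ∧ p ∉ (φ w).support := by
    have : p ∈ (Finset.univ \ ((φ z).support ∪ (φ w).support)) := by rw [hcompl]; simp
    simpa [not_or] using this
  have hq : q ∉ (φ z).support ∧ q ∉ (φ w).support := by
    have : q ∈ (Finset.univ \ ((φ z).support ∪ (φ w).support)) := by rw [hcompl]; simp
    simpa [not_or] using this
  -- the image of `k`
  have k2 : k * k = τ := Subtype.ext f.k_sq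
  have κ2 : φ k * φ k = 1 := by rw [← map_mul, k2, φτ]
  have κz : Commute (φ k) (φ z) :=
    Commute.map (Subtype.ext (f.K_z _ f.k_mem_K) : Commute k z) φ
  have κw : φ k * φ w * (φ k)⁻¹ = (φ w)⁻¹ := by
    rw [← map_inv, ← map_inv, ← map_mul, ← map_mul]
    exact congrArg φ (Subtype.ext f.k_w)
  have κsign : Perm.sign (φ k) = 1 := by
    let i : ↥f.K →* ↥X :=
      { toFun := fun g => ⟨g, mX (f.K_t g g.2)⟩, map_one' := rfl, map_mul' := fun _ _ => rfl }
    let ψ : Matrix.SpecialLinearGroup (Fin 2) (ZMod 5) →* ℤˣ :=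
      Perm.sign.comp (φ.comp (i.comp f.eK.symm.toMonoidHom))
    have h : ψ (f.eK ⟨f.k, f.k_mem_K⟩) = 1 := units_hom_eq_one ψ _
    simpa [ψ, i, k] using h
  have κfix := PermEight.fix_of_commute κ2 κz hz
  have κW := PermEight.moves_of_invert κ2 κw hw
  have κcard : (φ k).support.card = 4 ∧ p ∈ (φ k).support ∧ q ∈ (φ k).support := by
    obtain ⟨n, -, hn, hs⟩ := PermEight.cycleType_inv_two κ2
    rw [κsign] at hs
    have hsub : (φ k).support ⊆ ((φ k).support ∩ (φ w).support) ∪
        ((φ k).support ∩ {p, q}) := fun a ha => by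
      rcases em (a ∈ (φ w).support) with h | h
      · simp [ha, h]
      · rcases hrest a (fun h' => Perm.mem_support.1 ha (κfix a h')) h with rfl | rfl <;> simp [ha]
    have h1 := (Finset.card_le_card hsub).trans (Finset.card_union_le _ _)
    have h2 : ((φ k).support ∩ {p, q}).card ≤ 2 :=
      (Finset.card_le_card Finset.inter_subset_right).trans Finset.card_le_two
    have h3 : 2 ≤ (φ k).support.card := κW ▸ Finset.card_le_card Finset.inter_subset_left
    have hn2 : n = 2 := by
      rcases (show n = 1 ∨ n = 2 by omega) with rfl | rfl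
      · exact absurd hs (by decide)
      · rfl
    have h4 : ({p, q} : Finset (Fin 8)) ⊆ (φ k).support := by
      have : (φ k).support ∩ {p, q} = {p, q} := Finset.eq_of_subset_of_card_le
        Finset.inter_subset_right (by rw [Finset.card_pair hpq]; omega)
      exact this ▸ Finset.inter_subset_left
    exact ⟨by omega, h4 (by simp), h4 (by simp)⟩
  have κp : φ k p = q := by
    refine (hrest (φ k p) (fun h => ?_) (fun h => ?_)).resolve_left (Perm.mem_support.1 κcard.2.1)
    · have h' := κfix _ h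
      rw [← Perm.mul_apply, κ2, Perm.one_apply] at h'
      exact Perm.mem_support.1 κcard.2.1 h'.symm
    · have h' := PermEight.mem_of_conj κw h
      rw [← Perm.mul_apply, κ2, Perm.one_apply, Perm.support_inv] at h'
      exact hp.2 h'
  have κq : φ k q = p := by rw [← κp, ← Perm.mul_apply, κ2, Perm.one_apply]
  -- the lift `c` of the transposition
  set s : Perm (Fin 8) := swap p q with hs
  have scomm : ∀ π : Perm (Fin 8), (π p = p ∧ π q = q ∨ π p = q ∧ π q = p) → Commute s π := by
    intro π h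
    refine (mul_inv_eq_iff_eq_mul.1 ?_ : π * s = s * π).symm
    rw [hs, ← Equiv.swap_apply_apply]
    rcases h with ⟨h1, h2⟩ | ⟨h1, h2⟩ <;> rw [h1, h2]
    exact swap_comm _ _
  have ssupp : s.support = {p, q} := Perm.support_swap hpq
  have s2 : s * s = 1 := swap_mul_self p q
  obtain ⟨c, hc⟩ := hφ s
  have cz : c * z = z * c := CoverEight.commute_of_cube φ hker' hτ hcen zc
    (by rw [hc]; exact scomm _ (Or.inl ⟨Perm.notMem_support.1 hp.1, Perm.notMem_support.1 hq.1⟩))
  have cw : c * w = w * c := CoverEight.commute_of_cube φ hker' hτ hcen wc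
    (by rw [hc]; exact scomm _ (Or.inl ⟨Perm.notMem_support.1 hp.2, Perm.notMem_support.1 hq.2⟩))
  have cz' : (c : G) * f.z = f.z * c := congrArg Subtype.val cz
  have cw' : (c : G) * f.w = f.w * c := congrArg Subtype.val cw
  have cJ : (c : G) ∈ normalizer (f.J : Set G) := f.centY (f.z * f.w) (Or.inl rfl)
    (mem_centralizer_singleton_iff.2 (by rw [← mul_assoc, cz', mul_assoc, cw', mul_assoc]))
  -- `c` and `k` anticommute
  have sκ : Commute s (φ k) := scomm _ (Or.inr ⟨κp, κq⟩)
  have sκ2 : s * φ k * (s * φ k) = 1 := by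
    rw [mul_assoc, ← mul_assoc (φ k), ← sκ.eq, mul_assoc s (φ k), κ2, mul_one, s2]
  have sκcard : (s * φ k).support.card = 2 := by
    obtain ⟨n, -, hn, hsn⟩ := PermEight.cycleType_inv_two sκ2
    rw [map_mul, κsign, hs, Perm.sign_swap hpq, mul_one] at hsn
    have hsub : (s * φ k).support ⊆ (φ w).support := fun a ha => by
      by_contra hw'
      rw [Perm.mem_support, Perm.mul_apply] at ha
      by_cases hz' : a ∈ (φ z).support
      · apply ha
        rw [κfix a hz']
        exact swap_apply_of_ne_of_ne (fun e => hp.1 (e ▸ hz')) (fun e => hq.1 (e ▸ hz'))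
      · rcases hrest a hz' hw' with rfl | rfl
        · exact ha (by rw [κp, hs, swap_apply_right])
        · exact ha (by rw [κq, hs, swap_apply_left])
    have := Finset.card_le_card hsub
    rcases (show n = 0 ∨ n = 1 by omega) with rfl | rfl
    · exact absurd hsn (by decide)
    · omega
  have ck : c * k * c⁻¹ = k * τ := by
    rcases CoverEight.eq_or φ hker' hτ (p := k) (q := c * k * c⁻¹)
      (by rw [map_mul, map_mul, map_inv, hc, sκ.eq, mul_inv_cancel_right]) with e | e
    · exfalso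
      have e1 : c * k = k * c := mul_inv_eq_iff_eq_mul.1 e
      have h := CoverEight.sq_eq_of_conj φ hφ hker' hτ hcen (p := c) (q := c * k)
        (by rw [hc, s2]) (by
          rw [map_mul, hc]
          exact PermEight.isConj_of_card s2 sκ2 (by rw [sκcard, ssupp, Finset.card_pair hpq]))
      have h' : c * c * (k * k) = c * c := by
        conv_rhs => rw [← h]
        calc c * c * (k * k) = c * (c * k) * k := by group
          _ = c * (k * c) * k := by rw [e1]
          _ = _ := by group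
      rw [k2, mul_eq_left] at h'
      rw [h', orderOf_one] at hτ
      omega
    · exact e
  have ck' : (c : G) * f.k * (c : G)⁻¹ = f.k * f.t := congrArg Subtype.val ck
  -- `j` fixes the pair and so `c`
  have ιdis : ∀ a ∈ (φ z).support, φ j a ∈ (φ w).support := fun a ha => PermEight.mem_of_conj ιz ha
  have ιdis' : ∀ a ∈ (φ w).support, φ j a ∈ (φ z).support := fun a ha => PermEight.mem_of_conj ιw ha
  have ι2 : φ j * φ j = 1 := by
    rw [← map_mul, show j * j = 1 from Subtype.ext f.j_sq, map_one]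
  have ιpq : ∀ a, a = p ∨ a = q → φ j a = p ∨ φ j a = q := by
    intro a ha
    refine hrest _ (fun h => ?_) (fun h => ?_)
    · have h' := ιdis _ h
      rw [← Perm.mul_apply, ι2, Perm.one_apply] at h'
      rcases ha with rfl | rfl
      · exact hp.2 h'
      · exact hq.2 h'
    · have h' := ιdis' _ h
      rw [← Perm.mul_apply, ι2, Perm.one_apply] at h'
      rcases ha with rfl | rfl
      · exact hp.1 h'
      · exact hq.1 h'
  have sι : Commute s (φ j) := scomm _ (by
    rcases ιpq p (Or.inl rfl) with h1 | h1 <;> rcases ιpq q (Or.inr rfl) with h2 | h2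
    · exact absurd ((φ j).injective (h1.trans h2.symm)) hpq
    · exact Or.inl ⟨h1, h2⟩
    · exact Or.inr ⟨h1, h2⟩
    · exact absurd ((φ j).injective (h1.trans h2.symm)) hpq)
  have ck'' : (c : G) * f.k' * (c : G)⁻¹ = f.k' * f.t := by
    have hjc : f.j * (c : G) * f.j⁻¹ = c ∨ f.j * (c : G) * f.j⁻¹ = c * f.t := by
      rcases CoverEight.eq_or φ hker' hτ (p := c) (q := j * c * j⁻¹)
        (by rw [map_mul, map_mul, map_inv, hc, ← sι.eq, mul_inv_cancel_right]) with e | e
      · exact Or.inl (congrArg Subtype.val e)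
      · exact Or.inr (congrArg Subtype.val e)
    have h1 : f.j * (c : G) * f.j⁻¹ * f.k' * (f.j * (c : G) * f.j⁻¹)⁻¹ = f.k' * f.t := by
      calc _ = f.j * ((c : G) * f.k * (c : G)⁻¹) * f.j⁻¹ := by rw [Frame.k']; group
        _ = f.k' * (f.j * f.t * f.j⁻¹) := by rw [ck', Frame.k']; group
        _ = _ := by rw [f.jt, mul_inv_cancel_right]
    rcases hjc with e | e <;> rw [e] at h1
    · exact h1
    · rw [show (c : G) * f.t * f.k' * ((c : G) * f.t)⁻¹ = c * (f.t * f.k' * f.t⁻¹) * (c : G)⁻¹ by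
        group, ← f.k'_t, mul_inv_cancel_right] at h1
      exact h1
  -- the element inverting `J`
  set h : G := c * (f.k * f.k')
  have hk'N : f.k' ∈ normalizer (f.J : Set G) :=
    mul_mem (mul_mem (SplitJ.M_le_normJ f f.j_mem_M) f.k_normJ)
      (inv_mem (SplitJ.M_le_normJ f f.j_mem_M))
  have hhN : h ∈ normalizer (f.J : Set G) := mul_mem cJ (mul_mem f.k_normJ hk'N)
  have ct : (c : G) * f.t = f.t * c := congrArg Subtype.val (hcen c)
  have hht : h * f.t = f.t * h := ((Commute.mul_left (show Commute (c : G) f.t from ct)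
    (Commute.mul_left (show Commute f.k f.t from f.kt) (show Commute f.k' f.t from f.k'_t))) :
      Commute h f.t).eq
  have tk' : f.t * f.k' * f.t⁻¹ = f.k' := by rw [← f.k'_t, mul_inv_cancel_right]
  have tinv := SplitJ.tinv f
  have tt := SplitJ.tt f
  have hhk : h * f.k = f.k * h := by
    have e : f.k' * f.k * f.k'⁻¹ = f.k * f.t := by
      have := f.comm_kk
      calc f.k' * f.k * f.k'⁻¹ = (f.k' * f.k * f.t) * f.t⁻¹ * f.k'⁻¹ := by group
        _ = f.k * (f.k' * f.t⁻¹ * f.k'⁻¹) := by
            rw [show f.k' * f.k * f.t = f.k * f.k' from this.symm]; group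
        _ = _ := by rw [tinv, f.k'_t, mul_inv_cancel_right]
    refine mul_inv_eq_iff_eq_mul.1 ?_
    calc h * f.k * h⁻¹ = c * (f.k * (f.k' * f.k * f.k'⁻¹) * f.k⁻¹) * (c : G)⁻¹ := by
          simp only [h]; group
      _ = c * f.k * ((f.k * f.t) * f.k⁻¹) * (c : G)⁻¹ := by rw [e]; group
      _ = c * f.k * f.t * (c : G)⁻¹ := by rw [f.kt, mul_inv_cancel_right]
      _ = (c * f.k * (c : G)⁻¹) * ((c : G) * f.t * (c : G)⁻¹) := by group
      _ = f.k := by rw [ck', ct, mul_inv_cancel_right, mul_assoc, tt, mul_one]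
  have hhk' : h * f.k' = f.k' * h := by
    have e : f.k * f.k' * f.k⁻¹ = f.k' * f.t := by
      have := f.comm_kk
      calc f.k * f.k' * f.k⁻¹ = (f.k' * f.k * f.t) * f.k⁻¹ := by
            rw [show f.k' * f.k * f.t = f.k * f.k' from this.symm]
        _ = f.k' * (f.k * f.t * f.k⁻¹) := by group
        _ = _ := by rw [f.kt, mul_inv_cancel_right]
    refine mul_inv_eq_iff_eq_mul.1 ?_
    calc h * f.k' * h⁻¹ = c * (f.k * f.k' * f.k⁻¹) * (c : G)⁻¹ := by simp only [h]; group
      _ = (c * f.k' * (c : G)⁻¹) * ((c : G) * f.t * (c : G)⁻¹) := by rw [e]; group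
      _ = f.k' := by rw [ck'', ct, mul_inv_cancel_right, mul_assoc, tt, mul_one]
  have hhz : h * f.z * h⁻¹ = f.z⁻¹ := by
    calc h * f.z * h⁻¹ = c * (f.k * f.k' * f.z * (f.k * f.k')⁻¹) * (c : G)⁻¹ := by
          simp only [h]; group
      _ = ((c : G) * f.z * (c : G)⁻¹)⁻¹ := by rw [f.kk_inv_z]; group
      _ = _ := by rw [cz', mul_inv_cancel_right]
  have hhw : h * f.w * h⁻¹ = f.w⁻¹ := by
    calc h * f.w * h⁻¹ = c * (f.k * f.k' * f.w * (f.k * f.k')⁻¹) * (c : G)⁻¹ := by
          simp only [h]; group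
      _ = ((c : G) * f.w * (c : G)⁻¹)⁻¹ := by rw [f.kk_inv_w]; group
      _ = _ := by rw [cw', mul_inv_cancel_right]
  have tz' : f.t * f.z * f.t⁻¹ = f.z := by rw [f.tz, mul_inv_cancel_right]
  have tw' : f.t * f.w * f.t⁻¹ = f.w := by rw [← f.wt, mul_inv_cancel_right]
  obtain ⟨e, he, hed, het⟩ : ∃ e : G, (∀ a ∈ f.J, e * a * e⁻¹ = a⁻¹) ∧
      (e = h ∨ e = h * f.t) ∧ e * f.t = f.t * e := by
    rcases SplitJ.scalar_W f hhN hht hhk hhk' with H | H
    · refine ⟨h * f.t, SplitJ.invert_J f (mul_mem hhN (SplitJ.t_normJ f)) ?_ ?_ ?_, Or.inr rfl,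
        (Commute.mul_left hht (Commute.refl f.t)).eq⟩
      · calc h * f.t * f.z * (h * f.t)⁻¹ = h * (f.t * f.z * f.t⁻¹) * h⁻¹ := by group
          _ = _ := by rw [tz', hhz]
      · calc h * f.t * f.w * (h * f.t)⁻¹ = h * (f.t * f.w * f.t⁻¹) * h⁻¹ := by group
          _ = _ := by rw [tw', hhw]
      · intro a ha hat
        calc h * f.t * a * (h * f.t)⁻¹ = h * (f.t * a * f.t⁻¹) * h⁻¹ := by group
          _ = (h * a * h⁻¹)⁻¹ := by rw [hat]; group
          _ = a⁻¹ := by rw [H a ha hat]
    · exact ⟨h, SplitJ.invert_J f hhN hhz hhw H, Or.inl rfl, hht⟩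
  have heX : e ∈ X := mX het
  have hz0 : f.z ≠ 1 := fun e' => by
    have := f.z_order
    rw [e', orderOf_one] at this
    omega
  have zz : f.z⁻¹ ≠ f.z := fun e' => by
    have := orderOf_dvd_of_pow_eq_one (show f.z ^ 2 = 1 by
      rw [pow_two]; nth_rewrite 1 [← e']; exact inv_mul_cancel _)
    rw [f.z_order] at this
    omega
  have ee : e * e = 1 := by
    have hd : e * e ∈ f.J := by
      rw [← f.centJ]
      refine mem_centralizer_iff.2 fun a ha => ?_
      symm
      refine mul_inv_eq_iff_eq_mul.1 ?_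
      calc e * e * a * (e * e)⁻¹ = e * (e * a * e⁻¹) * e⁻¹ := by group
        _ = a := by rw [he a ha, ← conj_inv, he a ha, inv_inv]
    have h1 := he _ hd
    rw [show e * (e * e) * e⁻¹ = e * e by group] at h1
    have h3 := f.hJexp _ hd
    rwa [pow_succ, pow_two, show e * e * (e * e) = 1 by nth_rewrite 2 [h1]; exact mul_inv_cancel _,
      one_mul] at h3
  have e1 : e ≠ 1 := fun h' => by
    have := he _ (SplitJ.z_mem_J f)
    rw [h', one_mul, inv_one, mul_one] at this
    exact zz this.symm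
  let e' : ↥X := ⟨e, heX⟩
  have ε2 : φ e' * φ e' = 1 := by
    rw [← map_mul, show e' * e' = 1 from Subtype.ext ee, map_one]
  have εz : φ e' * φ z * (φ e')⁻¹ = (φ z)⁻¹ := by
    rw [← map_inv, ← map_inv, ← map_mul, ← map_mul]
    exact congrArg φ (Subtype.ext (he _ (SplitJ.z_mem_J f)))
  have εw : φ e' * φ w * (φ e')⁻¹ = (φ w)⁻¹ := by
    rw [← map_inv, ← map_inv, ← map_mul, ← map_mul]
    exact congrArg φ (Subtype.ext (he _ f.w_mem_J))
  have hkfour := κcard.1
  have sqτ := fun (x : ↥X) h1 h2 =>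
    CoverEight.sq_eq_tau φ hφ hker' hτ hcen k2 κ2 hkfour (p := x) h1 h2
  have εcard : (φ e').support.card = 6 ∧ Perm.sign (φ e') = -1 := by
    obtain ⟨n, -, hn, hsn⟩ := PermEight.cycleType_inv_two ε2
    have mz := PermEight.moves_of_invert ε2 εz hz
    have mw := PermEight.moves_of_invert ε2 εw hw
    have h4 : 4 ≤ (φ e').support.card := by
      calc 4 = ((φ e').support ∩ (φ z).support ∪ (φ e').support ∩ (φ w).support).card := by
            rw [Finset.card_union_of_disjoint (hdisj.mono Finset.inter_subset_right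
              Finset.inter_subset_right), mz, mw]
        _ ≤ _ := Finset.card_le_card (Finset.union_subset Finset.inter_subset_left
            Finset.inter_subset_left)
    have h8 : (φ e').support.card ≠ 8 := fun h8 => by
      rw [Finset.eq_univ_of_card (φ e').support (by simpa using h8), Finset.univ_inter, hz] at mz
      omega
    have hne4 : (φ e').support.card ≠ 4 := fun h4' => by
      have h5 := sqτ e' ε2 h4'
      rw [show e' * e' = 1 from Subtype.ext ee] at h5
      rw [← h5, orderOf_one] at hτ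
      omega
    have hle : (φ e').support.card ≤ 8 := (Finset.card_le_univ _).trans (by simp)
    obtain rfl : n = 3 := by omega
    exact ⟨by omega, hsn.trans (by decide)⟩
  -- `e` and `e t` are not conjugate to `t`
  have not_t : ∀ g : G, g * f.t * g⁻¹ ≠ e := by
    intro g hg
    obtain ⟨x, r, hx5, hr4, hrx, hxe, hre⟩ := TransferAux.exists_five_four f he
    have memx : ∀ y : G, y * e = e * y → g⁻¹ * y * g ∈ X := fun y hy => by
      refine mX ?_
      rw [← hg] at hy
      calc g⁻¹ * y * g * f.t = g⁻¹ * (y * (g * f.t * g⁻¹)) * g := by group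
        _ = g⁻¹ * (g * f.t * g⁻¹ * y) * g := by rw [hy]
        _ = f.t * (g⁻¹ * y * g) := by group
    let x' : ↥X := ⟨g⁻¹ * x * g, memx x hxe⟩
    let r' : ↥X := ⟨g⁻¹ * r * g, memx r hre⟩
    have hr' : r' ^ 4 = 1 := Subtype.ext (by
      show (g⁻¹ * r * g) ^ 4 = 1
      rw [show g⁻¹ * r * g = g⁻¹ * r * g⁻¹⁻¹ by group, conj_pow, hr4]; group)
    have hrel : r' * r' * x' * (r' * r')⁻¹ = x'⁻¹ := Subtype.ext (by
      show g⁻¹ * r * g * (g⁻¹ * r * g) * (g⁻¹ * x * g) * (g⁻¹ * r * g * (g⁻¹ * r * g))⁻¹ =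
        (g⁻¹ * x * g)⁻¹
      calc _ = g⁻¹ * (r * r * x * (r * r)⁻¹) * g := by group
        _ = _ := by rw [hrx]; group)
    have hx'5 : orderOf x' = 5 := by
      rw [orderOf_mk, ← hx5, show g⁻¹ * x * g = MulAut.conj g⁻¹ x by simp]
      exact orderOf_injective (MulAut.conj g⁻¹).toMonoidHom (MulAut.conj g⁻¹).injective x
    have hox : orderOf (φ x') = 5 := by
      refine orderOf_eq_prime (by rw [← map_pow, ← hx'5, pow_orderOf_eq_one, map_one]) fun h' => ?_
      rcases CoverEight.eq_one_or φ hker' hτ h' with h' | h' <;> rw [h'] at hx'5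
      · simp at hx'5
      · omega
    set σ := φ (r' * r') with hσ
    have σ2 : σ * σ = 1 := by
      rw [hσ, ← map_mul, show r' * r' * (r' * r') = r' ^ 4 by simp [pow_succ, mul_assoc], hr', map_one]
    have σx : σ * φ x' * σ⁻¹ = (φ x')⁻¹ := by
      rw [hσ, ← map_inv, ← map_inv, ← map_mul, ← map_mul, hrel]
    obtain ⟨a, ha⟩ := PermEight.exists_fixed_of_invert_five σ2 hox σx
    obtain ⟨n, -, hn, hsn⟩ := PermEight.cycleType_inv_two σ2
    rw [hσ, map_mul φ r' r', map_mul, Int.units_mul_self] at hsn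
    have hne : σ ≠ 1 := fun h1 => by
      rw [h1, one_mul, inv_one, mul_one] at σx
      have := orderOf_dvd_of_pow_eq_one (show φ x' ^ 2 = 1 by
        rw [pow_two]; nth_rewrite 2 [σx]; exact mul_inv_cancel _)
      rw [hox] at this
      omega
    have hlt : σ.support.card < 8 := by
      refine (Finset.card_lt_univ_of_notMem (x := a) ?_).trans_eq (by simp)
      rw [Perm.mem_support]; simpa using ha
    have hn0 : n ≠ 0 := fun h0 => hne (Perm.card_support_eq_zero.1 (by omega))
    have h4 : σ.support.card = 4 := by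
      rcases (show n = 1 ∨ n = 2 ∨ n = 3 by omega) with rfl | rfl | rfl
      · exact absurd hsn (by decide)
      · omega
      · exact absurd hsn (by decide)
    have h5 := sqτ (r' * r') (by rw [← hσ]; exact σ2) h4
    rw [show r' * r' * (r' * r') = r' ^ 4 by simp [pow_succ, mul_assoc], hr'] at h5
    rw [← h5, orderOf_one] at hτ
    omega
  have not_t' : ∀ g : G, g * f.t * g⁻¹ ≠ e * f.t := by
    intro g hg
    let R : Subgroup G := f.J ⊓ centralizer ({e * f.t} : Set G)
    have hR : ∀ a, a ∈ R ↔ a ∈ f.J ∧ f.t * a * f.t⁻¹ = a⁻¹ := by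
      intro a
      refine and_congr_right fun ha => ?_
      show a ∈ centralizer ({e * f.t} : Set G) ↔ _
      rw [mem_centralizer_singleton_iff]
      constructor
      · intro h'
        calc f.t * a * f.t⁻¹ = e * (e * f.t * a) * f.t⁻¹ := by
              rw [← mul_assoc e (e * f.t), ← mul_assoc e e, ee, one_mul]
          _ = e * (a * (e * f.t)) * f.t⁻¹ := by rw [h']
          _ = e * a * e⁻¹ * (e * e) := by group
          _ = a⁻¹ := by rw [ee, mul_one, he a ha]
      · intro h'
        symm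
        refine mul_inv_eq_iff_eq_mul.1 ?_
        calc e * f.t * a * (e * f.t)⁻¹ = e * (f.t * a * f.t⁻¹) * e⁻¹ := by group
          _ = a := by rw [h', ← conj_inv, he a ha, inv_inv]
    have hcard := SplitJ.card_inverted f R hR
    have memR : ∀ a ∈ R, g⁻¹ * a * g ∈ X := fun a ha => by
      refine mX ?_
      have h' := mem_centralizer_singleton_iff.1 ha.2
      rw [← hg] at h'
      calc g⁻¹ * a * g * f.t = g⁻¹ * (a * (g * f.t * g⁻¹)) * g := by group
        _ = g⁻¹ * (g * f.t * g⁻¹ * a) * g := by rw [h']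
        _ = f.t * (g⁻¹ * a * g) := by group
    let R' : Subgroup ↥X := (R.map (MulAut.conj g⁻¹).toMonoidHom).subgroupOf X
    have hle : R.map (MulAut.conj g⁻¹).toMonoidHom ≤ X := by
      rintro _ ⟨a, ha, rfl⟩
      simpa [mul_assoc] using memR a ha
    have hR'card : Nat.card ↥R' = 9 := by
      rw [Nat.card_congr (subgroupOfEquivOfLe hle).toEquiv,
        card_map_of_injective (MulAut.conj g⁻¹).injective, hcard]
    obtain ⟨P, hP⟩ := (IsPGroup.of_card (n := 2) (hR'card.trans (by norm_num)) :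
      IsPGroup 3 ↥R').exists_le_sylow
    have hPeq : R' = (P : Subgroup ↥X) := by
      refine eq_of_le_of_card_ge hP ?_
      obtain ⟨n, hn⟩ := P.isPGroup'.exists_card_eq
      have hd : 3 ^ n ∣ Nat.card ↥X := hn ▸ card_subgroup_dvd_card _
      have : n ≤ 2 := by
        by_contra hlt
        exact f.D_sylow (hX ▸ (pow_dvd_pow 3 (show 3 ≤ n by omega)).trans hd)
      rw [hn, hR'card]
      exact Nat.pow_le_pow_right (by norm_num) this
    obtain ⟨P0, hP0⟩ := (IsPGroup.of_card (n := 1) (by rw [Nat.card_zpowers, hz3]; norm_num) :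
      IsPGroup 3 ↥(zpowers z)).exists_le_sylow
    obtain ⟨y, hy⟩ := MulAction.exists_smul_eq ↥X P0 P
    have hmem : y * z * y⁻¹ ∈ R' := by
      rw [hPeq, ← hy, Sylow.coe_subgroup_smul, mem_pointwise_smul_iff_inv_smul_mem]
      simpa [MulAut.smul_def, mul_assoc] using hP0 (mem_zpowers z)
    obtain ⟨a, ha, hay⟩ := mem_subgroupOf.1 hmem
    have haz : g * (y : G) * f.z * (g * (y : G))⁻¹ = a := by
      have h' : g⁻¹ * a * g = (y : G) * f.z * (y : G)⁻¹ := by simpa using hay
      calc g * (y : G) * f.z * (g * (y : G))⁻¹ = g * ((y : G) * f.z * (y : G)⁻¹) * g⁻¹ := by group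
        _ = a := by rw [← h']; group
    exact TransferAux.not_inverted f ((hR a).1 ha).1 haz ((hR a).1 ha).2
  obtain ⟨gj, hgj⟩ := TransferAux.j_conj_t f
  have ι_moves : 6 ≤ (φ j).support.card := by
    calc 6 = ((φ z).support ∪ (φ w).support).card := by
          rw [Finset.card_union_of_disjoint hdisj, hz, hw]
      _ ≤ _ := Finset.card_le_card fun a ha => by
          rw [Perm.mem_support]
          intro hfa
          rcases Finset.mem_union.1 ha with h' | h'
          · exact Finset.disjoint_left.1 hdisj h' (hfa ▸ ιdis a h')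
          · exact Finset.disjoint_left.1 hdisj (hfa ▸ ιdis' a h') h'
  have ι8 : (φ j).support.card = 8 := by
    obtain ⟨n, -, hn, -⟩ := PermEight.cycleType_inv_two ι2
    have hle : (φ j).support.card ≤ 8 := (Finset.card_le_univ _).trans (by simp)
    by_contra h8
    have h6 : (φ j).support.card = 6 := by omega
    obtain ⟨π, hπ⟩ := PermEight.isConj_of_card ι2 ε2 (by rw [h6, εcard.1])
    obtain ⟨y, rfl⟩ := hφ π
    rcases CoverEight.eq_or φ hker' hτ (p := y * j * y⁻¹) (q := e')
      (by rw [map_mul, map_mul, map_inv, hπ]) with h' | h'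
    · refine not_t ((y : G) * gj) ?_
      have e2 : e = (y : G) * f.j * (y : G)⁻¹ := congrArg Subtype.val h'
      rw [e2, ← hgj]; group
    · refine not_t' ((y : G) * gj) ?_
      have e2 : e = (y : G) * f.j * (y : G)⁻¹ * f.t := congrArg Subtype.val h'
      rw [e2, mul_assoc ((y : G) * f.j * (y : G)⁻¹), tt, mul_one, ← hgj]; group
  -- all involutions in the preimage of `A₈` other than `t` are conjugate to `t`
  have invol_even : ∀ u : ↥X, u * u = 1 → u ≠ 1 → u ≠ τ → Perm.sign (φ u) = 1 →
      ∃ g : G, g * f.t * g⁻¹ = u := by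
    intro u hu h1 h2 hsu
    have υ2 : φ u * φ u = 1 := by rw [← map_mul, hu, map_one]
    obtain ⟨n, -, hn, hsn⟩ := PermEight.cycleType_inv_two υ2
    rw [hsu] at hsn
    have hle : (φ u).support.card ≤ 8 := (Finset.card_le_univ _).trans (by simp)
    have hn0 : n ≠ 0 := fun h0 => by
      rcases CoverEight.eq_one_or φ hker' hτ (Perm.card_support_eq_zero.1 (by omega : (φ u).support.card = 0))
        with h' | h'
      · exact h1 h'
      · exact h2 h'
    have h8 : (φ u).support.card = 8 := by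
      rcases (show n = 1 ∨ n = 2 ∨ n = 3 ∨ n = 4 by omega) with rfl | rfl | rfl | rfl
      · exact absurd hsn (by decide)
      · exfalso
        have h5 := sqτ u υ2 (by omega)
        rw [hu] at h5
        rw [← h5, orderOf_one] at hτ
        omega
      · exact absurd hsn (by decide)
      · omega
    obtain ⟨π, hπ⟩ := PermEight.isConj_of_card ι2 υ2 (by rw [ι8, h8])
    obtain ⟨y, rfl⟩ := hφ π
    obtain ⟨g', hg'⟩ : ∃ g' : ↥X, g' * j * g'⁻¹ = u := by
      rcases CoverEight.eq_or φ hker' hτ (p := y * j * y⁻¹) (q := u)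
        (by rw [map_mul, map_mul, map_inv, hπ]) with h' | h'
      · exact ⟨y, h'.symm⟩
      · obtain ⟨r, hr⟩ := CoverEight.exists_conj_mul_tau φ hφ hker' hτ hcen k2 κ2 hkfour
          (u := y * j * y⁻¹) (by rw [map_mul, map_mul, map_inv, conj_mul, ι2, mul_one, mul_inv_cancel])
          (by rw [map_mul, map_mul, map_inv, Perm.support_conj, Finset.card_map, ι8])
        exact ⟨r * y, by rw [h', ← hr]; group⟩
    refine ⟨(g' : G) * gj, ?_⟩
    have e2 : (g' : G) * f.j * (g' : G)⁻¹ = u := congrArg Subtype.val hg'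
    rw [← e2, ← hgj]; group
  -- a Sylow 2-subgroup of `C(t)` containing `e` is one of `G`
  have hcardX : Nat.card ↥X = 2 * 40320 := by
    rw [← φ.ker.card_mul_index, index_ker, MonoidHom.range_eq_top.2 hφ, card_top, hker',
      Nat.card_zpowers, hτ, Nat.card_perm, Nat.card_fin]
    rfl
  obtain ⟨T, hT⟩ := (IsPGroup.of_card (n := 1) (by
      rw [Nat.card_zpowers, show orderOf e' = 2 from orderOf_eq_prime (by
        rw [pow_two]; exact Subtype.ext ee) fun h' => e1 (congrArg Subtype.val h')]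
      norm_num) : IsPGroup 2 ↥(zpowers e')).exists_le_sylow
  have heT : e' ∈ (T : Subgroup ↥X) := hT (mem_zpowers _)
  have hτT : τ ∈ (T : Subgroup ↥X) := by
    haveI : (zpowers τ).Normal := ⟨fun x hx g => by
      obtain ⟨i, rfl⟩ := mem_zpowers_iff.1 hx
      rw [((show Commute g τ from hcen g).zpow_right i).eq, mul_inv_cancel_right]
      exact zpow_mem (mem_zpowers τ) i⟩
    exact (IsPGroup.of_card (n := 1) (by rw [Nat.card_zpowers, hτ]; norm_num) :
      IsPGroup 2 ↥(zpowers τ)).le_sylow_of_normal T (mem_zpowers τ)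
  obtain ⟨P, hP⟩ := (T.isPGroup'.map X.subtype).exists_le_sylow
  have hPX : (P : Subgroup G) ≤ X := by
    by_contra hnot
    set T1 : Subgroup ↥(P : Subgroup G) := X.subgroupOf (P : Subgroup G)
    have hT1 : T1 < ⊤ := lt_top_iff_ne_top.2 fun h' => hnot fun y hy =>
      (mem_subgroupOf.1 (h' ▸ mem_top (⟨y, hy⟩ : ↥(P : Subgroup G))) : _)
    haveI := P.isPGroup'.isNilpotent
    obtain ⟨n, hn, hn'⟩ := SetLike.exists_of_lt (Group.normalizerCondition_of_isNilpotent T1 hT1)
    have hnX : (n : G) ∉ X := fun h' => hn' (mem_subgroupOf.2 h')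
    have htP : f.t ∈ (P : Subgroup G) := hP ⟨τ, hτT, rfl⟩
    have hconjmem : ∀ y, y ∈ (P : Subgroup G) → y ∈ X →
        (n : G) * y * (n : G)⁻¹ ∈ X ∧ (n : G)⁻¹ * y * n ∈ X := fun y hy hyX =>
      ⟨mem_subgroupOf.1 ((mem_normalizer_iff.1 hn ⟨y, hy⟩).1 (mem_subgroupOf.2 hyX)),
        mem_subgroupOf.1 ((mem_normalizer_iff''.1 hn ⟨y, hy⟩).1 (mem_subgroupOf.2 hyX))⟩
    let u : ↥X := ⟨(n : G) * f.t * (n : G)⁻¹, (hconjmem _ htP τ.2).1⟩
    have hcomm : ∀ y : ↥X, y ∈ (T : Subgroup ↥X) → y * u = u * y := by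
      intro y hy
      refine Subtype.ext ?_
      have h' : (n : G)⁻¹ * y * n * f.t = f.t * ((n : G)⁻¹ * y * n) :=
        xc ⟨_, (hconjmem (y : G) (hP ⟨y, hy, rfl⟩) y.2).2⟩
      show (y : G) * ((n : G) * f.t * (n : G)⁻¹) = (n : G) * f.t * (n : G)⁻¹ * y
      calc (y : G) * ((n : G) * f.t * (n : G)⁻¹) = n * ((n : G)⁻¹ * y * n * f.t) * (n : G)⁻¹ := by
            group
        _ = n * (f.t * ((n : G)⁻¹ * y * n)) * (n : G)⁻¹ := by rw [h']
        _ = _ := by group
    have hu2 : u * u = 1 := Subtype.ext (by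
      show (n : G) * f.t * (n : G)⁻¹ * ((n : G) * f.t * (n : G)⁻¹) = 1
      rw [conj_mul, tt, mul_one, mul_inv_cancel])
    have hu1 : u ≠ 1 := fun h' => by
      have : (n : G) * f.t * (n : G)⁻¹ = 1 := congrArg Subtype.val h'
      rw [mul_inv_eq_one, mul_eq_left] at this
      have h2 := f.t_order
      rw [this, orderOf_one] at h2
      omega
    have huτ : u ≠ τ := fun h' => hnX (mX (mul_inv_eq_iff_eq_mul.1 (congrArg Subtype.val h')))
    have υ2 : φ u * φ u = 1 := by rw [← map_mul, hu2, map_one]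
    have hυ1 : φ u ≠ 1 := fun h' => (CoverEight.eq_one_or φ hker' hτ h').elim hu1 huτ
    -- the centraliser of `φ u` has odd index
    let C := centralizer ({φ u} : Set (Perm (Fin 8)))
    have hTC : (T : Subgroup ↥X) ≤ C.comap φ := fun y hy =>
      mem_centralizer_singleton_iff.2 (by rw [← map_mul, hcomm y hy, map_mul])
    have hodd : ¬ 2 ∣ C.index := fun h' => T.not_dvd_index (by
      rw [← index_comap_of_surjective C hφ] at h'
      exact h'.trans (index_dvd_of_le hTC))
    have h8 : (φ u).support.card = 8 := by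
      obtain ⟨m, hm, hms, -⟩ := PermEight.cycleType_inv_two υ2
      have hle : (φ u).support.card ≤ 8 := (Finset.card_le_univ _).trans (by simp)
      have hm0 : m ≠ 0 := fun h0 => hυ1 (Perm.card_support_eq_zero.1 (by omega))
      have hC := C.card_mul_index
      rw [Perm.nat_card_centralizer, hm, Nat.card_perm, Nat.card_fin] at hC
      rcases (show m = 1 ∨ m = 2 ∨ m = 3 ∨ m = 4 by omega) with rfl | rfl | rfl | rfl
      all_goals first
        | omega
        | (exfalso; apply hodd; simp [Nat.factorial] at hC; omega)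
    obtain ⟨g', hg'⟩ := CoverEight.exists_conj_mul_tau φ hφ hker' hτ hcen k2 κ2 hkfour υ2 h8
    have hχ : ∀ y : ↥(C.comap φ), (y : ↥X) * u * (y : ↥X)⁻¹ * u⁻¹ ∈ zpowers τ := by
      intro y
      rw [← hker', MonoidHom.mem_ker, map_mul, map_mul, map_mul, map_inv, map_inv,
        mem_centralizer_singleton_iff.1 y.2, mul_inv_cancel_right, mul_inv_cancel]
    let χ : ↥(C.comap φ) →* ↥X :=
      { toFun := fun y => (y : ↥X) * u * (y : ↥X)⁻¹ * u⁻¹
        map_one' := by simp
        map_mul' := fun a b => by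
          obtain ⟨i, hi⟩ := mem_zpowers_iff.1 (hχ b)
          have hb' : (b : ↥X) * u * (b : ↥X)⁻¹ = τ ^ i * u := by rw [hi, inv_mul_cancel_right]
          have ha' : Commute (a : ↥X) (τ ^ i) :=
            (show Commute (a : ↥X) τ from hcen a).zpow_right i
          calc ((a * b : ↥(C.comap φ)) : ↥X) * u * ((a * b : ↥(C.comap φ)) : ↥X)⁻¹ * u⁻¹
              = a * ((b : ↥X) * u * (b : ↥X)⁻¹) * (a : ↥X)⁻¹ * u⁻¹ := by
                simp only [Subgroup.coe_mul]; group
            _ = a * τ ^ i * (u * (a : ↥X)⁻¹ * u⁻¹) := by rw [hb']; group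
            _ = τ ^ i * ((a : ↥X) * u * (a : ↥X)⁻¹ * u⁻¹) := by rw [ha'.eq]; group
            _ = (a : ↥X) * u * (a : ↥X)⁻¹ * u⁻¹ * τ ^ i := by
                obtain ⟨l, hl⟩ := mem_zpowers_iff.1 (hχ a)
                rw [← hl, ← zpow_add, ← zpow_add, add_comm]
            _ = _ := by rw [hi] }
    have hTker : (T : Subgroup ↥X).subgroupOf (C.comap φ) ≤ χ.ker := fun y hy => by
      rw [MonoidHom.mem_ker]
      show (y : ↥X) * u * (y : ↥X)⁻¹ * u⁻¹ = 1
      rw [hcomm _ (mem_subgroupOf.1 hy), mul_inv_cancel_right, mul_inv_cancel]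
    have hχodd : ¬ 2 ∣ χ.ker.index := fun h' => T.not_dvd_index
      (h'.trans ((index_dvd_of_le hTker).trans (relIndex_dvd_index_of_le hTC)))
    have hg'C : g' ∈ C.comap φ := mem_centralizer_singleton_iff.2 (mul_inv_eq_iff_eq_mul.1 (by
      rw [← map_inv, ← map_mul, ← map_mul, hg', map_mul, φτ, mul_one]))
    have hrange : χ.range = zpowers τ := by
      refine le_antisymm (by rintro _ ⟨y, rfl⟩; exact hχ y) (zpowers_le.2 ⟨⟨g', hg'C⟩, ?_⟩)
      show g' * u * g'⁻¹ * u⁻¹ = τ
      rw [hg', hcen, mul_inv_cancel_right]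
    apply hχodd
    rw [index_ker, hrange, Nat.card_zpowers, hτ]
  -- Thompson transfer
  let X' : Subgroup ↥X := (Perm.sign.comp φ).ker
  let Q : Subgroup G := (P : Subgroup G) ⊓ X'.map X.subtype
  have heP : e ∈ (P : Subgroup G) := hP ⟨e', heT, rfl⟩
  have heQ : e ∉ Q := fun h' => by
    obtain ⟨y, hy, hye⟩ := h'.2
    rw [show y = e' from Subtype.ext hye, SetLike.mem_coe, MonoidHom.mem_ker, MonoidHom.comp_apply,
      εcard.2] at hy
    exact absurd hy (by decide)
  have hQi : Q.relIndex (P : Subgroup G) = 2 := by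
    have hX'2 : X'.index = 2 := by
      rw [index_ker, (MonoidHom.range_eq_top (f := Perm.sign.comp φ)).2
        (by rw [MonoidHom.coe_comp]; exact (Perm.sign_surjective (Fin 8)).comp hφ), card_top]
      simp
    have hdvd : Q.relIndex (P : Subgroup G) ∣ 2 := by
      rw [show Q.relIndex (P : Subgroup G) = (X'.map X.subtype).relIndex (P : Subgroup G) from
        inf_relIndex_left .., ← map_subgroupOf_eq_of_le hPX,
        relIndex_map_map_of_injective _ _ X.subtype_injective]
      exact (relIndex_dvd_index_of_normal _ _).trans hX'2.dvd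
    rcases (Nat.dvd_prime Nat.prime_two).1 hdvd with h' | h'
    · exact absurd (relIndex_eq_one.1 h' heP) heQ
    · exact h'
  rcases Cfsg.Agent.S0111.result P Q inf_le_left hQi e
      (orderOf_eq_prime (by rw [pow_two]; exact ee) e1) heP heQ with ⟨G0, hn, hi, he0⟩ | ⟨g, hg⟩
  swap
  · exfalso
    obtain ⟨y, hy, hye⟩ := hg.2
    replace hye : (y : G) = g * e * g⁻¹ := hye
    have back : ∀ g' : G, g' * f.t * g'⁻¹ = g * e * g⁻¹ → False := fun g' h' => not_t (g⁻¹ * g') (by
      rw [show g⁻¹ * g' * f.t * (g⁻¹ * g')⁻¹ = g⁻¹ * (g' * f.t * g'⁻¹) * g by group, h']; group)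
    have hy2 : y * y = 1 := Subtype.ext (by
      show (y : G) * y = 1
      rw [hye, conj_mul, ee, mul_one, mul_inv_cancel])
    have hy1 : y ≠ 1 := fun h' => e1 (by
      have : g * e * g⁻¹ = 1 := hye ▸ congrArg Subtype.val h'
      rwa [mul_inv_eq_one, mul_eq_left] at this)
    by_cases hyτ : y = τ
    · exact back 1 (by rw [← hye, hyτ]; simp [τ])
    · obtain ⟨g', hg'⟩ := invol_even y hy2 hy1 hyτ (MonoidHom.mem_ker.1 hy)
      exact back g' (by rw [hg', hye])
  have hM : f.M ≤ G0 := by
    rw [f.hM, closure_le]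
    rintro x ⟨-, n, hx⟩
    exact odd_mem_of_index_two hi hx
  have hL : f.L ≤ G0 := by
    rw [f.hL, closure_le]
    rintro x ⟨-, n, hx⟩
    exact odd_mem_of_index_two hi hx
  refine ⟨G0, hn, hi, hM, hL, ?_⟩
  have hkG : f.k ∈ G0 := hL (f.K_le_L f.k_mem_K)
  have hcG : (c : G) ∉ G0 := fun h' => he0 (by
    have hh : h ∈ G0 := mul_mem h' (mul_mem hkG (hn.conj_mem _ hkG _))
    rcases hed with rfl | rfl
    · exact hh
    · exact mul_mem hh (hM f.t_mem_M))
  have hcC : (c : G) ∈ centralizer ({f.z} : Set G) := mem_centralizer_singleton_iff.2 cz'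
  have hrel : G0.relIndex (centralizer ({f.z} : Set G)) = 2 := by
    haveI := hn
    rcases (Nat.dvd_prime Nat.prime_two).1 (hi ▸ relIndex_dvd_index_of_normal (H := G0)
      (K := centralizer ({f.z} : Set G))) with h' | h'
    · exact absurd (relIndex_eq_one.1 h' hcC) hcG
    · exact h'
  have hmul := (G0.subgroupOf (centralizer ({f.z} : Set G))).card_mul_index
  rw [hX] at hb
  rw [show (G0.subgroupOf (centralizer ({f.z} : Set G))).index = 2 from hrel, f.card_Cz, hb,
    ← inf_subgroupOf_left, Nat.card_congr (subgroupOfEquivOfLe inf_le_left).toEquiv] at hmul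
  omega

/-- In the large case the group has a normal subgroup of index two containing `M` and `L`. -/
theorem exists_index_two {G : Type u} [Group G] [Finite G] (f : Frame G)
    (hb : Nat.card ↥(centralizer ({f.z} : Set G) ⊓ centralizer ({f.t} : Set G)) = 720)
    (φ : ↥(centralizer ({f.t} : Set G)) →* Perm (Fin 8)) (hφ : Function.Surjective φ)
    (hker : φ.ker = (zpowers f.t).subgroupOf (centralizer ({f.t} : Set G))) :
    ∃ G0 : Subgroup G, G0.Normal ∧ G0.index = 2 ∧ f.M ≤ G0 ∧ f.L ≤ G0 ∧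
      Nat.card ↥(centralizer ({f.z} : Set G) ⊓ G0) = 243 * 120 :=
  index_two_core f _ rfl hb φ hφ hker

end CfsgLib.McLThreeLocal
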