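/-
In SL(2,5) there are twenty elements of order 3.
-/
import Mathlib

set_option autoImplicit false
set_option maxRecDepth 100000

namespace CfsgLib.McLThreeLocal

open Matrix

theorem card_order_three_SL :
    ((Finset.univ : Finset (SpecialLinearGroup (Fin 2) (ZMod 5))).filter
      fun x => x * x * x = 1 ∧ x ≠ 1).card = 20 := by decide +kernel

end CfsgLib.McLThreeLocal
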