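/-
Elementary facts about `C(t)` in a frame (S3367).
-/
import Cfsg.Agent.Lib.McLThreeLocal.Defs
import Cfsg.Agent.Lib.McLThreeLocal.SL25Cent

set_option autoImplicit false

namespace CfsgLib.McLThreeLocal

open Subgroup

universe u

variable {G : Type u} [Group G]

/-- Two elements commuting, of cube one: their span. -/
theorem mem_closure_pair_cube {a b x : G} (hab : a * b = b * a) (ha : a ^ 3 = 1) (hb : b ^ 3 = 1) :
    x ∈ closure ({a, b} : Set G) ↔ ∃ i < 3, ∃ j < 3, x = a ^ i * b ^ j := by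
  refine ⟨fun hx => ?_, ?_⟩
  · have hc : Commute a b := hab
    induction hx using closure_induction with
    | mem x hx =>
      rcases hx with rfl | rfl
      · exact ⟨1, by norm_num, 0, by norm_num, by simp⟩
      · exact ⟨0, by norm_num, 1, by norm_num, by simp⟩
    | one => exact ⟨0, by norm_num, 0, by norm_num, by simp⟩
    | mul x y _ _ hx hy =>
      obtain ⟨i, -, j, -, rfl⟩ := hx
      obtain ⟨i', -, j', -, rfl⟩ := hy
      refine ⟨(i + i') % 3, Nat.mod_lt _ (by norm_num), (j + j') % 3,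
        Nat.mod_lt _ (by norm_num), ?_⟩
      rw [← pow_eq_pow_mod _ ha, ← pow_eq_pow_mod _ hb, pow_add, pow_add,
        mul_assoc (a ^ i), ← mul_assoc (b ^ j), ← (hc.pow_pow i' j).eq]
      group
    | inv x _ hx =>
      obtain ⟨i, hi, j, hj, rfl⟩ := hx
      refine ⟨(3 - i) % 3, Nat.mod_lt _ (by norm_num), (3 - j) % 3,
        Nat.mod_lt _ (by norm_num), ?_⟩
      rw [← pow_eq_pow_mod _ ha, ← pow_eq_pow_mod _ hb, mul_inv_rev]
      have e1 : (a ^ i)⁻¹ = a ^ (3 - i) :=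
        inv_eq_of_mul_eq_one_right (by rw [← pow_add, Nat.add_sub_cancel' hi.le, ha])
      have e2 : (b ^ j)⁻¹ = b ^ (3 - j) :=
        inv_eq_of_mul_eq_one_right (by rw [← pow_add, Nat.add_sub_cancel' hj.le, hb])
      rw [e1, e2]
      exact (hc.pow_pow _ _).symm.eq
  · rintro ⟨i, -, j, -, rfl⟩
    exact mul_mem (pow_mem (subset_closure (by simp)) _) (pow_mem (subset_closure (by simp)) _)

namespace Frame

variable (f : Frame G)

theorem z_cube : f.z ^ 3 = 1 := by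
  have h := pow_orderOf_eq_one f.z; rwa [f.z_order] at h

theorem w_cube : f.w ^ 3 = 1 := by
  have h := pow_orderOf_eq_one f.w; rwa [f.w_order] at h

theorem z_mem_J : f.z ∈ f.J := f.Z_le_J (f.Z_eq ▸ mem_zpowers f.z)

theorem zw_comm : f.z * f.w = f.w * f.z := f.hJcomm _ f.z_mem_J _ f.w_mem_J

theorem wt : f.w * f.t = f.t * f.w := f.K_t _ f.w_mem_K

theorem kt : f.k * f.t = f.t * f.k := f.K_t _ f.k_mem_K

theorem k_z : f.k * f.z * f.k⁻¹ = f.z := mul_inv_eq_iff_eq_mul.2 (f.K_z _ f.k_mem_K)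

theorem j_inv : f.j⁻¹ = f.j := inv_eq_of_mul_eq_one_right f.j_sq

theorem j_zinv : f.j * f.z⁻¹ * f.j⁻¹ = f.w⁻¹ := by
  rw [← f.j_z]; group

theorem j_winv : f.j * f.w⁻¹ * f.j⁻¹ = f.z⁻¹ := by
  rw [← f.j_w]; group

theorem k'_t : f.k' * f.t = f.t * f.k' :=
  ((Commute.mul_left (Commute.mul_left f.jt f.kt) (Commute.inv_left f.jt)))

theorem k'_sq : f.k' * f.k' = f.t := by
  have : f.k' * f.k' = f.j * (f.k * f.k) * f.j⁻¹ := by simp only [k']; group
  rw [this, f.k_sq, f.jt, mul_inv_cancel_right]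

theorem k'_w : f.k' * f.w * f.k'⁻¹ = f.w := by
  calc f.k' * f.w * f.k'⁻¹
      = f.j * (f.k * (f.j⁻¹ * f.w * f.j) * f.k⁻¹) * f.j⁻¹ := by simp only [k']; group
    _ = f.w := by
      have h : f.j⁻¹ * f.w * f.j = f.z := by rw [← f.j_z]; group
      rw [h, f.k_z, f.j_z]

theorem k'_z : f.k' * f.z * f.k'⁻¹ = f.z⁻¹ := by
  calc f.k' * f.z * f.k'⁻¹
      = f.j * (f.k * (f.j⁻¹ * f.z * f.j) * f.k⁻¹) * f.j⁻¹ := by simp only [k']; group
    _ = f.z⁻¹ := by
      have h : f.j⁻¹ * f.z * f.j = f.w := by rw [← f.j_w]; group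
      rw [h, f.k_w, f.j_winv]

theorem kk_inv_z : f.k * f.k' * f.z * (f.k * f.k')⁻¹ = f.z⁻¹ := by
  calc f.k * f.k' * f.z * (f.k * f.k')⁻¹
      = f.k * (f.k' * f.z * f.k'⁻¹) * f.k⁻¹ := by group
    _ = (f.k * f.z * f.k⁻¹)⁻¹ := by rw [f.k'_z]; group
    _ = f.z⁻¹ := by rw [f.k_z]

theorem kk_inv_w : f.k * f.k' * f.w * (f.k * f.k')⁻¹ = f.w⁻¹ := by
  calc f.k * f.k' * f.w * (f.k * f.k')⁻¹
      = f.k * (f.k' * f.w * f.k'⁻¹) * f.k⁻¹ := by group
    _ = f.w⁻¹ := by rw [f.k'_w, f.k_w]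

theorem z_mem_D : f.z ∈ closure ({f.z, f.w} : Set G) := subset_closure (by simp)

theorem w_mem_D : f.w ∈ closure ({f.z, f.w} : Set G) := subset_closure (by simp)

theorem mem_D_iff {x : G} :
    x ∈ closure ({f.z, f.w} : Set G) ↔ ∃ i < 3, ∃ j < 3, x = f.z ^ i * f.w ^ j :=
  mem_closure_pair_cube f.zw_comm f.z_cube f.w_cube

theorem sq_eq_inv {a : G} (h : a ^ 3 = 1) : a ^ 2 = a⁻¹ :=
  eq_inv_of_mul_eq_one_left (by rw [← pow_succ, h])

/-- The only conjugates of `z` in `D` are `z^±1`, `w^±1`. -/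
theorem conj_z_mem_D {g : G} (h : g * f.z * g⁻¹ ∈ closure ({f.z, f.w} : Set G)) :
    g * f.z * g⁻¹ = f.z ∨ g * f.z * g⁻¹ = f.z⁻¹ ∨ g * f.z * g⁻¹ = f.w ∨
      g * f.z * g⁻¹ = f.w⁻¹ := by
  have hne : g * f.z * g⁻¹ ≠ 1 := by
    intro hc
    have : f.z = 1 := by simpa using hc
    have h3 := f.z_order; rw [this, orderOf_one] at h3; norm_num at h3
  have key : ∀ y : G, y = f.z * f.w ∨ y = f.z * f.w⁻¹ → g * f.z * g⁻¹ ≠ y ∧
      g * f.z * g⁻¹ ≠ y⁻¹ := by
    intro y hy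
    refine ⟨f.y_not_Z y hy g, fun hc => f.y_not_Z y hy (f.k * f.k' * g) ?_⟩
    have e : f.k * f.k' * y * (f.k * f.k')⁻¹ = y⁻¹ := by
      rcases hy with rfl | rfl
      · calc f.k * f.k' * (f.z * f.w) * (f.k * f.k')⁻¹
            = (f.k * f.k' * f.z * (f.k * f.k')⁻¹) * (f.k * f.k' * f.w * (f.k * f.k')⁻¹) := by group
          _ = (f.z * f.w)⁻¹ := by rw [f.kk_inv_z, f.kk_inv_w, ← mul_inv_rev, f.zw_comm]
      · calc f.k * f.k' * (f.z * f.w⁻¹) * (f.k * f.k')⁻¹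
            = (f.k * f.k' * f.z * (f.k * f.k')⁻¹) * (f.k * f.k' * f.w * (f.k * f.k')⁻¹)⁻¹ := by
              group
          _ = (f.z * f.w⁻¹)⁻¹ := by
              rw [f.kk_inv_z, f.kk_inv_w, inv_inv, mul_inv_rev, inv_inv]
              exact (Commute.inv_left (f.zw_comm : Commute f.z f.w))
    have e2 : f.k * f.k' * g * f.z * (f.k * f.k' * g)⁻¹ =
        f.k * f.k' * (g * f.z * g⁻¹) * (f.k * f.k')⁻¹ := by group
    rw [e2, hc]
    calc f.k * f.k' * y⁻¹ * (f.k * f.k')⁻¹ = (f.k * f.k' * y * (f.k * f.k')⁻¹)⁻¹ := by group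
      _ = y := by rw [e, inv_inv]
  obtain ⟨hp1, hp2⟩ := key _ (Or.inl rfl)
  obtain ⟨hm1, hm2⟩ := key _ (Or.inr rfl)
  obtain ⟨i, hi, j, hj, he⟩ := f.mem_D_iff.1 h
  have hc : Commute f.z f.w := f.zw_comm
  interval_cases i <;> interval_cases j <;>
    simp only [pow_zero, pow_one, one_mul, mul_one, sq_eq_inv f.z_cube, sq_eq_inv f.w_cube] at he
  · exact absurd he hne
  · exact Or.inr (Or.inr (Or.inl he))
  · exact Or.inr (Or.inr (Or.inr he))
  · exact Or.inl he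
  · exact absurd he hp1
  · exact absurd he hm1
  · exact Or.inr (Or.inl he)
  · refine absurd (he.trans ?_) hm2
    rw [mul_inv_rev, inv_inv]
    exact hc.inv_left.eq
  · refine absurd (he.trans ?_) hp2
    rw [mul_inv_rev]
    exact hc.inv_inv.eq

/-- What commutes with `t` and normalizes `J` normalizes `D`. -/
theorem conj_mem_D {g a : G} (hJ : g ∈ normalizer (f.J : Set G)) (ht : g * f.t = f.t * g)
    (ha : a ∈ closure ({f.z, f.w} : Set G)) :
    g * a * g⁻¹ ∈ closure ({f.z, f.w} : Set G) := by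
  obtain ⟨haJ, hat⟩ := (f.D_eq a).1 ha
  exact (f.D_eq _).2 ⟨(mem_normalizer_iff.1 hJ a).1 haJ,
    Commute.mul_left (Commute.mul_left ht hat) (Commute.inv_left ht)⟩

/-- In `C(t)`, the centralizer of `z w^±1` normalizes `D`. -/
theorem mem_normalizer_D_of_centY [Finite G] {g y : G} (hy : y = f.z * f.w ∨ y = f.z * f.w⁻¹)
    (ht : g * f.t = f.t * g) (hgy : g * y = y * g) :
    g ∈ normalizer (closure ({f.z, f.w} : Set G) : Set G) := by
  have hJ : g ∈ normalizer (f.J : Set G) := f.centY y hy (mem_centralizer_singleton_iff.2 hgy)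
  have hi : g⁻¹ * f.t = f.t * g⁻¹ := (Commute.inv_left (ht : Commute g f.t))
  refine mem_normalizer_iff.2 fun a => ⟨f.conj_mem_D hJ ht, fun h => ?_⟩
  have h2 := f.conj_mem_D (inv_mem hJ) hi h
  have e : g⁻¹ * (g * a * g⁻¹) * g⁻¹⁻¹ = a := by group
  rwa [e] at h2

end Frame

end CfsgLib.McLThreeLocal
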