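/-
Orders of `C(D)`, `N(D)` and `C(zw)` inside `C(t)` (S3367).
-/
import Cfsg.Agent.Lib.McLThreeLocal.XTools

set_option autoImplicit false

namespace CfsgLib.McLThreeLocal

open Subgroup

universe u

/-- Orbit–stabilizer for the diagonal conjugation of a subgroup on pairs. -/
theorem card_eq_pairs_mul {G : Type u} [Group G] [Finite G] (N : Subgroup G) (a b : G)
    (s : Finset (G × G))
    (hmap : ∀ g ∈ N, (g * a * g⁻¹, g * b * g⁻¹) ∈ s)
    (hsurj : ∀ p ∈ s, ∃ g ∈ N, (g * a * g⁻¹, g * b * g⁻¹) = p) :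
    Nat.card N = s.card * Nat.card ↥(N ⊓ (centralizer ({a} : Set G) ⊓ centralizer ({b} : Set G))) := by
  classical
  set C := centralizer ({a} : Set G) ⊓ centralizer ({b} : Set G) with hC
  have key : ∀ g h : G, (g * a * g⁻¹, g * b * g⁻¹) = (h * a * h⁻¹, h * b * h⁻¹) ↔ g⁻¹ * h ∈ C := by
    intro g h
    rw [hC, mem_inf, mem_centralizer_singleton_iff, mem_centralizer_singleton_iff, Prod.mk.injEq]
    constructor
    · rintro ⟨h1, h2⟩
      constructor
      · calc g⁻¹ * h * a = g⁻¹ * (h * a * h⁻¹) * h := by group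
          _ = a * (g⁻¹ * h) := by rw [← h1]; group
      · calc g⁻¹ * h * b = g⁻¹ * (h * b * h⁻¹) * h := by group
          _ = b * (g⁻¹ * h) := by rw [← h2]; group
    · rintro ⟨h1, h2⟩
      constructor
      · calc g * a * g⁻¹ = g * (a * (g⁻¹ * h)) * h⁻¹ := by group
          _ = h * a * h⁻¹ := by rw [← h1]; group
      · calc g * b * g⁻¹ = g * (b * (g⁻¹ * h)) * h⁻¹ := by group
          _ = h * b * h⁻¹ := by rw [← h2]; group
  let e : N ⧸ C.subgroupOf N ≃ s :=
    Equiv.ofBijective (Quotient.lift (fun g : N => (⟨_, hmap g g.2⟩ : s))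
      (fun g h hgh => Subtype.ext ((key g h).2 (by
        simpa [QuotientGroup.leftRel_apply, mem_subgroupOf] using hgh))))
      ⟨fun x y hxy => by
        induction x using Quotient.ind with
        | _ g =>
          induction y using Quotient.ind with
          | _ h =>
            refine Quotient.sound ?_
            have := (key g h).1 (congrArg Subtype.val hxy)
            exact QuotientGroup.leftRel_apply.2 (by simpa [mem_subgroupOf] using this),
      fun p => by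
        obtain ⟨g, hg, hgp⟩ := hsurj p p.2
        exact ⟨Quotient.mk _ ⟨g, hg⟩, Subtype.ext hgp⟩⟩
  rw [card_eq_card_quotient_mul_card_subgroup (C.subgroupOf N), Nat.card_congr e,
    Nat.card_eq_fintype_card, Fintype.card_coe]
  congr 1
  rw [← inf_subgroupOf_left, Nat.card_congr (subgroupOfEquivOfLe inf_le_left).toEquiv]

namespace Frame

variable {G : Type u} [Group G] (f : Frame G)

/-- `C_{C(t)}(D)`. -/
abbrev C0 : Subgroup G :=
  centralizer ({f.z} : Set G) ⊓ centralizer ({f.t} : Set G) ⊓ centralizer ({f.w} : Set G)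

theorem pow_inj {i j i' j' : ℕ} (hi : i < 3) (hj : j < 3) (hi' : i' < 3) (hj' : j' < 3)
    (h : f.z ^ i * f.w ^ j = f.z ^ i' * f.w ^ j') : i = i' ∧ j = j' := by
  let m : Fin 3 × Fin 3 → closure ({f.z, f.w} : Set G) := fun p =>
    ⟨f.z ^ (p.1 : ℕ) * f.w ^ (p.2 : ℕ),
      mul_mem (pow_mem f.z_mem_D _) (pow_mem f.w_mem_D _)⟩
  have hs : Function.Surjective m := by
    rintro ⟨x, hx⟩
    obtain ⟨a, ha, b, hb, rfl⟩ := f.mem_D_iff.1 hx
    exact ⟨(⟨a, ha⟩, ⟨b, hb⟩), rfl⟩
  have hinj : Function.Injective m :=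
    (Nat.bijective_iff_surjective_and_card m).2 ⟨hs, by rw [f.D_card]; simp⟩ |>.1
  have := hinj (a₁ := (⟨i, hi⟩, ⟨j, hj⟩)) (a₂ := (⟨i', hi'⟩, ⟨j', hj'⟩)) (Subtype.ext h)
  simpa [Fin.ext_iff] using this

theorem not_mem_zpowers_swap : f.z ≠ f.w ∧ f.z ≠ f.w⁻¹ ∧ f.z ≠ f.z⁻¹ ∧ f.w ≠ f.w⁻¹ := by
  refine ⟨fun h => ?_, fun h => ?_, fun h => ?_, fun h => ?_⟩
  · have := f.pow_inj (i := 1) (j := 0) (i' := 0) (j' := 1) (by norm_num) (by norm_num)
      (by norm_num) (by norm_num) (by simpa using h)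
    omega
  · have := f.pow_inj (i := 1) (j := 0) (i' := 0) (j' := 2) (by norm_num) (by norm_num)
      (by norm_num) (by norm_num) (by simpa [sq_eq_inv f.w_cube] using h)
    omega
  · have := f.pow_inj (i := 1) (j := 0) (i' := 2) (j' := 0) (by norm_num) (by norm_num)
      (by norm_num) (by norm_num) (by simpa [sq_eq_inv f.z_cube] using h)
    omega
  · have := f.pow_inj (i := 0) (j := 1) (i' := 0) (j' := 2) (by norm_num) (by norm_num)
      (by norm_num) (by norm_num) (by simpa [sq_eq_inv f.w_cube] using h)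
    omega

open Classical in
/-- The eight images of `(z, w)`. -/
noncomputable def pairs : Finset (G × G) :=
  {(f.z, f.w), (f.z, f.w⁻¹), (f.z⁻¹, f.w), (f.z⁻¹, f.w⁻¹),
   (f.w, f.z), (f.w, f.z⁻¹), (f.w⁻¹, f.z), (f.w⁻¹, f.z⁻¹)}

theorem card_pairs : f.pairs.card = 8 := by
  classical
  obtain ⟨h1, h2, h3, h4⟩ := f.not_mem_zpowers_swap
  have h2' : f.z⁻¹ ≠ f.w := fun h => h2 (by rw [← h, inv_inv])
  simp [pairs, h1, h2, h3, h4, h2', h1.symm, h2.symm, h3.symm, h4.symm, h2'.symm, inv_inj]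

theorem mem_pairs {g : G} (hg : g ∈ normalizer (closure ({f.z, f.w} : Set G) : Set G)) :
    (g * f.z * g⁻¹, g * f.w * g⁻¹) ∈ f.pairs := by
  classical
  have hz := f.conj_z_mem_D ((mem_normalizer_iff.1 hg _).1 f.z_mem_D)
  have e : g * f.w * g⁻¹ = (g * f.j) * f.z * (g * f.j)⁻¹ := by rw [← f.j_z]; group
  have hw := f.conj_z_mem_D (g := g * f.j) (e ▸ (mem_normalizer_iff.1 hg _).1 f.w_mem_D)
  rw [← e] at hw
  obtain ⟨h1, h2, h3, h4⟩ := f.not_mem_zpowers_swap
  have inj : ∀ a b : G, g * a * g⁻¹ = g * b * g⁻¹ → a = b := fun a b h => by simpa using h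
  have invc : (g * f.z * g⁻¹)⁻¹ = g * f.z⁻¹ * g⁻¹ := by group
  have h2' : f.z⁻¹ ≠ f.w := fun h => h2 (by rw [← h, inv_inv])
  simp only [pairs, Finset.mem_insert, Finset.mem_singleton, Prod.mk.injEq]
  rcases hz with a | a | a | a <;> rcases hw with b | b | b | b <;> simp only [a, b, and_self,
    true_or, or_true] <;> exfalso
  all_goals first
    | exact h1 (inj _ _ (a.trans b.symm))
    | exact h2' (inj _ _ (by rw [← invc, a, b, inv_inv]))
    | exact h2' (inj _ _ (by rw [← invc, a, b]))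

theorem normD_of_pair {g : G} (hz : g * f.z * g⁻¹ ∈ closure ({f.z, f.w} : Set G))
    (hw : g * f.w * g⁻¹ ∈ closure ({f.z, f.w} : Set G)) [Finite G] :
    g ∈ normalizer (closure ({f.z, f.w} : Set G) : Set G) := by
  have hle : (closure ({f.z, f.w} : Set G)).map (MulAut.conj g).toMonoidHom ≤
      closure ({f.z, f.w} : Set G) := by
    rw [MonoidHom.map_closure, closure_le]
    rintro _ ⟨a, ha, rfl⟩
    rcases ha with rfl | rfl
    · exact hz
    · exact hw
  have heq := eq_of_le_of_card_ge hle (card_map_of_injective (MulAut.conj g).injective).ge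
  refine mem_normalizer_iff.2 fun x => ⟨fun hx => hle ⟨x, hx, rfl⟩, fun hx => ?_⟩
  rw [← heq] at hx
  obtain ⟨y, hy, hyx⟩ := hx
  have : y = x := (MulAut.conj g).injective hyx
  exact this ▸ hy

theorem k_normD [Finite G] : f.k ∈ normalizer (closure ({f.z, f.w} : Set G) : Set G) :=
  f.normD_of_pair (by rw [f.k_z]; exact f.z_mem_D) (by rw [f.k_w]; exact inv_mem f.w_mem_D)

theorem j_normD [Finite G] : f.j ∈ normalizer (closure ({f.z, f.w} : Set G) : Set G) :=
  f.normD_of_pair (by rw [f.j_z]; exact f.w_mem_D) (by rw [f.j_w]; exact f.z_mem_D)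

theorem k'_normD [Finite G] : f.k' ∈ normalizer (closure ({f.z, f.w} : Set G) : Set G) :=
  mul_mem (mul_mem f.j_normD f.k_normD) (inv_mem f.j_normD)

theorem C0_le_normD [Finite G] : f.C0 ≤ normalizer (closure ({f.z, f.w} : Set G) : Set G) := by
  intro g hg
  obtain ⟨⟨hz, -⟩, hw⟩ := hg
  exact f.normD_of_pair
    (by rw [mul_inv_eq_iff_eq_mul.2 (mem_centralizer_singleton_iff.1 hz)]; exact f.z_mem_D)
    (by rw [mul_inv_eq_iff_eq_mul.2 (mem_centralizer_singleton_iff.1 hw)]; exact f.w_mem_D)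

/-- `|N_{C(t)}(D)| = 8 |C_{C(t)}(D)|`. -/
theorem card_normD [Finite G] :
    Nat.card ↥(normalizer (closure ({f.z, f.w} : Set G) : Set G) ⊓ centralizer ({f.t} : Set G)) =
      8 * Nat.card f.C0 := by
  classical
  set N := normalizer (closure ({f.z, f.w} : Set G) : Set G) ⊓ centralizer ({f.t} : Set G) with hN
  have mk : f.k ∈ N := ⟨f.k_normD, mem_centralizer_singleton_iff.2 f.kt⟩
  have mk' : f.k' ∈ N := ⟨f.k'_normD, mem_centralizer_singleton_iff.2 f.k'_t⟩
  have mj : f.j ∈ N := ⟨f.j_normD, mem_centralizer_singleton_iff.2 f.jt⟩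
  have comp : ∀ g h : G, ∀ a : G, g * h * a * (g * h)⁻¹ = g * (h * a * h⁻¹) * g⁻¹ :=
    fun g h a => by group
  have cinv : ∀ g a : G, g * a⁻¹ * g⁻¹ = (g * a * g⁻¹)⁻¹ := fun g a => by group
  rw [card_eq_pairs_mul N f.z f.w f.pairs (fun g hg => f.mem_pairs hg.1), card_pairs]
  · congr 1
    have : N ⊓ (centralizer ({f.z} : Set G) ⊓ centralizer ({f.w} : Set G)) = f.C0 := by
      refine le_antisymm (fun g hg => ⟨⟨hg.2.1, hg.1.2⟩, hg.2.2⟩) fun g hg => ?_
      exact ⟨⟨f.C0_le_normD hg, hg.1.2⟩, hg.1.1, hg.2⟩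
    rw [this]
  · intro p hp
    simp only [pairs, Finset.mem_insert, Finset.mem_singleton] at hp
    rcases hp with rfl | rfl | rfl | rfl | rfl | rfl | rfl | rfl
    · exact ⟨1, one_mem _, by simp⟩
    · exact ⟨f.k, mk, by rw [f.k_z, f.k_w]⟩
    · exact ⟨f.k', mk', by rw [f.k'_z, f.k'_w]⟩
    · exact ⟨f.k * f.k', mul_mem mk mk', by rw [f.kk_inv_z, f.kk_inv_w]⟩
    · exact ⟨f.j, mj, by rw [f.j_z, f.j_w]⟩
    · exact ⟨f.j * f.k, mul_mem mj mk, by rw [comp, comp, f.k_z, f.k_w, f.j_z, f.j_winv]⟩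
    · exact ⟨f.j * f.k', mul_mem mj mk', by rw [comp, comp, f.k'_z, f.k'_w, f.j_zinv, f.j_w]⟩
    · exact ⟨f.j * (f.k * f.k'), mul_mem mj (mul_mem mk mk'),
        by rw [comp, comp f.j, f.kk_inv_z, f.kk_inv_w, f.j_zinv, f.j_winv]⟩

/-- `|C_{C(t)}(zw)| = 2 |C_{C(t)}(D)|`. -/
theorem card_centY [Finite G] :
    Nat.card ↥(centralizer ({f.z * f.w} : Set G) ⊓ centralizer ({f.t} : Set G)) =
      2 * Nat.card f.C0 := by
  classical
  set N := centralizer ({f.z * f.w} : Set G) ⊓ centralizer ({f.t} : Set G) with hN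
  obtain ⟨h1, h2, h3, h4⟩ := f.not_mem_zpowers_swap
  rw [card_eq_pairs_mul N f.z f.w {(f.z, f.w), (f.w, f.z)}]
  · congr 1
    · rw [Finset.card_pair (by simp [h1])]
    · have : N ⊓ (centralizer ({f.z} : Set G) ⊓ centralizer ({f.w} : Set G)) = f.C0 := by
        refine le_antisymm (fun g hg => ⟨⟨hg.2.1, hg.1.2⟩, hg.2.2⟩) fun g hg => ?_
        obtain ⟨⟨hz, ht⟩, hw⟩ := hg
        refine ⟨⟨mem_centralizer_singleton_iff.2 ?_, ht⟩, hz, hw⟩
        exact (Commute.mul_right (mem_centralizer_singleton_iff.1 hz)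
          (mem_centralizer_singleton_iff.1 hw) : Commute g (f.z * f.w))
      rw [this]
  · intro g hg
    have hgy : g * (f.z * f.w) = f.z * f.w * g := mem_centralizer_singleton_iff.1 hg.1
    have hn := f.mem_normalizer_D_of_centY (Or.inl rfl) (mem_centralizer_singleton_iff.1 hg.2) hgy
    have hp := f.mem_pairs hn
    have hprod : (g * f.z * g⁻¹) * (g * f.w * g⁻¹) = f.z * f.w := by
      calc _ = g * (f.z * f.w) * g⁻¹ := by group
        _ = f.z * f.w := by rw [hgy, mul_inv_cancel_right]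
    simp only [pairs, Finset.mem_insert, Finset.mem_singleton, Prod.mk.injEq] at hp ⊢
    have hc : Commute f.z f.w := f.zw_comm
    rcases hp with ⟨a, b⟩ | ⟨a, b⟩ | ⟨a, b⟩ | ⟨a, b⟩ | ⟨a, b⟩ | ⟨a, b⟩ | ⟨a, b⟩ | ⟨a, b⟩
    · exact Or.inl ⟨a, b⟩
    · rw [a, b] at hprod; exact absurd (mul_left_cancel hprod).symm h4
    · rw [a, b] at hprod; exact absurd (mul_right_cancel hprod).symm h3
    · rw [a, b] at hprod; exact absurd (hprod ▸ rfl) (fun h : f.z⁻¹ * f.w⁻¹ = f.z * f.w => by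
        have := f.pow_inj (i := 2) (j := 2) (i' := 1) (j' := 1) (by norm_num) (by norm_num)
          (by norm_num) (by norm_num)
          (by simpa [sq_eq_inv f.z_cube, sq_eq_inv f.w_cube] using h)
        omega)
    · exact Or.inr ⟨a, b⟩
    · rw [a, b, ← hc.inv_left.eq] at hprod; exact absurd (mul_right_cancel hprod).symm h3
    · rw [a, b, ← hc.inv_right.eq] at hprod; exact absurd (mul_left_cancel hprod).symm h4
    · rw [a, b, ← hc.inv_inv.eq] at hprod; exact absurd hprod (fun h => by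
        have := f.pow_inj (i := 2) (j := 2) (i' := 1) (j' := 1) (by norm_num) (by norm_num)
          (by norm_num) (by norm_num)
          (by simpa [sq_eq_inv f.z_cube, sq_eq_inv f.w_cube] using h)
        omega)
  · intro p hp
    simp only [Finset.mem_insert, Finset.mem_singleton] at hp
    rcases hp with rfl | rfl
    · exact ⟨1, one_mem _, by simp⟩
    · refine ⟨f.j, ⟨mem_centralizer_singleton_iff.2 ?_, mem_centralizer_singleton_iff.2 f.jt⟩,
        by rw [f.j_z, f.j_w]⟩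
      refine mul_inv_eq_iff_eq_mul.1 ?_
      calc f.j * (f.z * f.w) * f.j⁻¹ = (f.j * f.z * f.j⁻¹) * (f.j * f.w * f.j⁻¹) := by group
        _ = f.z * f.w := by rw [f.j_z, f.j_w, f.zw_comm]

set_option maxHeartbeats 1000000 in
/-- `|C(z) ∩ C(t)| = 20 |C_{C(t)}(D)|`. -/
theorem card_C0 [Finite G] :
    Nat.card ↥(centralizer ({f.z} : Set G) ⊓ centralizer ({f.t} : Set G)) =
      20 * Nat.card f.C0 := by
  classical
  set X := centralizer ({f.z} : Set G) ⊓ centralizer ({f.t} : Set G) with hX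
  have hXn : ∀ g ∈ X, g ∈ normalizer (f.K : Set G) := by
    intro g hg
    have hgz : g * f.z = f.z * g := mem_centralizer_singleton_iff.1 hg.1
    refine f.K_normal g ?_ (mem_centralizer_singleton_iff.1 hg.2)
    refine centralizer_le_normalizer _ ?_
    rw [f.centZ_eq]; exact hg.1
  have hKX : f.K ≤ X := fun g hg =>
    ⟨mem_centralizer_singleton_iff.2 (f.K_z g hg), mem_centralizer_singleton_iff.2 (f.K_t g hg)⟩
  -- the elements of order three of `K`
  let P : Finset G := ((Finset.univ : Finset (Matrix.SpecialLinearGroup (Fin 2) (ZMod 5))).filter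
    fun x => x * x * x = 1 ∧ x ≠ 1).image fun x => (f.eK.symm x : G)
  have hPmem : ∀ a : G, a ∈ P ↔ a ∈ f.K ∧ a * a * a = 1 ∧ a ≠ 1 := by
    intro a
    simp only [P, Finset.mem_image, Finset.mem_filter, Finset.mem_univ, true_and]
    constructor
    · rintro ⟨x, ⟨h3, h1⟩, rfl⟩
      refine ⟨(f.eK.symm x).2, ?_, ?_⟩
      · have := congrArg (fun y => ((f.eK.symm y : f.K) : G)) h3
        simpa using this
      · exact fun h => h1 (f.eK.symm.injective (Subtype.ext (by simpa using h)))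
    · rintro ⟨ha, h3, h1⟩
      refine ⟨f.eK ⟨a, ha⟩, ⟨?_, fun h => h1 ?_⟩, by simp⟩
      · rw [← map_mul, ← map_mul]
        have : (⟨a, ha⟩ * ⟨a, ha⟩ * ⟨a, ha⟩ : f.K) = 1 := Subtype.ext h3
        rw [this, map_one]
      · have := f.eK.injective (h.trans (map_one f.eK).symm)
        exact congrArg Subtype.val this
  have hPcard : P.card = 20 := by
    rw [Finset.card_image_of_injective _ (fun a b h => f.eK.symm.injective (Subtype.ext h))]
    exact card_order_three_SL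
  have hKcard : Nat.card f.K = 120 := by
    rw [Nat.card_congr f.eK.toEquiv, Nat.card_eq_fintype_card]
    decide +kernel
  have hw3 : f.w * f.w * f.w = 1 := by rw [← pow_three', f.w_cube]
  have hw1 : f.w ≠ 1 := fun h => f.not_mem_zpowers_swap.2.2.2 (by rw [h, inv_one])
  have hwz : ∀ g ∈ X, g * f.z * g⁻¹ = f.z := fun g hg =>
    mul_inv_eq_iff_eq_mul.2 (mem_centralizer_singleton_iff.1 hg.1)
  have hC0 : X ⊓ (centralizer ({f.z} : Set G) ⊓ centralizer ({f.w} : Set G)) = f.C0 :=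
    le_antisymm (fun g hg => ⟨hg.1, hg.2.2⟩) fun g hg => ⟨hg.1, hg.1.1, hg.2⟩
  have himg : (P.image fun a => (f.z, a)).card = 20 := by
    rw [Finset.card_image_of_injective _ (fun a b h => by simpa using h), hPcard]
  clear_value P
  rw [card_eq_pairs_mul X f.z f.w (P.image fun a => (f.z, a)), himg, hC0]
  · intro g hg
    refine Finset.mem_image.2 ⟨g * f.w * g⁻¹, (hPmem _).2
      ⟨(mem_normalizer_iff.1 (hXn g hg) _).1 f.w_mem_K, ?_, fun h => hw1 (by simpa using h)⟩,
      by rw [hwz g hg]⟩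
    calc g * f.w * g⁻¹ * (g * f.w * g⁻¹) * (g * f.w * g⁻¹)
        = g * (f.w * f.w * f.w) * g⁻¹ := by group
      _ = 1 := by rw [hw3, mul_one, mul_inv_cancel]
  · intro p hp
    obtain ⟨a, ha, rfl⟩ := Finset.mem_image.1 hp
    obtain ⟨haK, ha3, ha1⟩ := (hPmem a).1 ha
    have : Fact (Nat.Prime 3) := ⟨Nat.prime_three⟩
    have syl : ∀ x : f.K, x * x * x = 1 → x ≠ 1 → ∃ S : Sylow 3 f.K, (S : Subgroup f.K) = zpowers x := by
      intro x hx hne
      have ho : orderOf x = 3 := orderOf_eq_prime (by rw [pow_three', hx]) hne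
      have hS : Nat.card (zpowers x) = 3 ^ (Nat.card f.K).factorization 3 := by
        rw [Nat.card_zpowers, ho, hKcard]
        have h : (120 : ℕ).factorization 3 = 1 := by
          rw [show (120 : ℕ) = 3 * 40 from rfl, Nat.factorization_mul (by norm_num) (by norm_num)]
          simp [Nat.factorization_eq_zero_of_not_dvd, Nat.Prime.factorization_self Nat.prime_three]
        rw [h, pow_one]
      exact ⟨Sylow.ofCard (zpowers x) hS, Sylow.coe_ofCard _ _⟩
    obtain ⟨S1, hS1⟩ := syl ⟨f.w, f.w_mem_K⟩ (Subtype.ext hw3)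
      (fun h => hw1 (congrArg Subtype.val h))
    obtain ⟨S2, hS2⟩ := syl ⟨a, haK⟩ (Subtype.ext ha3) (fun h => ha1 (congrArg Subtype.val h))
    obtain ⟨g, hg⟩ := MulAction.exists_smul_eq f.K S1 S2
    have hgw : g * ⟨f.w, f.w_mem_K⟩ * g⁻¹ ∈ zpowers (⟨a, haK⟩ : f.K) := by
      rw [← hS2, ← hg]
      refine ⟨⟨f.w, f.w_mem_K⟩, ?_, rfl⟩
      rw [SetLike.mem_coe, hS1]; exact mem_zpowers _
    obtain ⟨n, hn⟩ := (mem_powers_iff_mem_zpowers.2 hgw)
    have hn' : (g : G) * f.w * (g : G)⁻¹ = a ^ n := (congrArg Subtype.val hn).symm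
    have h3a : a ^ 3 = 1 := by rw [pow_three', ha3]
    have hmod : (g : G) * f.w * (g : G)⁻¹ = a ^ (n % 3) := by rw [hn', pow_eq_pow_mod n h3a]
    have hlt : n % 3 < 3 := Nat.mod_lt _ (by norm_num)
    interval_cases hr : n % 3
    · exact absurd (by simpa using hmod) hw1
    · exact ⟨g, hKX g.2, by rw [hwz _ (hKX g.2), hmod, pow_one]⟩
    · refine ⟨g * f.k, mul_mem (hKX g.2) (hKX f.k_mem_K), ?_⟩
      rw [hwz _ (mul_mem (hKX g.2) (hKX f.k_mem_K))]
      have e : (g : G) * f.k * f.w * ((g : G) * f.k)⁻¹ =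
          (g : G) * (f.k * f.w * f.k⁻¹) * (g : G)⁻¹ := by group
      have e2 : (g : G) * f.w⁻¹ * (g : G)⁻¹ = ((g : G) * f.w * (g : G)⁻¹)⁻¹ := by group
      rw [e, f.k_w, e2, hmod, sq_eq_inv h3a, inv_inv]

end Frame

end CfsgLib.McLThreeLocal
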