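import Mathlib

/-!
Facts about `A₆` used to build the frame in the 3-local characterization of McL.
-/

set_option autoImplicit false
set_option maxRecDepth 20000

namespace CfsgLib.McLThreeLocal.FrameSix

open Equiv

/-- The element `(0 3 1 4)(2 5)` normalising the Sylow subgroup. -/
def r0 : Perm (Fin 6) := swap 0 4 * swap 0 1 * swap 0 3 * swap 2 5

/-- The involution `(0 1)(3 4)`. -/
def t1 : Perm (Fin 6) := swap 0 1 * swap 3 4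

/-- The involution `(0 3)(1 4)`. -/
def j1 : Perm (Fin 6) := swap 0 3 * swap 1 4

/-- The generators of the Sylow subgroup. -/
def a1 : Perm (Fin 6) := swap 0 2 * swap 0 1

/-- The second generator. -/
def b1 : Perm (Fin 6) := swap 3 5 * swap 3 4

/-- Membership in the Sylow subgroup `⟨a1, b1⟩`. -/
def InP0 (x : Perm (Fin 6)) : Prop := x * a1 = a1 * x ∧ x * b1 = b1 * x

instance (x : Perm (Fin 6)) : Decidable (InP0 x) := inferInstanceAs (Decidable (_ ∧ _))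

theorem basic : Perm.sign r0 = 1 ∧ Perm.sign t1 = 1 ∧ Perm.sign j1 = 1 ∧ Perm.sign a1 = 1 ∧
    Perm.sign b1 = 1 ∧ r0 * r0 = t1 ∧ t1 * t1 = 1 ∧ t1 ≠ 1 ∧ j1 * t1 = t1 * j1 ∧ j1 * j1 = 1 ∧
    j1 ≠ 1 ∧ j1 ≠ t1 ∧ r0 * a1 * r0⁻¹ = b1 ∧ r0 * b1 * r0⁻¹ = a1⁻¹ ∧ InP0 a1 ∧ InP0 b1 ∧
    ¬ (InP0 (j1 * a1 * j1⁻¹) ∧ InP0 (j1 * b1 * j1⁻¹)) := by
  decide +kernel

theorem P0_facts : ∀ x : Perm (Fin 6), InP0 x → Perm.sign x = 1 →
    x ^ 3 = 1 ∧ t1 * x * t1⁻¹ = x⁻¹ := by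
  decide +kernel

theorem card_P0 : (Finset.univ.filter fun x : Perm (Fin 6) => InP0 x ∧ Perm.sign x = 1).card = 9 := by
  decide +kernel

theorem cent_t1 : ∀ x : Perm (Fin 6), x * t1 = t1 * x → Perm.sign x = 1 →
    x ^ 4 = 1 ∧ (x = 1 ∨ x = t1 ∨ x * x = t1 ∨
      (x * x = 1 ∧ ¬ (InP0 (x * a1 * x⁻¹) ∧ InP0 (x * b1 * x⁻¹)))) := by
  decide +kernel

end CfsgLib.McLThreeLocal.FrameSix
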