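import Mathlib

/-!
Two facts about `SL(2,5)` used for the 3-local characterization of McL.
-/

set_option autoImplicit false
set_option maxRecDepth 20000
set_option maxHeartbeats 1000000

namespace CfsgLib.McLThreeLocal.SLFive

open Matrix MatrixGroups

/-- Row-major entries of a two by two matrix. -/
abbrev T := ZMod 5 × ZMod 5 × ZMod 5 × ZMod 5

/-- The product of entry tuples. -/
def tmul : T → T → T
  | (a, b, c, d), (e, f, g, h) => (a * e + b * g, a * f + b * h, c * e + d * g, c * f + d * h)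

/-- The inverse of an entry tuple of determinant one. -/
def tinv : T → T
  | (a, b, c, d) => (d, -b, -c, a)

/-- The entries of an element of `SL(2,5)`. -/
def ent (h : SL(2, ZMod 5)) : T := (h 0 0, h 0 1, h 1 0, h 1 1)

/-- The test elements. -/
def test : List T := [(0, 1, 4, 1), (0, 2, 2, 1), (1, 0, 0, 1), (1, 1, 2, 3)]

/-- The square roots of `-1` used for inverting elements of order three. -/
def roots : List T :=
  [(0, 1, 4, 0), (0, 2, 2, 0), (1, 1, 3, 4), (1, 2, 4, 4), (1, 3, 1, 4), (1, 4, 2, 4)]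

theorem list_det : (∀ g ∈ test, g.1 * g.2.2.2 - g.2.1 * g.2.2.1 = 1) ∧
    (∀ g ∈ roots, g.1 * g.2.2.2 - g.2.1 * g.2.2.1 = 1 ∧ tmul g g = (4, 0, 0, 4)) := by
  decide +kernel

theorem test_spec : ∀ a b c d : ZMod 5, a * d - b * c = 1 → (a, b, c, d) ≠ ((1, 0, 0, 1) : T) →
    (a, b, c, d) ≠ ((4, 0, 0, 4) : T) →
    ∃ g ∈ test,
      (let x := tmul (tmul (tmul (a, b, c, d) g) (a, b, c, d)) (tinv g)
       tmul (tmul x x) x) = (4, 0, 0, 4) := by
  decide +kernel

theorem roots_spec : ∀ a b c d : ZMod 5, a * d - b * c = 1 → (a, b, c, d) ≠ ((1, 0, 0, 1) : T) →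
    tmul (tmul (a, b, c, d) (a, b, c, d)) (a, b, c, d) = (1, 0, 0, 1) →
    ∃ g ∈ roots, tmul (tmul (a, b, c, d) g) (a, b, c, d) = g := by
  decide +kernel

theorem ent_injective : Function.Injective ent := fun g h e => by
  simp only [ent, Prod.mk.injEq] at e
  apply Subtype.ext
  ext i j
  fin_cases i <;> fin_cases j
  · exact e.1
  · exact e.2.1
  · exact e.2.2.1
  · exact e.2.2.2

theorem ent_mul (g h : SL(2, ZMod 5)) : ent (g * h) = tmul (ent g) (ent h) := by
  simp [ent, tmul, Matrix.mul_apply, Fin.sum_univ_two]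

theorem ent_inv (g : SL(2, ZMod 5)) : ent g⁻¹ = tinv (ent g) := by
  simp [ent, tinv, Matrix.SpecialLinearGroup.coe_inv, Matrix.adjugate_fin_two]

theorem ent_one : ent 1 = (1, 0, 0, 1) := by simp [ent]

theorem ent_neg_one : ent (-1) = (4, 0, 0, 4) := by
  simp [ent]; decide

theorem ent_det (h : SL(2, ZMod 5)) :
    (ent h).1 * (ent h).2.2.2 - (ent h).2.1 * (ent h).2.2.1 = 1 := by
  rw [ent]
  simp only
  rw [← Matrix.det_fin_two]
  exact h.2

theorem exists_of_ent (g : T) (hg : g.1 * g.2.2.2 - g.2.1 * g.2.2.1 = 1) :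
    ∃ G : SL(2, ZMod 5), ent G = g :=
  ⟨⟨!![g.1, g.2.1; g.2.2.1, g.2.2.2], by rw [Matrix.det_fin_two_of]; exact hg⟩, by simp [ent]⟩

/-- A normal subgroup avoiding `-1` is trivial, in the form of a witness. -/
theorem exists_witness (h : SL(2, ZMod 5)) (h1 : h ≠ 1) (h2 : h ≠ -1) :
    ∃ g : SL(2, ZMod 5), (h * g * h * g⁻¹) ^ 3 = -1 := by
  obtain ⟨g, hg, hp⟩ := test_spec _ _ _ _ (ent_det h)
    (fun hh => h1 (ent_injective (hh.trans ent_one.symm)))
    (fun hh => h2 (ent_injective (hh.trans ent_neg_one.symm)))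
  obtain ⟨G, rfl⟩ := exists_of_ent g (list_det.1 g hg)
  refine ⟨G, ent_injective ?_⟩
  rw [ent_neg_one, pow_succ, pow_two, ent_mul, ent_mul, ent_mul, ent_mul, ent_mul, ent_inv]
  exact hp

/-- An element of order three is inverted by a square root of `-1`. -/
theorem exists_root (h : SL(2, ZMod 5)) (h1 : h ≠ 1) (h3 : h ^ 3 = 1) :
    ∃ g : SL(2, ZMod 5), g * g = -1 ∧ h * g * h = g := by
  obtain ⟨g, hg, hp⟩ := roots_spec _ _ _ _ (ent_det h)
    (fun hh => h1 (ent_injective (hh.trans ent_one.symm)))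
    (by rw [← ent_one, ← h3, pow_succ, pow_two, ent_mul, ent_mul])
  obtain ⟨hdet, hsq⟩ := list_det.2 g hg
  obtain ⟨G, rfl⟩ := exists_of_ent g hdet
  refine ⟨G, ent_injective ?_, ent_injective ?_⟩
  · rw [ent_mul, hsq, ent_neg_one]
  · rw [ent_mul, ent_mul]; exact hp

end CfsgLib.McLThreeLocal.SLFive
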