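import Cfsg.Agent.Lib.McLThreeLocal.Defs
import Cfsg.Agent.Lib.McLThreeLocal.FrameSix
import Cfsg.Agent.Lib.McLThreeLocal.SLFive

/-!
First steps towards the frame inside `C(t)`: the element `w` and the involution `t` in `M`.
-/

set_option autoImplicit false
set_option linter.unusedSectionVars false
set_option linter.style.haveILetI false

namespace CfsgLib.McLThreeLocal

open Subgroup Equiv MatrixGroups

universe u

variable {G : Type u} [Group G] [Finite G]

theorem pow_cube_exp {x : G} (h : x ^ 3 = 1) : x⁻¹ = x * x := by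
  apply inv_eq_of_mul_eq_one_right
  rw [← mul_assoc]
  rwa [pow_succ, pow_two] at h

theorem eq_one_of_mul_self {x : G} (h : x ^ 3 = 1) (h2 : x * x = 1) : x = 1 := by
  rwa [pow_succ, pow_two, h2, one_mul] at h

theorem eq_one_of_eq_inv_cube {x : G} (h : x ^ 3 = 1) (h2 : x = x⁻¹) : x = 1 :=
  eq_one_of_mul_self h (eq_inv_iff_mul_eq_one.mp h2)

namespace Hyp

variable (h : Hyp G)

theorem Q_le_normZ_frame : h.Q ≤ normalizer (h.Z : Set G) := by
  rw [h.hQ]
  exact map_subtype_le _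

theorem M_le_normJ : h.M ≤ normalizer (h.J : Set G) := by
  rw [h.hM, closure_le]
  exact fun g hg => hg.1

theorem conj_mem_M {n g : G} (hn : n ∈ normalizer (h.J : Set G)) (hg : g ∈ h.M) :
    n * g * n⁻¹ ∈ h.M := by
  rw [h.hM] at hg ⊢
  induction hg using closure_induction with
  | mem x hx =>
    refine subset_closure ⟨mul_mem (mul_mem hn hx.1) (inv_mem hn), ?_⟩
    obtain ⟨k, hk⟩ := hx.2
    exact ⟨k, by rw [show n * x * n⁻¹ = MulAut.conj n x from rfl, MulEquiv.orderOf_eq, hk]⟩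
  | one => simp
  | mul x y _ _ hx hy => rw [conj_mul.symm]; exact mul_mem hx hy
  | inv x _ hx => rw [show n * x⁻¹ * n⁻¹ = (n * x * n⁻¹)⁻¹ by group]; exact inv_mem hx

end Hyp

namespace LocalZ

variable (l : LocalZ G)

theorem t_sq : l.t * l.t = 1 := by
  rw [← pow_two, ← l.t_order, pow_orderOf_eq_one]

theorem t_inv_eq : l.t⁻¹ = l.t := inv_eq_of_mul_eq_one_right l.t_sq

theorem z_cube : l.z ^ 3 = 1 := by rw [← l.z_order, pow_orderOf_eq_one]

theorem z_mem_Z : l.z ∈ l.Z := by rw [l.Z_eq]; exact mem_zpowers _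

theorem z_mem_J : l.z ∈ l.J := l.Z_le_J l.z_mem_Z

theorem z_ne_one : l.z ≠ 1 := fun h => by
  have := l.z_order
  rw [h, orderOf_one] at this
  omega

theorem commute_of_mem_Z {x g : G} (hx : x ∈ l.Z) (hg : g * l.z = l.z * g) : Commute g x := by
  rw [l.Z_eq] at hx
  obtain ⟨i, rfl⟩ := mem_zpowers_iff.mp hx
  exact (show Commute g l.z from hg).zpow_right i

theorem z_comm_S {s : G} (hs : s ∈ (l.S : Subgroup G)) : s * l.z = l.z * s := by
  have hz := l.z_mem_Z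
  rw [l.hZ] at hz
  exact mem_centralizer_iff.mp hz.2 s hs

theorem cent_z_normZ {g : G} (hg : g * l.z = l.z * g) : g ∈ normalizer (l.Z : Set G) := by
  have h : ∀ g : G, g * l.z = l.z * g → ∀ x ∈ l.Z, g * x * g⁻¹ ∈ l.Z := fun g hg x hx => by
    rw [(l.commute_of_mem_Z hx hg).eq, mul_inv_cancel_right]; exact hx
  rw [mem_normalizer_iff]
  refine fun x => ⟨h g hg x, fun hx => ?_⟩
  have h' := h g⁻¹ (show Commute g⁻¹ l.z from (show Commute g l.z from hg).inv_left) _ hx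
  rwa [show g⁻¹ * (g * x * g⁻¹) * g⁻¹⁻¹ = x by group] at h'

theorem cent_z_normQ {g : G} (hg : g * l.z = l.z * g) {a : G} (ha : a ∈ l.Q) :
    g * a * g⁻¹ ∈ l.Q :=
  (mem_normalizer_iff.mp (l.normZ_le (l.cent_z_normZ hg)) a).mp ha

theorem Q_comm_z {a : G} (ha : a ∈ l.Q) : a * l.z = l.z * a := l.z_comm_S (l.Q_le_S ha)

theorem eK_t : l.eK ⟨l.t, l.t_mem_K⟩ = -1 := by
  set τ := l.eK ⟨l.t, l.t_mem_K⟩ with hτ
  have h1 : τ ≠ 1 := fun h => by
    have h' : (⟨l.t, l.t_mem_K⟩ : l.K) = 1 := l.eK.injective (h.trans (map_one l.eK).symm)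
    have h'' := congrArg Subtype.val h'
    have ho := l.t_order
    rw [show l.t = 1 from h'', orderOf_one] at ho
    omega
  by_contra h2
  obtain ⟨g, hg⟩ := SLFive.exists_witness τ h1 h2
  have hc : τ * g = g * τ := by
    obtain ⟨g', rfl⟩ := l.eK.surjective g
    rw [hτ, ← map_mul, ← map_mul]
    exact congrArg l.eK (Subtype.ext (l.K_t g' g'.2).symm)
  have hsq : τ * τ = 1 := by
    rw [hτ, ← map_mul, show (⟨l.t, l.t_mem_K⟩ : l.K) * ⟨l.t, l.t_mem_K⟩ = 1 from Subtype.ext l.t_sq,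
      map_one]
  rw [show τ * g * τ * g⁻¹ = g * τ * τ * g⁻¹ by rw [hc], mul_assoc g τ τ, hsq, mul_one,
    mul_inv_cancel, one_pow] at hg
  have := congrArg SLFive.ent hg
  rw [SLFive.ent_one, SLFive.ent_neg_one] at this
  exact absurd this (by decide)

theorem Q_inf_K {x : G} (hQ : x ∈ l.Q) (hK : x ∈ l.K) : x = 1 := by
  have hz : x ∈ l.Z := l.centQt x hQ (l.K_t x hK).symm
  by_contra hne
  set τ := l.eK ⟨x, hK⟩ with hτ
  have hx3 : (⟨x, hK⟩ : l.K) ^ 3 = 1 := Subtype.ext (l.hQexp x hQ)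
  have hτ3 : τ ^ 3 = 1 := by rw [hτ, ← map_pow, hx3, map_one]
  have h1 : τ ≠ 1 := fun h => hne
    (congrArg Subtype.val (l.eK.injective (h.trans (map_one l.eK).symm)))
  have hm : (-1 : SL(2, ZMod 5)) ≠ 1 := fun h => by
    have := congrArg SLFive.ent h
    rw [SLFive.ent_one, SLFive.ent_neg_one] at this
    exact absurd this (by decide)
  have h2 : τ ≠ -1 := fun h => by
    apply hm
    rw [h] at hτ3
    have := congrArg SLFive.ent hτ3
    rw [pow_succ, pow_two, SLFive.ent_mul, SLFive.ent_mul, SLFive.ent_neg_one, SLFive.ent_one] at this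
    exact absurd this (by decide)
  obtain ⟨g, hg⟩ := SLFive.exists_witness τ h1 h2
  have hc : τ * g = g * τ := by
    obtain ⟨g', rfl⟩ := l.eK.surjective g
    rw [hτ, ← map_mul, ← map_mul]
    exact congrArg l.eK (Subtype.ext (l.commute_of_mem_Z hz (l.K_z g' g'.2)).eq.symm)
  rw [show τ * g * τ * g⁻¹ = g * τ * τ * g⁻¹ by rw [hc],
    show (g * τ * τ * g⁻¹) ^ 3 = g * ((τ ^ 3) * (τ ^ 3)) * g⁻¹ by
      rw [mul_assoc g τ τ, conj_pow, (Commute.refl τ).mul_pow], hτ3, mul_one, mul_one,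
    mul_inv_cancel] at hg
  exact hm hg.symm

theorem S_split {s : G} (hs : s ∈ (l.S : Subgroup G)) :
    ∃ a ∈ l.Q, ∃ h, h ∈ l.K ∧ h ∈ (l.S : Subgroup G) ∧ s = a * h := by
  obtain ⟨a, ha, h, hh, rfl⟩ := l.L_split s (l.S_le_L hs)
  refine ⟨a, ha, h, hh, ?_, rfl⟩
  have := mul_mem (inv_mem (l.Q_le_S ha)) hs
  rwa [inv_mul_cancel_left] at this

theorem card_W : Nat.card ↥((l.S : Subgroup G) ⊓ l.K) = 3 := by
  let f : l.Q × ↥((l.S : Subgroup G) ⊓ l.K) → (l.S : Subgroup G) := fun p =>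
    ⟨(p.1 : G) * p.2, mul_mem (l.Q_le_S p.1.2) p.2.2.1⟩
  have hf : Function.Bijective f := by
    constructor
    · intro p q h
      have h' : (p.1 : G) * p.2 = q.1 * q.2 := congrArg Subtype.val h
      have h1 : (q.1 : G)⁻¹ * p.1 = q.2 * (p.2 : G)⁻¹ := by
        rw [inv_mul_eq_iff_eq_mul, ← mul_assoc, eq_mul_inv_iff_mul_eq, h']
      have hone := l.Q_inf_K (mul_mem (inv_mem q.1.2) p.1.2)
        (h1 ▸ mul_mem q.2.2.2 (inv_mem p.2.2.2))
      have e1 : (p.1 : G) = q.1 := (inv_mul_eq_one.mp hone).symm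
      rw [e1] at h'
      exact Prod.ext (Subtype.ext e1) (Subtype.ext (mul_left_cancel h'))
    · intro s
      obtain ⟨a, ha, h, hK, hS, e⟩ := l.S_split s.2
      exact ⟨(⟨a, ha⟩, ⟨h, hS, hK⟩), Subtype.ext e.symm⟩
  have h := Nat.card_eq_of_bijective f hf
  rw [Nat.card_prod, l.S_card, l.hQcard] at h
  omega

theorem exists_w : ∃ w : G, w ∈ l.K ∧ w ∈ (l.S : Subgroup G) ∧ orderOf w = 3 ∧
    ∀ s ∈ (l.S : Subgroup G), ∃ a ∈ l.Q, ∃ i : ℕ, s = a * w ^ i := by
  haveI : Fact (Nat.Prime 3) := ⟨Nat.prime_three⟩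
  set W := (l.S : Subgroup G) ⊓ l.K with hW
  obtain ⟨w, hw⟩ := exists_prime_orderOf_dvd_card' (G := W) 3 (by rw [hW, l.card_W])
  refine ⟨w, w.2.2, w.2.1, by rw [Subgroup.orderOf_coe, hw], fun s hs => ?_⟩
  obtain ⟨a, ha, h, hK, hS, e⟩ := l.S_split hs
  have hmem : (⟨h, hS, hK⟩ : W) ∈ zpowers w := by
    rw [Subgroup.eq_top_of_card_eq (zpowers w) (by rw [Nat.card_zpowers, hw, hW, l.card_W])]
    exact mem_top _
  obtain ⟨i, hi⟩ := (Submonoid.mem_powers_iff _ _).mp (mem_powers_iff_mem_zpowers.mpr hmem)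
  refine ⟨a, ha, i, ?_⟩
  rw [e]
  have := congrArg Subtype.val hi
  simp only [SubmonoidClass.coe_pow] at this
  rw [this]

theorem K_conj_S {g : G} (hz : g * l.z = l.z * g) {w : G} (hw : ∀ s ∈ (l.S : Subgroup G),
      ∃ a ∈ l.Q, ∃ i : ℕ, s = a * w ^ i) (hgw : g * w * g⁻¹ ∈ (l.S : Subgroup G))
    {s : G} (hs : s ∈ (l.S : Subgroup G)) : g * s * g⁻¹ ∈ (l.S : Subgroup G) := by
  obtain ⟨a, ha, i, rfl⟩ := hw s hs
  rw [← conj_mul, ← conj_pow]
  exact mul_mem (l.Q_le_S (l.cent_z_normQ hz ha)) (pow_mem hgw i)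

theorem conj_J {g : G} (hS : ∀ s ∈ (l.S : Subgroup G), g * s * g⁻¹ ∈ (l.S : Subgroup G))
    {x : G} (hx : x ∈ l.J) : g * x * g⁻¹ ∈ l.J := by
  have hA := l.J_only (l.J.map (MulAut.conj g).toMonoidHom)
    (by rintro _ ⟨y, hy, rfl⟩; exact hS y (l.hJS hy))
    (by rw [card_map_of_injective (MulAut.conj g).injective, l.hJcard])
    (by
      rintro _ ⟨a, ha, rfl⟩ _ ⟨b, hb, rfl⟩
      rw [← map_mul, ← map_mul, l.hJcomm a ha b hb])
  rw [← hA]
  exact ⟨x, hx, rfl⟩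

theorem normJ_of_conj_S {g : G} (hS : ∀ s ∈ (l.S : Subgroup G), g * s * g⁻¹ ∈ (l.S : Subgroup G)) :
    g ∈ normalizer (l.J : Set G) := by
  rw [mem_normalizer_iff]
  refine fun x => ⟨l.conj_J hS, fun hx => ?_⟩
  have hJeq : l.J.map (MulAut.conj g).toMonoidHom = l.J :=
    Subgroup.eq_of_le_of_card_ge (by rintro _ ⟨y, hy, rfl⟩; exact l.conj_J hS hy)
      (by rw [card_map_of_injective (MulAut.conj g).injective])
  rw [← hJeq] at hx
  obtain ⟨y, hy, e⟩ := hx
  exact ((MulAut.conj g).injective e) ▸ hy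

/-- `w` lies in `J` and `C_J(t) = ⟨z, w⟩`. -/
theorem w_facts {w : G} (hwK : w ∈ l.K) (hwS : w ∈ (l.S : Subgroup G)) (hw3 : orderOf w = 3)
    (hw : ∀ s ∈ (l.S : Subgroup G), ∃ a ∈ l.Q, ∃ i : ℕ, s = a * w ^ i) :
    w ∈ l.J ∧ l.t ∈ normalizer (l.J : Set G) ∧
      (∀ a : G, a ∈ closure ({l.z, w} : Set G) ↔ a ∈ l.J ∧ a * l.t = l.t * a) ∧
      (∀ a ∈ l.J, a * l.t = l.t * a → ∃ i j : ℕ, a = l.z ^ i * w ^ j) := by
  have hwt : Commute w l.t := l.K_t w hwK
  have hw1 : w ^ 3 = 1 := by rw [← hw3, pow_orderOf_eq_one]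
  have hCS : ∀ s ∈ (l.S : Subgroup G), s * l.t = l.t * s → ∃ i j : ℕ, s = l.z ^ i * w ^ j := by
    intro s hs hst
    obtain ⟨a, ha, j, rfl⟩ := hw s hs
    have hat : Commute a l.t := by
      have := (show Commute (a * w ^ j) l.t from hst).mul_left (hwt.pow_left j).inv_left
      rwa [mul_inv_cancel_right] at this
    have haZ := l.centQt a ha hat.eq.symm
    rw [l.Z_eq] at haZ
    obtain ⟨i, hi⟩ := (Submonoid.mem_powers_iff _ _).mp (mem_powers_iff_mem_zpowers.mpr haZ)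
    exact ⟨i, j, by rw [← hi]⟩
  have htS : ∀ s ∈ (l.S : Subgroup G), l.t * s * l.t⁻¹ ∈ (l.S : Subgroup G) := fun s hs =>
    l.K_conj_S l.tz hw (by rw [← hwt.eq, mul_inv_cancel_right]; exact hwS) hs
  have hwJ : w ∈ l.J := by
    by_contra hwJ
    apply absurd l.JQ_sup
    intro hsup
    have hJQ : l.J ≤ l.Q := by
      intro d hd
      obtain ⟨a, ha, i, rfl⟩ := hw d (l.hJS hd)
      set d' := l.t * (a * w ^ i) * l.t⁻¹ with hd'
      have hd'J : d' ∈ l.J := l.conj_J htS hd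
      set p := a * w ^ i * d' with hp
      have hpJ : p ∈ l.J := mul_mem hd hd'J
      have hpt : p * l.t = l.t * p := by
        have e : l.t * p * l.t⁻¹ = p := by
          calc l.t * p * l.t⁻¹ = d' * ((l.t * l.t) * (a * w ^ i) * (l.t * l.t)⁻¹) := by
                rw [hp, hd']; group
            _ = d' * (a * w ^ i) := by rw [l.t_sq]; group
            _ = p := l.hJcomm d' hd'J _ hd
        exact (mul_inv_eq_iff_eq_mul.mp e).symm
      obtain ⟨i', j', hij⟩ := hCS p (l.hJS hpJ) hpt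
      have hconj : d' = (l.t * a * l.t⁻¹) * w ^ i := by
        rw [hd', show l.t * (a * w ^ i) * l.t⁻¹ = l.t * a * (w ^ i * l.t⁻¹) by group,
          ((hwt.pow_left i).inv_right).eq]
        group
      have hwjJ : w ^ j' ∈ l.J := by
        have := mul_mem (inv_mem (pow_mem l.z_mem_J i')) hpJ
        rwa [hij, inv_mul_cancel_left] at this
      have hj'3 : w ^ j' = 1 := by
        rcases Nat.lt_or_ge 0 (j' % 3) with hpos | hz0
        · exfalso
          apply hwJ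
          have hcop : Nat.Coprime j' 3 := by
            rw [Nat.coprime_comm, Nat.Prime.coprime_iff_not_dvd Nat.prime_three]
            omega
          obtain ⟨m, hm⟩ := exists_pow_eq_self_of_coprime (x := w) (by rw [hw3]; exact hcop)
          rw [← hm]
          exact pow_mem hwjJ m
        · rw [pow_eq_pow_mod j' hw1, show j' % 3 = 0 by omega, pow_zero]
      rw [hj'3, mul_one] at hij
      have hb : w ^ i * (l.t * a * l.t⁻¹) * (w ^ i)⁻¹ ∈ l.Q :=
        l.cent_z_normQ ((l.z_comm_S (pow_mem hwS i))) (l.cent_z_normQ l.tz ha)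
      have hw2Q : w ^ i * w ^ i ∈ l.Q := by
        have h1 : w ^ i * w ^ i = (a * (w ^ i * (l.t * a * l.t⁻¹) * (w ^ i)⁻¹))⁻¹ * p := by
          rw [hp, hconj]; group
        rw [h1]
        exact mul_mem (inv_mem (mul_mem ha hb)) (hij ▸ pow_mem (l.Z_le_Q l.z_mem_Z) i')
      have h2 := l.Q_inf_K hw2Q (mul_mem (pow_mem hwK i) (pow_mem hwK i))
      have hi3 : (w ^ i) ^ 3 = 1 := by rw [pow_right_comm, hw1, one_pow]
      rw [eq_one_of_mul_self hi3 h2, mul_one]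
      exact ha
    have h3 := Nat.card_congr (MulEquiv.subgroupCongr (inf_eq_left.mpr hJQ)).toEquiv
    rw [l.JQ_card, l.hJcard] at h3
    omega
  have hfwd : ∀ a : G, a ∈ closure ({l.z, w} : Set G) → a ∈ l.J ∧ a * l.t = l.t * a := by
    intro a ha
    have hle : closure ({l.z, w} : Set G) ≤ l.J ⊓ centralizer ({l.t} : Set G) := by
      rw [closure_le]
      rintro x (rfl | rfl)
      · exact ⟨l.z_mem_J, mem_centralizer_singleton_iff.mpr l.tz.symm⟩
      · exact ⟨hwJ, mem_centralizer_singleton_iff.mpr hwt.eq⟩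
    exact ⟨(hle ha).1, mem_centralizer_singleton_iff.mp (hle ha).2⟩
  refine ⟨hwJ, l.normJ_of_conj_S htS, fun a => ⟨hfwd a, fun ha => ?_⟩,
    fun a ha hat => hCS a (l.hJS ha) hat⟩
  obtain ⟨i, j, rfl⟩ := hCS a (l.hJS ha.1) ha.2
  exact mul_mem (pow_mem (subset_closure (by simp)) i) (pow_mem (subset_closure (by simp)) j)

end LocalZ

end CfsgLib.McLThreeLocal
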