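import Cfsg.Agent.Lib.McLThreeLocal.FrameProj

/-!
The involution `t` lies in `M`.
-/

set_option autoImplicit false
set_option linter.unusedSectionVars false
set_option linter.style.haveILetI false

namespace CfsgLib.McLThreeLocal

open Subgroup Equiv FrameSix MatrixGroups

universe u

variable {G : Type u} [Group G] [Finite G]

theorem normalizer_of_conj_mem {H : Subgroup G} {g : G} (hg : ∀ x ∈ H, g * x * g⁻¹ ∈ H) :
    g ∈ normalizer (H : Set G) := by
  rw [mem_normalizer_iff]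
  refine fun x => ⟨hg x, fun hx => ?_⟩
  have hHeq : H.map (MulAut.conj g).toMonoidHom = H :=
    Subgroup.eq_of_le_of_card_ge (by rintro _ ⟨y, hy, rfl⟩; exact hg y hy)
      (by rw [card_map_of_injective (MulAut.conj g).injective])
  rw [← hHeq] at hx
  obtain ⟨y, hy, e⟩ := hx
  exact ((MulAut.conj g).injective e) ▸ hy

theorem conj_r0_InP0 {x : Perm (Fin 6)} (hx : InP0 x) : InP0 (r0 * x * r0⁻¹) := by
  obtain ⟨-, -, -, -, -, -, -, -, -, -, -, -, hra, hrb, -⟩ := FrameSix.basic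
  have h1 : Commute x a1 := hx.1
  have h2 : Commute x b1 := hx.2
  have ha := h1.map (MulAut.conj r0).toMonoidHom
  have hb := h2.map (MulAut.conj r0).toMonoidHom
  simp only [MulEquiv.coe_toMonoidHom, MulAut.conj_apply, hra, hrb] at ha hb
  exact ⟨by simpa using (Commute.inv_right hb).eq, ha.eq⟩

namespace LocalZ

variable (l : LocalZ G)

/-- An element of `N_M(S)` lifting `r0`; its square centralises `z` and acts trivially on `S/Q`. -/
theorem exists_lift_t1 (π : Proj l.toHyp) {w : G} (hwK : w ∈ l.K)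
    (hwS : w ∈ (l.S : Subgroup G)) (hw3 : orderOf w = 3)
    (hw : ∀ s ∈ (l.S : Subgroup G), ∃ a ∈ l.Q, ∃ i : ℕ, s = a * w ^ i) :
    ∃ u ∈ l.M, π.map u = t1 ∧ (∀ s ∈ (l.S : Subgroup G), u * s * u⁻¹ ∈ (l.S : Subgroup G)) ∧
      u * l.z = l.z * u ∧ ∃ b ∈ l.Q, u * w * u⁻¹ = b * w := by
  obtain ⟨hr0, -, -, -, -, hrr, -⟩ := FrameSix.basic
  obtain ⟨r, hr, hπr⟩ := π.surj_map r0 hr0
  have hrS : ∀ s ∈ (l.S : Subgroup G), r * s * r⁻¹ ∈ (l.S : Subgroup G) := by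
    intro s hs
    rw [← π.syl_map _ (mul_mem (mul_mem hr (l.S_le_M hs)) (inv_mem hr)),
      π.map_conj hr (l.S_le_M hs), hπr]
    exact conj_r0_InP0 ((π.syl_map s (l.S_le_M hs)).mpr hs)
  have hrZ : ∀ x ∈ l.Z, r * x * r⁻¹ ∈ l.Z := by
    intro x hx
    rw [l.hZ] at hx ⊢
    refine ⟨hrS x hx.1, mem_centralizer_iff.mpr fun s hs => ?_⟩
    have hs' : r⁻¹ * s * r⁻¹⁻¹ ∈ (l.S : Subgroup G) := by
      have hn := inv_mem (normalizer_of_conj_mem hrS)
      exact (mem_normalizer_iff.mp hn s).mp hs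
    have e := mem_centralizer_iff.mp hx.2 _ hs'
    have e' : Commute (r⁻¹ * s * r⁻¹⁻¹) x := e
    have := e'.map (MulAut.conj r).toMonoidHom
    simp only [MulEquiv.coe_toMonoidHom, MulAut.conj_apply] at this
    rw [show r * (r⁻¹ * s * r⁻¹⁻¹) * r⁻¹ = s by group] at this
    exact this.eq
  have hrQ : ∀ a ∈ l.Q, r * a * r⁻¹ ∈ l.Q := fun a ha =>
    (mem_normalizer_iff.mp (l.normZ_le (normalizer_of_conj_mem hrZ)) a).mp ha
  refine ⟨r * r, mul_mem hr hr, by rw [π.map_mul' r hr r hr, hπr, hrr], fun s hs => by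
    rw [show r * r * s * (r * r)⁻¹ = r * (r * s * r⁻¹) * r⁻¹ by group]
    exact hrS _ (hrS s hs), ?_, ?_⟩
  · have hz := hrZ _ l.z_mem_Z
    rw [l.Z_eq] at hz
    obtain ⟨i, hi⟩ := (Submonoid.mem_powers_iff _ _).mp (mem_powers_iff_mem_zpowers.mpr hz)
    have hi3 : i % 3 ≠ 0 := by
      intro h0
      rw [pow_eq_pow_mod i l.z_cube, h0, pow_zero, eq_comm, conj_eq_one_iff] at hi
      exact l.z_ne_one hi
    have e : r * r * l.z * (r * r)⁻¹ = l.z := by
      rw [show r * r * l.z * (r * r)⁻¹ = r * (r * l.z * r⁻¹) * r⁻¹ by group, ← hi, ← conj_pow,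
        ← hi, ← pow_mul, pow_eq_pow_mod (i * i) l.z_cube, Nat.mul_mod]
      rcases (show i % 3 = 1 ∨ i % 3 = 2 by omega) with h | h <;> rw [h] <;> simp
    exact mul_inv_eq_iff_eq_mul.mp e
  · obtain ⟨a, ha, i, hi⟩ := hw _ (hrS w hwS)
    have hw1 : w ^ 3 = 1 := by rw [← hw3, pow_orderOf_eq_one]
    have hi3 : i % 3 ≠ 0 := by
      intro h0
      rw [pow_eq_pow_mod i hw1, h0, pow_zero, mul_one] at hi
      have hwQ : w ∈ l.Q :=
        (mem_normalizer_iff.mp (l.normZ_le (normalizer_of_conj_mem hrZ)) w).mpr (hi ▸ ha)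
      have := l.Q_inf_K hwQ hwK
      rw [this, orderOf_one] at hw3
      omega
    have key : ∀ m : ℕ, ∃ c ∈ l.Q, (a * w ^ i) ^ m = c * w ^ (i * m) := by
      intro m
      induction m with
      | zero => exact ⟨1, one_mem _, by simp⟩
      | succ m ih =>
        obtain ⟨c, hc, e⟩ := ih
        refine ⟨c * (w ^ (i * m) * a * (w ^ (i * m))⁻¹),
          mul_mem hc (l.cent_z_normQ (l.z_comm_S (pow_mem hwS _)) ha), ?_⟩
        rw [pow_succ, e, Nat.mul_succ, pow_add]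
        group
    obtain ⟨c, hc, e⟩ := key i
    have hi1 : w ^ (i * i) = w := by
      rw [pow_eq_pow_mod (i * i) hw1, Nat.mul_mod]
      rcases (show i % 3 = 1 ∨ i % 3 = 2 by omega) with h | h <;> rw [h] <;> simp
    refine ⟨r * a * r⁻¹ * c, mul_mem (hrQ a ha) hc, ?_⟩
    rw [show r * r * w * (r * r)⁻¹ = r * (r * w * r⁻¹) * r⁻¹ by group, hi, ← conj_mul,
      ← conj_pow, hi, e, hi1]
    group

/-- An involution of `C_M(t)` centralising `z` and `w`, inverting `S/J`. -/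
theorem exists_involution (π : Proj l.toHyp) {w : G} (hwK : w ∈ l.K)
    (hwS : w ∈ (l.S : Subgroup G)) (hw3 : orderOf w = 3)
    (hw : ∀ s ∈ (l.S : Subgroup G), ∃ a ∈ l.Q, ∃ i : ℕ, s = a * w ^ i) :
    ∃ m ∈ l.M, ∃ p, InP0 p ∧ Perm.sign p = 1 ∧ π.map m = p * t1 ∧ m * m = 1 ∧ m ≠ 1 ∧
      m * l.z = l.z * m ∧ m * l.t = l.t * m ∧
      ∀ s ∈ (l.S : Subgroup G), m * s * m⁻¹ ∈ (l.S : Subgroup G) := by
  obtain ⟨hwJ, -, -, hCJ⟩ := l.w_facts hwK hwS hw3 hw
  obtain ⟨u, hu, hπu, huS, huz, b, hb, hub⟩ := l.exists_lift_t1 π hwK hwS hw3 hw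
  obtain ⟨a, ha, n, hnZ, hnt, e⟩ := l.normZ_split u (l.cent_z_normZ huz)
  have hn : n = a⁻¹ * u := by rw [e, inv_mul_cancel_left]
  have haS := l.Q_le_S ha
  have haM := l.S_le_M haS
  have hnM : n ∈ l.M := hn ▸ mul_mem (inv_mem haM) hu
  have hnz : n * l.z = l.z * n := by
    rw [hn]
    exact (show Commute a l.z from l.Q_comm_z ha).inv_left.mul_left huz
  have hnS : ∀ s ∈ (l.S : Subgroup G), n * s * n⁻¹ ∈ (l.S : Subgroup G) := by
    intro s hs
    rw [hn, show a⁻¹ * u * s * (a⁻¹ * u)⁻¹ = a⁻¹ * (u * s * u⁻¹) * a by group]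
    exact mul_mem (mul_mem (inv_mem haS) (huS s hs)) haS
  have hnw : n * w = w * n := by
    have hK : n * w * n⁻¹ ∈ l.K := (mem_normalizer_iff.mp (l.K_normal n hnZ hnt) w).mp hwK
    obtain ⟨a', ha', j, hj⟩ := hw _ (hnS w hwS)
    have ha1 : a' = 1 := l.Q_inf_K ha' (by
      have := mul_mem hK (inv_mem (pow_mem hwK j))
      rwa [hj, mul_inv_cancel_right] at this)
    rw [ha1, one_mul] at hj
    have hq : a⁻¹ * b * (w * a * w⁻¹) = w ^ j * w⁻¹ := by
      rw [← hj, hn, show a⁻¹ * u * w * (a⁻¹ * u)⁻¹ * w⁻¹ = a⁻¹ * (u * w * u⁻¹) * a * w⁻¹ by group,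
        hub]
      group
    have h1 := l.Q_inf_K (x := w ^ j * w⁻¹)
      (hq ▸ mul_mem (mul_mem (inv_mem ha) hb) (l.cent_z_normQ (l.z_comm_S hwS) ha))
      (mul_mem (pow_mem hwK j) (inv_mem hwK))
    rw [mul_inv_eq_one.mp h1] at hj
    exact mul_inv_eq_iff_eq_mul.mp hj
  obtain ⟨-, st1, -, -, -, -, ht1, ht1', -⟩ := FrameSix.basic
  have hp : InP0 (π.map a) := (π.syl_map a haM).mpr haS
  have hpi : InP0 (π.map a)⁻¹ :=
    ⟨(show Commute _ _ from hp.1).inv_left, (show Commute _ _ from hp.2).inv_left⟩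
  have hπn : π.map n = (π.map a)⁻¹ * t1 := by
    rw [hn, π.map_mul' _ (inv_mem haM) _ hu, π.map_inv haM, hπu]
  have hinv := (P0_facts _ hpi (by rw [Perm.sign_inv, π.sign_map])).2
  have hnn : n * n ∈ l.J := by
    rw [← π.ker_map _ (mul_mem hnM hnM), π.map_mul' _ hnM _ hnM, hπn]
    have : t1⁻¹ = t1 := inv_eq_of_mul_eq_one_right ht1
    calc (π.map a)⁻¹ * t1 * ((π.map a)⁻¹ * t1)
        = (π.map a)⁻¹ * (t1 * (π.map a)⁻¹ * t1⁻¹) := by rw [this]; group
      _ = 1 := by rw [hinv, inv_inv, inv_mul_cancel]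
  have hnt2 : n * n * l.t = l.t * (n * n) := (show Commute n l.t from hnt).mul_left hnt
  have hn6 : (n ^ 3) * (n ^ 3) = 1 := by
    have := l.hJexp _ hnn
    rw [← pow_two, ← pow_mul] at this
    rw [← pow_add]
    exact this
  refine ⟨n ^ 3, pow_mem hnM 3, (π.map a)⁻¹, hpi, by rw [Perm.sign_inv, π.sign_map], ?_, hn6, ?_,
    (show Commute n l.z from hnz).pow_left 3, (show Commute n l.t from hnt).pow_left 3, ?_⟩
  · rw [pow_succ, pow_two, π.map_mul' _ (mul_mem hnM hnM) _ hnM,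
      (π.ker_map _ (mul_mem hnM hnM)).mpr hnn, one_mul, hπn]
  · intro h1
    have h1' : π.map (n ^ 3) = 1 := by rw [h1, π.map_one]
    rw [pow_succ, pow_two, π.map_mul' _ (mul_mem hnM hnM) _ hnM,
      (π.ker_map _ (mul_mem hnM hnM)).mpr hnn, one_mul, hπn, inv_mul_eq_one] at h1'
    have h3 := (P0_facts _ hp (π.sign_map a)).1
    rw [h1', pow_succ, pow_two, ht1, one_mul] at h3
    exact ht1' h3
  · intro s hs
    rw [pow_succ, pow_two, show n * n * n * s * (n * n * n)⁻¹ =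
      n * (n * (n * s * n⁻¹) * n⁻¹) * n⁻¹ by group]
    exact hnS _ (hnS _ (hnS s hs))

end LocalZ

end CfsgLib.McLThreeLocal
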