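import Cfsg.Agent.Lib.McLThreeLocal.FrameBase

/-!
A projection of `M` onto `A₆` that sends `S` to the fixed Sylow subgroup `P₀`.
-/

set_option autoImplicit false
set_option linter.unusedSectionVars false
set_option linter.style.haveILetI false

namespace CfsgLib.McLThreeLocal

open Subgroup Equiv FrameSix
open scoped Pointwise

universe u

variable {G : Type u} [Group G] [Finite G]

/-- `φM` as a total function, composed with a conjugation putting `S` at `P₀`. -/
structure Proj (h : Hyp G) where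
  map : G → Perm (Fin 6)
  map_mul' : ∀ a ∈ h.M, ∀ b ∈ h.M, map (a * b) = map a * map b
  sign_map : ∀ a, Perm.sign (map a) = 1
  ker_map : ∀ a ∈ h.M, (map a = 1 ↔ a ∈ h.J)
  surj_map : ∀ x : Perm (Fin 6), Perm.sign x = 1 → ∃ a ∈ h.M, map a = x
  syl_map : ∀ a ∈ h.M, (InP0 (map a) ↔ a ∈ (h.S : Subgroup G))

namespace Proj

variable {h : Hyp G} (π : Proj h)

theorem map_one : π.map 1 = 1 := (π.ker_map 1 (one_mem _)).mpr (one_mem _)

theorem map_inv {a : G} (ha : a ∈ h.M) : π.map a⁻¹ = (π.map a)⁻¹ := by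
  apply eq_inv_of_mul_eq_one_left
  rw [← π.map_mul' _ (inv_mem ha) _ ha, inv_mul_cancel, π.map_one]

theorem map_conj {a b : G} (ha : a ∈ h.M) (hb : b ∈ h.M) :
    π.map (a * b * a⁻¹) = π.map a * π.map b * (π.map a)⁻¹ := by
  rw [π.map_mul' _ (mul_mem ha hb) _ (inv_mem ha), π.map_mul' _ ha _ hb, π.map_inv ha]

theorem map_pow {a : G} (ha : a ∈ h.M) (n : ℕ) : π.map (a ^ n) = π.map a ^ n := by
  induction n with
  | zero => rw [pow_zero, pow_zero, π.map_one]
  | succ n ih => rw [pow_succ, pow_succ, π.map_mul' _ (pow_mem ha n) _ ha, ih]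

/-- Conjugating a projection by an element of `P₀`. -/
def conjP0 (p : Perm (Fin 6)) (hp : InP0 p) : Proj h where
  map a := p * π.map a * p⁻¹
  map_mul' a ha b hb := by rw [π.map_mul' a ha b hb]; group
  sign_map a := by rw [Perm.sign_mul, Perm.sign_mul, π.sign_map, mul_one, Perm.sign_inv,
    ← sq, Int.units_sq]
  ker_map a ha := by
    rw [← π.ker_map a ha]
    refine ⟨fun e => ?_, fun e => by rw [e]; group⟩
    rw [mul_inv_eq_one, mul_eq_left] at e
    exact e
  surj_map x hx := by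
    obtain ⟨a, ha, e⟩ := π.surj_map (p⁻¹ * x * p) (by
      rw [Perm.sign_mul, Perm.sign_mul, hx, mul_one, Perm.sign_inv, ← sq, Int.units_sq])
    exact ⟨a, ha, by rw [e]; group⟩
  syl_map a ha := by
    rw [← π.syl_map a ha]
    have hc : ∀ g : Perm (Fin 6), p * g = g * p →
        ((p * π.map a * p⁻¹) * g = g * (p * π.map a * p⁻¹) ↔ π.map a * g = g * π.map a) := by
      intro g hg
      have hg' : p⁻¹ * g = g * p⁻¹ := (show Commute p g from hg).inv_left
      rw [mul_assoc _ p⁻¹, hg', ← mul_assoc g, ← mul_assoc g, ← hg, ← mul_assoc, mul_left_inj,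
        mul_assoc, mul_assoc, mul_right_inj]
    exact and_congr (hc a1 hp.1) (hc b1 hp.2)

end Proj

/-- `P₀` as a subgroup of `A₆`. -/
def P0sub : Subgroup (alternatingGroup (Fin 6)) where
  carrier := {x | InP0 (x : Perm (Fin 6))}
  one_mem' := ⟨by simp, by simp⟩
  mul_mem' := fun {x y} hx hy =>
    ⟨(show Commute _ _ from hx.1).mul_left hy.1, (show Commute _ _ from hx.2).mul_left hy.2⟩
  inv_mem' := fun {x} hx =>
    ⟨(show Commute _ _ from hx.1).inv_left, (show Commute _ _ from hx.2).inv_left⟩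

theorem card_P0sub : Nat.card P0sub = 9 := by
  rw [← card_P0, ← Nat.card_eq_finsetCard]
  exact Nat.card_congr
    { toFun := fun x => ⟨(x.1 : Perm (Fin 6)), Finset.mem_filter.mpr
        ⟨Finset.mem_univ _, x.2, Perm.mem_alternatingGroup.mp x.1.2⟩⟩
      invFun := fun x => ⟨⟨x.1, Perm.mem_alternatingGroup.mpr (Finset.mem_filter.mp x.2).2.2⟩,
        (Finset.mem_filter.mp x.2).2.1⟩
      left_inv := fun x => rfl
      right_inv := fun x => rfl }

theorem Hyp.exists_proj (h : Hyp G) (hSM : (h.S : Subgroup G) ≤ h.M) : Nonempty (Proj h) := by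
  haveI : Fact (Nat.Prime 3) := ⟨Nat.prime_three⟩
  have h9 : IsPGroup 3 P0sub := IsPGroup.of_card (n := 2) (by rw [card_P0sub]; rfl)
  have hidx : ¬ 3 ∣ P0sub.index := by
    have e := P0sub.card_mul_index
    rw [card_P0sub, nat_card_alternatingGroup, Nat.card_fin,
      show Nat.factorial 6 / 2 = 360 by rfl] at e
    omega
  have hT : IsPGroup 3 (((h.S : Subgroup G).subgroupOf h.M).map h.φM) :=
    (h.S.isPGroup'.comap_of_injective h.M.subtype (subtype_injective _)).map h.φM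
  obtain ⟨P', hP'⟩ := hT.exists_le_sylow
  obtain ⟨g, hg⟩ := MulAction.exists_smul_eq (alternatingGroup (Fin 6)) P' (h9.toSylow hidx)
  have hgP : MulAut.conj g • (P' : Subgroup (alternatingGroup (Fin 6))) = P0sub := by
    rw [← Sylow.coe_subgroup_smul, hg]; rfl
  classical
  let f : G → alternatingGroup (Fin 6) := fun a =>
    if ha : a ∈ h.M then g * h.φM ⟨a, ha⟩ * g⁻¹ else 1
  have hf : ∀ a (ha : a ∈ h.M), f a = g * h.φM ⟨a, ha⟩ * g⁻¹ := fun a ha => dif_pos ha
  have hmul : ∀ a ∈ h.M, ∀ b ∈ h.M, f (a * b) = f a * f b := by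
    intro a ha b hb
    rw [hf a ha, hf b hb, hf _ (mul_mem ha hb)]
    rw [show (⟨a * b, mul_mem ha hb⟩ : h.M) = ⟨a, ha⟩ * ⟨b, hb⟩ from rfl, map_mul]
    group
  have hker : ∀ a ∈ h.M, (f a = 1 ↔ a ∈ h.J) := by
    intro a ha
    rw [hf a ha, mul_inv_eq_one, mul_eq_left, ← MonoidHom.mem_ker, h.φM_ker,
      mem_subgroupOf]
  have hS : ∀ a ∈ (h.S : Subgroup G), f a ∈ P0sub := by
    intro a ha
    rw [hf a (hSM ha), ← hgP, Subgroup.mem_smul_pointwise_iff_exists]
    exact ⟨_, hP' ⟨⟨a, hSM ha⟩, ha, rfl⟩, rfl⟩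
  let U : Subgroup G :=
    { carrier := {a | a ∈ h.M ∧ f a ∈ P0sub}
      one_mem' := ⟨one_mem _, hS 1 (one_mem _)⟩
      mul_mem' := fun {a b} ha hb => ⟨mul_mem ha.1 hb.1, by
        rw [hmul a ha.1 b hb.1]; exact mul_mem ha.2 hb.2⟩
      inv_mem' := fun {a} ha => ⟨inv_mem ha.1, by
        have e := hmul a⁻¹ (inv_mem ha.1) a ha.1
        rw [inv_mul_cancel, (hker 1 (one_mem _)).mpr (one_mem _)] at e
        rw [eq_inv_of_mul_eq_one_left e.symm]; exact inv_mem ha.2⟩ }
  have hU : IsPGroup 3 U := by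
    intro a
    refine ⟨2, Subtype.ext ?_⟩
    have h3 : f ((a : G) ^ 3) = 1 := by
      have := (P0_facts _ a.2.2 (Perm.mem_alternatingGroup.mp (f a).2)).1
      apply Subtype.ext
      rw [pow_succ, pow_two, hmul _ (mul_mem a.2.1 a.2.1) _ a.2.1, hmul _ a.2.1 _ a.2.1]
      rw [pow_succ, pow_two] at this
      exact this
    have hJ := (hker _ (pow_mem a.2.1 3)).mp h3
    rw [SubmonoidClass.coe_pow, show (3 ^ 2 : ℕ) = 3 * 3 by rfl, pow_mul]
    exact h.hJexp _ hJ
  have hUS : U = (h.S : Subgroup G) := h.S.is_maximal' hU fun a ha => ⟨hSM ha, hS a ha⟩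
  exact ⟨{
    map := fun a => (f a : Perm (Fin 6))
    map_mul' := fun a ha b hb => by rw [hmul a ha b hb]; rfl
    sign_map := fun a => Perm.mem_alternatingGroup.mp (f a).2
    ker_map := fun a ha => by rw [← hker a ha, OneMemClass.coe_eq_one]
    surj_map := fun x hx => by
      obtain ⟨m, hm⟩ := h.φM_surj (g⁻¹ * ⟨x, Perm.mem_alternatingGroup.mpr hx⟩ * g)
      exact ⟨m, m.2, congrArg Subtype.val (show f m = ⟨x, Perm.mem_alternatingGroup.mpr hx⟩ by
        rw [hf m m.2, Subtype.coe_eta, hm]; group)⟩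
    syl_map := fun a ha => by
      rw [← hUS]
      exact ⟨fun e => ⟨ha, e⟩, fun e => e.2⟩ }⟩

end CfsgLib.McLThreeLocal
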