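import Cfsg.Agent.Lib.McLThreeLocal.FrameInvol

/-!
The central involution of `K` lies in `M` and maps to a fixed involution of `A₆`.
-/

set_option autoImplicit false
set_option linter.unusedSectionVars false
set_option linter.style.haveILetI false

namespace CfsgLib.McLThreeLocal

open Subgroup Equiv FrameSix MatrixGroups

universe u

variable {G : Type u} [Group G] [Finite G]

namespace LocalZ

variable (l : LocalZ G)

theorem conj_fix_mem_Z {y c : G} (hy : y * l.z = l.z * y) (hc : c ∈ l.Z) : y * c * y⁻¹ = c := by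
  rw [(l.commute_of_mem_Z hc hy).eq, mul_inv_cancel_right]

/-- The elements of `C(z)` centralising `Q/Z`. -/
def centMod : Subgroup G where
  carrier := {y | y * l.z = l.z * y ∧ ∀ q ∈ l.Q, y * q * y⁻¹ * q⁻¹ ∈ l.Z}
  one_mem' := ⟨by simp, fun q _ => by simp⟩
  mul_mem' := fun {x y} hx hy =>
    ⟨(show Commute x l.z from hx.1).mul_left hy.1, fun q hq => by
      rw [show x * y * q * (x * y)⁻¹ * q⁻¹ = x * (y * q * y⁻¹ * q⁻¹) * x⁻¹ * (x * q * x⁻¹ * q⁻¹)
        by group, l.conj_fix_mem_Z hx.1 (hy.2 q hq)]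
      exact mul_mem (hy.2 q hq) (hx.2 q hq)⟩
  inv_mem' := fun {x} hx =>
    ⟨(show Commute x l.z from hx.1).inv_left, fun q hq => by
      have hq' := l.cent_z_normQ (show Commute x⁻¹ l.z from
        (show Commute x l.z from hx.1).inv_left).eq hq
      have h := inv_mem (hx.2 _ hq')
      rwa [show (x * (x⁻¹ * q * x⁻¹⁻¹) * x⁻¹ * (x⁻¹ * q * x⁻¹⁻¹)⁻¹)⁻¹ = x⁻¹ * q * x⁻¹⁻¹ * q⁻¹
        by group] at h⟩

theorem centMod_conj {y g : G} (hy : y ∈ l.centMod) (hg : g * l.z = l.z * g) :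
    g * y * g⁻¹ ∈ l.centMod := by
  refine ⟨((show Commute g l.z from hg).mul_left hy.1).mul_left
    (show Commute g l.z from hg).inv_left, fun q hq => ?_⟩
  have hq' := l.cent_z_normQ (show Commute g⁻¹ l.z from (show Commute g l.z from hg).inv_left).eq hq
  have h := hy.2 _ hq'
  rw [show g * y * g⁻¹ * q * (g * y * g⁻¹)⁻¹ * q⁻¹ =
    g * (y * (g⁻¹ * q * g⁻¹⁻¹) * y⁻¹ * (g⁻¹ * q * g⁻¹⁻¹)⁻¹) * g⁻¹ by group,
    l.conj_fix_mem_Z hg h]
  exact h

theorem t_not_centMod : l.t ∉ l.centMod := fun ht => by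
  have hle : l.Q ≤ l.Z := fun q hq => by
    have h1 : q * q ∈ l.Z := by
      have h := mul_mem (inv_mem (ht.2 q hq)) (l.t_inv q hq)
      rwa [show (l.t * q * l.t⁻¹ * q⁻¹)⁻¹ * (l.t * q * l.t⁻¹ * q) = q * q by group] at h
    have h2 : q * q * (q * q) = q := by
      have := l.hQexp q hq
      rw [pow_succ, pow_two] at this
      rw [← mul_assoc, this, one_mul]
    exact h2 ▸ mul_mem h1 h1
  have h := Subgroup.card_le_of_le hle
  rw [l.hQcard, l.Z_eq, Nat.card_zpowers, l.z_order] at h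
  omega

/-- `m t` centralises `Q/Z`. -/
theorem mul_t_centMod {m : G} (hm2 : m * m = 1) (hmz : m * l.z = l.z * m)
    (hmS : ∀ s ∈ (l.S : Subgroup G), m * s * m⁻¹ ∈ (l.S : Subgroup G))
    (hmJ : ∀ s ∈ (l.S : Subgroup G), m * s * m⁻¹ * s ∈ l.J) : m * l.t ∈ l.centMod := by
  have hcomm : ∀ v ∈ l.J ⊓ l.Q, ∀ q ∈ l.Q, m * v * m⁻¹ ∈ l.J ⊓ l.Q := fun v hv q _ =>
    ⟨l.conj_J hmS hv.1, l.cent_z_normQ hmz hv.2⟩
  have hJQ : ∀ v ∈ l.J ⊓ l.Q, v * (m * v * m⁻¹) ∈ l.Z := by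
    intro v hv
    have hv' := hcomm v hv v hv.2
    refine l.Q_center _ (mul_mem hv.2 hv'.2) fun q hq => ?_
    set v' := m * v * m⁻¹ with hv'e
    set d := m * q * m⁻¹ * q with hd
    have hdJ : d ∈ l.J := hmJ q (l.Q_le_S hq)
    have hc := l.Q_comm v hv.2 q hq
    have hc' := l.Q_comm v' hv'.2 q hq
    set c := v * q * v⁻¹ * q⁻¹ with hce
    set c' := v' * q * v'⁻¹ * q⁻¹ with hce'
    -- conjugate `c` by `m`
    have e1 : c = v' * (d * q⁻¹) * v'⁻¹ * (d * q⁻¹)⁻¹ := by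
      conv_lhs => rw [← l.conj_fix_mem_Z hmz hc]
      rw [hce, hv'e, hd]; group
    have e2 : c = d * (v' * q⁻¹ * v'⁻¹ * q) * d⁻¹ := by
      rw [e1, ← mul_assoc v', l.hJcomm v' hv'.1 d hdJ]; group
    have e3 : v' * q⁻¹ * v'⁻¹ * q = c'⁻¹ := by
      have : q⁻¹ * c'⁻¹ * q = c'⁻¹ := by
        have hq1 : q⁻¹ * l.z = l.z * q⁻¹ := l.Q_comm_z (inv_mem hq)
        have := l.conj_fix_mem_Z hq1 (inv_mem hc')
        rwa [inv_inv] at this
      rw [← this, hce']; group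
    have e4 : d * c'⁻¹ * d⁻¹ = c'⁻¹ :=
      l.conj_fix_mem_Z (l.z_comm_S (l.hJS hdJ)) (inv_mem hc')
    rw [e3, e4] at e2
    have e5 : v' * q = c' * q * v' := by rw [hce']; group
    have e6 : v * q = c * q * v := by rw [hce]; group
    have e7 : v * c' = c' * v :=
      (l.commute_of_mem_Z hc' (l.Q_comm_z hv.2)).eq
    calc v * v' * q = v * c' * q * v' := by rw [mul_assoc v v', e5]; group
      _ = c' * (v * q) * v' := by rw [e7]; group
      _ = q * (v * v') := by rw [e6, e2]; group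
  have hQ : ∀ q ∈ l.Q, m * q * m⁻¹ * q ∈ l.Z := by
    intro q hq
    have hpJQ : m * q * m⁻¹ * q ∈ l.J ⊓ l.Q :=
      ⟨hmJ q (l.Q_le_S hq), mul_mem (l.cent_z_normQ hmz hq) hq⟩
    have h := hJQ _ hpJQ
    set p := m * q * m⁻¹ * q with hp
    have hmi : m⁻¹ = m := inv_eq_of_mul_eq_one_right hm2
    have e1 : m * p * m⁻¹ = q * p * q⁻¹ := by
      rw [hp, hmi]
      calc m * (m * q * m * q) * m = (m * m) * q * m * q * m := by group
        _ = q * (m * q * m * q) * q⁻¹ := by rw [hm2]; group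
    have hc := l.Q_comm q hq p hpJQ.2
    set c := q * p * q⁻¹ * p⁻¹ with hce
    rw [e1, show q * p * q⁻¹ = c * p by rw [hce]; group, ← mul_assoc,
      (l.commute_of_mem_Z hc (l.Q_comm_z hpJQ.2)).eq, mul_assoc] at h
    have h2 : p * p ∈ l.Z := by simpa using mul_mem (inv_mem hc) h
    have h3 : p * p * (p * p) = p := by
      have := l.hQexp p hpJQ.2
      rw [pow_succ, pow_two] at this
      rw [← mul_assoc, this, one_mul]
    exact h3 ▸ mul_mem h2 h2
  refine ⟨(show Commute m l.z from hmz).mul_left l.tz, fun q hq => ?_⟩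
  rw [show m * l.t * q * (m * l.t)⁻¹ * q⁻¹ =
    m * (l.t * q * l.t⁻¹ * q) * m⁻¹ * (m * q⁻¹ * m⁻¹ * q⁻¹) by group,
    l.conj_fix_mem_Z hmz (l.t_inv q hq)]
  exact mul_mem (l.t_inv q hq) (hQ _ (inv_mem hq))

theorem eq_one_of_centMod_K {x : G} (hxK : x ∈ l.K) (hx : x ∈ l.centMod) : x = 1 := by
  by_contra hne
  have hxt : x ≠ l.t := fun h => l.t_not_centMod (h ▸ hx)
  set τ := l.eK ⟨x, hxK⟩ with hτ
  have h1 : τ ≠ 1 := fun h => hne
    (congrArg Subtype.val (l.eK.injective (h.trans (map_one l.eK).symm)))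
  have h2 : τ ≠ -1 := fun h => hxt
    (congrArg Subtype.val (l.eK.injective (h.trans l.eK_t.symm)))
  obtain ⟨g, hg⟩ := SLFive.exists_witness τ h1 h2
  obtain ⟨g', rfl⟩ := l.eK.surjective g
  rw [hτ, ← map_inv, ← map_mul, ← map_mul, ← map_mul, ← map_pow, ← l.eK_t] at hg
  have e := congrArg Subtype.val (l.eK.injective hg)
  simp only [SubmonoidClass.coe_pow, Subgroup.coe_mul, InvMemClass.coe_inv] at e
  apply l.t_not_centMod
  rw [← e, show x * g' * x * (g' : G)⁻¹ = x * ((g' : G) * x * (g' : G)⁻¹) by group]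
  exact pow_mem (mul_mem hx (l.centMod_conj hx (l.K_z g' g'.2))) 3

theorem t_mem_and_proj : l.t ∈ l.M ∧ ∃ π : Proj l.toHyp, π.map l.t = t1 := by
  obtain ⟨π⟩ := l.exists_proj l.S_le_M
  obtain ⟨w, hwK, hwS, hw3, hw⟩ := l.exists_w
  obtain ⟨m, hm, p, hp, hps, hπm, hm2, hm1, hmz, hmt, hmS⟩ :=
    l.exists_involution π hwK hwS hw3 hw
  obtain ⟨-, -, -, -, -, -, ht1, -⟩ := FrameSix.basic
  have ht1' : t1⁻¹ = t1 := inv_eq_of_mul_eq_one_right ht1
  have hmJ : ∀ s ∈ (l.S : Subgroup G), m * s * m⁻¹ * s ∈ l.J := by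
    intro s hs
    have hsM := l.S_le_M hs
    have hsP := (π.syl_map s hsM).mpr hs
    rw [← π.ker_map _ (mul_mem (mul_mem (mul_mem hm hsM) (inv_mem hm)) hsM),
      π.map_mul' _ (mul_mem (mul_mem hm hsM) (inv_mem hm)) _ hsM, π.map_conj hm hsM, hπm,
      show p * t1 * π.map s * (p * t1)⁻¹ = p * (t1 * π.map s * t1⁻¹) * p⁻¹ by group,
      (P0_facts _ hsP (π.sign_map s)).2]
    have hc : Commute p (π.map s) := by
      have hps' : InP0 (p * π.map s) :=
        ⟨(show Commute _ _ from hp.1).mul_left hsP.1, (show Commute _ _ from hp.2).mul_left hsP.2⟩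
      have e1 := (P0_facts p hp hps).2
      have e2 := (P0_facts _ hsP (π.sign_map s)).2
      have e3 := (P0_facts _ hps' (by rw [Perm.sign_mul, hps, π.sign_map, mul_one])).2
      rw [show t1 * (p * π.map s) * t1⁻¹ = (t1 * p * t1⁻¹) * (t1 * π.map s * t1⁻¹) by group,
        e1, e2, mul_inv_rev] at e3
      exact Commute.inv_inv_iff.mp e3
    rw [(hc.inv_right).eq]
    group
  have hy := l.mul_t_centMod hm2 hmz hmS hmJ
  have hyt : m * l.t * l.t = l.t * (m * l.t) := by rw [← mul_assoc, ← hmt]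
  have hcK : ∀ g ∈ l.K, m * l.t * g = g * (m * l.t) := by
    intro g hg
    have hN := l.K_normal (m * l.t) (l.cent_z_normZ hy.1) hyt
    have hK : m * l.t * g * (m * l.t)⁻¹ * g⁻¹ ∈ l.K :=
      mul_mem ((mem_normalizer_iff.mp hN g).mp hg) (inv_mem hg)
    have hC : m * l.t * g * (m * l.t)⁻¹ * g⁻¹ ∈ l.centMod := by
      have := mul_mem hy (l.centMod_conj (inv_mem hy) (l.K_z g hg))
      rwa [← mul_assoc, ← mul_assoc] at this
    exact mul_inv_eq_iff_eq_mul.mp (mul_inv_eq_one.mp (l.eq_one_of_centMod_K hK hC))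
  obtain ⟨i, hi⟩ := (Submonoid.mem_powers_iff _ _).mp
    (mem_powers_iff_mem_zpowers.mpr (l.centK _ hy.1 hyt hcK))
  have hzt : Commute l.z l.t := l.tz.symm
  have hsq : (m * l.t) * (m * l.t) = 1 := by
    rw [← mul_assoc, mul_assoc m l.t m, ← hmt, ← mul_assoc, hm2, one_mul, l.t_sq]
  rw [hzt.mul_pow] at hi
  have hzi : l.z ^ i = 1 := by
    rw [← hi] at hsq
    have e : (l.z ^ i) * (l.z ^ i) * ((l.t ^ i) * (l.t ^ i)) = 1 := by
      rw [← hsq, mul_assoc, mul_assoc, ← mul_assoc (l.z ^ i) (l.t ^ i),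
        ← mul_assoc (l.t ^ i) (l.z ^ i), ← (hzt.pow_pow i i).eq]
    rw [show l.t ^ i * l.t ^ i = 1 by rw [← (Commute.refl l.t).mul_pow, l.t_sq, one_pow],
      mul_one] at e
    exact eq_one_of_mul_self (by rw [pow_right_comm, l.z_cube, one_pow]) e
  rw [hzi, one_mul] at hi
  have hti : l.t ^ i = 1 ∨ l.t ^ i = l.t := by
    rcases Nat.even_or_odd i with ⟨k, rfl⟩ | ⟨k, rfl⟩
    · left; rw [← two_mul, pow_mul, pow_two, l.t_sq, one_pow]
    · right; rw [pow_add, pow_mul, pow_two, l.t_sq, one_pow, pow_one, one_mul]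
  rw [hi] at hti
  have hmte : m = l.t := by
    rcases hti with h | h
    · rw [mul_eq_one_iff_eq_inv.mp h, l.t_inv_eq]
    · exact absurd (mul_eq_right.mp h) hm1
  refine ⟨hmte ▸ hm, π.conjP0 p hp, ?_⟩
  show p * π.map l.t * p⁻¹ = t1
  have e := (P0_facts p hp hps).2
  have h3 := (P0_facts p hp hps).1
  rw [← hmte, hπm]
  calc p * (p * t1) * p⁻¹ = p * p * (t1 * p * t1⁻¹)⁻¹ * t1 := by group
    _ = p ^ 3 * t1 := by rw [e, inv_inv, pow_succ, pow_two]
    _ = t1 := by rw [h3, one_mul]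

end LocalZ

end CfsgLib.McLThreeLocal
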