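import Cfsg.Agent.Lib.McLThreeLocal.Defs

/-
S3367: in the big case an involution inverts `J` and commutes with `t`.
-/

set_option autoImplicit false
set_option linter.unusedSectionVars false
set_option maxRecDepth 100000

namespace CfsgLib.McLThreeLocal

open Subgroup

namespace MinusOne

/-- A two by two matrix modulo three, by rows. -/
abbrev Mat : Type := (ZMod 3 × ZMod 3) × (ZMod 3 × ZMod 3)

/-- The action on a column. -/
def Mat.app (A : Mat) (p : ZMod 3 × ZMod 3) : ZMod 3 × ZMod 3 :=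
  (A.1.1 * p.1 + A.1.2 * p.2, A.2.1 * p.1 + A.2.2 * p.2)

/-- The product. -/
def Mat.comp (A B : Mat) : Mat :=
  ((A.1.1 * B.1.1 + A.1.2 * B.2.1, A.1.1 * B.1.2 + A.1.2 * B.2.2),
    (A.2.1 * B.1.1 + A.2.2 * B.2.1, A.2.1 * B.1.2 + A.2.2 * B.2.2))

/-- The opposite. -/
def Mat.neg (A : Mat) : Mat := ((-A.1.1, -A.1.2), (-A.2.1, -A.2.2))

/-- The identity. -/
def Mat.one : Mat := ((1, 0), (0, 1))

/-- The matrix of `k`. -/
def Mat.std : Mat := ((0, -1), (1, 0))

set_option synthInstance.maxSize 4000 in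
set_option synthInstance.maxHeartbeats 400000 in
theorem mat_facts : ∀ B : Mat, B.comp B = Mat.one.neg →
    Mat.std.comp B = (B.comp Mat.std).neg →
    ∀ C : Mat, ((C.comp Mat.std = Mat.std.comp C ∧ C.comp B = B.comp C) →
      (C = Mat.one ∨ C = Mat.one.neg ∨ C = ((0, 0), (0, 0)))) ∧
      ((C.comp Mat.std = (Mat.std.comp C).neg ∧ C.comp B = (B.comp C).neg) →
      (C = Mat.std.comp B ∨ C = (Mat.std.comp B).neg ∨ C = ((0, 0), (0, 0)))) := by
  decide +kernel

theorem app_eq : ∀ A B : Mat, ∀ p : ZMod 3 × ZMod 3,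
    (A.comp B).app p = A.app (B.app p) ∧ (A.neg).app p = -(A.app p) ∧ Mat.one.app p = p := by
  intro A B p
  refine ⟨?_, ?_, ?_⟩ <;> simp only [Mat.app, Mat.comp, Mat.neg, Mat.one, Prod.neg_mk, Prod.ext_iff]
  all_goals constructor <;> ring

theorem app_inj : ∀ A B : Mat, A.app (1, 0) = B.app (1, 0) → A.app (0, 1) = B.app (0, 1) → A = B := by
  intro A B h1 h2
  simp only [Mat.app, mul_one, mul_zero, add_zero, zero_add, Prod.ext_iff] at h1 h2
  exact Prod.ext (Prod.ext h1.1 h2.1) (Prod.ext h1.2 h2.2)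

theorem three_cases : ∀ a : ZMod 3, a = 0 ∨ a = 1 ∨ a = 2 := by decide

theorem sl_three : (Finset.univ.filter fun g : Matrix.SpecialLinearGroup (Fin 2) (ZMod 5) =>
      g ^ 3 = 1 ∧ g ≠ 1).card = 20 ∧
    ∀ g : Matrix.SpecialLinearGroup (Fin 2) (ZMod 5), g ^ 3 = 1 → g ≠ 1 →
      (Finset.univ.filter fun h : Matrix.SpecialLinearGroup (Fin 2) (ZMod 5) =>
        h * g = g * h).card = 6 := by
  decide +kernel

end MinusOne

universe u

variable {G : Type u} [Group G] [Finite G] (f : Frame G)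

namespace MinusOne

/-- The elements of `J` inverted by `t`. -/
def IsW (a : G) : Prop := a ∈ f.J ∧ f.t * a * f.t⁻¹ = a⁻¹

/-- Conjugation by `g` on the inverted part is given by `A`. -/
def Acts (u v : G) (g : G) (A : Mat) : Prop :=
  ∀ p : ZMod 3 × ZMod 3, g * (u ^ p.1.val * v ^ p.2.val) * g⁻¹ =
    u ^ (A.app p).1.val * v ^ (A.app p).2.val

theorem M_le : f.M ≤ normalizer (f.J : Set G) := by
  rw [f.hM, closure_le]
  exact fun g hg => hg.1

theorem norm_conj {g a : G} (hg : g ∈ normalizer (f.J : Set G)) (ha : a ∈ f.J) :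
    g * a * g⁻¹ ∈ f.J :=
  (mem_normalizer_iff.1 hg a).1 ha

theorem tt : f.t * f.t = 1 := by
  rw [← pow_two, ← f.t_order, pow_orderOf_eq_one]

theorem D_iff {a : G} : a ∈ closure ({f.z, f.w} : Set G) ↔ a ∈ f.J ∧ a * f.t = f.t * a :=
  f.D_eq a

theorem isW_mem {g a : G} (hg : g ∈ normalizer (f.J : Set G)) (hgt : g * f.t = f.t * g)
    (ha : IsW f a) : IsW f (g * a * g⁻¹) := by
  refine ⟨norm_conj f hg ha.1, ?_⟩
  calc f.t * (g * a * g⁻¹) * f.t⁻¹ = g * (f.t * a * f.t⁻¹) * g⁻¹ := by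
        rw [show f.t * (g * a * g⁻¹) * f.t⁻¹ = f.t * g * a * (f.t * g)⁻¹ by group, ← hgt]
        group
    _ = (g * a * g⁻¹)⁻¹ := by rw [ha.2]; group

/-- Each element of `J` is the product of a fixed and an inverted element. -/
theorem split {a : G} (ha : a ∈ f.J) :
    ∃ d ∈ closure ({f.z, f.w} : Set G), ∃ q, IsW f q ∧ a = d * q := by
  set b := f.t * a * f.t⁻¹ with hb
  have htN := M_le f f.t_mem_M
  have hbJ : b ∈ f.J := norm_conj f htN ha
  have hab : Commute a b := f.hJcomm a ha b hbJ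
  have htb : f.t * b * f.t⁻¹ = a := by
    rw [hb, show f.t * (f.t * a * f.t⁻¹) * f.t⁻¹ = f.t * f.t * a * (f.t * f.t)⁻¹ by group, tt f]
    group
  refine ⟨(a * b) ^ 2, (D_iff f).2 ⟨f.J.pow_mem (f.J.mul_mem ha hbJ) 2, ?_⟩, (a * b⁻¹) ^ 2,
    ⟨f.J.pow_mem (f.J.mul_mem ha (f.J.inv_mem hbJ)) 2, ?_⟩, ?_⟩
  · refine (mul_inv_eq_iff_eq_mul.1 ?_).symm
    rw [← conj_pow, show f.t * (a * b) * f.t⁻¹ = f.t * a * f.t⁻¹ * (f.t * b * f.t⁻¹) by group,
      ← hb, htb, hab.eq]
  · rw [← conj_pow, ← inv_pow, show f.t * (a * b⁻¹) * f.t⁻¹ =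
      f.t * a * f.t⁻¹ * (f.t * b * f.t⁻¹)⁻¹ by group, ← hb, htb, mul_inv_rev, inv_inv]
  · have ha3 := f.hJexp a ha
    rw [hab.mul_pow, hab.inv_right.mul_pow,
      show a ^ 2 * b ^ 2 * (a ^ 2 * (b⁻¹) ^ 2) = a ^ 2 * (b ^ 2 * a ^ 2) * (b⁻¹) ^ 2 by group,
      (hab.symm.pow_pow 2 2).eq, show a ^ 2 * (a ^ 2 * b ^ 2) * (b⁻¹) ^ 2 = a ^ 3 * a by group,
      ha3, one_mul]

/-- An element of `N(J)` commuting with `t` and centralising both parts of `J` lies in `D`. -/
theorem mem_D {g : G} (hgt : g * f.t = f.t * g) (hz : g * f.z = f.z * g) (hw : g * f.w = f.w * g)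
    (hW : ∀ q, IsW f q → g * q = q * g) : g ∈ closure ({f.z, f.w} : Set G) := by
  refine (D_iff f).2 ⟨?_, hgt⟩
  rw [← f.centJ, mem_centralizer_iff]
  intro a ha
  obtain ⟨d, hd, q, hq, rfl⟩ := split f ha
  have hDg : closure ({f.z, f.w} : Set G) ≤ centralizer ({g} : Set G) := by
    rw [closure_le]
    rintro x (rfl | rfl) <;> rw [SetLike.mem_coe, mem_centralizer_singleton_iff]
    exacts [hz.symm, hw.symm]
  have h1 : Commute d g := mem_centralizer_singleton_iff.1 (hDg hd)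
  exact (h1.mul_left (hW q hq).symm).eq

/-- A basis of the inverted part on which `k` is the standard matrix. -/
theorem exists_basis : ∃ u v : G, IsW f u ∧ IsW f v ∧
    Acts u v f.k ((0, -1), (1, 0)) ∧
    Function.Injective (fun p : ZMod 3 × ZMod 3 => u ^ p.1.val * v ^ p.2.val) ∧
    ∀ q, IsW f q → ∃ p : ZMod 3 × ZMod 3, q = u ^ p.1.val * v ^ p.2.val := by
  classical
  haveI : Fact (Nat.Prime 3) := ⟨Nat.prime_three⟩
  -- a nontrivial inverted element
  obtain ⟨u, hu, hu1⟩ : ∃ u, IsW f u ∧ u ≠ 1 := by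
    by_contra hno
    push Not at hno
    have hle : f.J ≤ closure ({f.z, f.w} : Set G) := fun a ha => by
      obtain ⟨d, hd, q, hq, rfl⟩ := split f ha
      rw [hno q hq, mul_one]
      exact hd
    have := card_le_of_le hle
    rw [f.hJcard, f.D_card] at this
    omega
  have hkt : f.k * f.t = f.t * f.k := f.K_t _ f.k_mem_K
  obtain ⟨v, hv⟩ : ∃ v, v = f.k * u * f.k⁻¹ := ⟨_, rfl⟩
  have hvW : IsW f v := hv ▸ isW_mem f f.k_normJ hkt hu
  have hkv : f.k * v * f.k⁻¹ = u⁻¹ := by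
    rw [hv, show f.k * (f.k * u * f.k⁻¹) * f.k⁻¹ = f.k * f.k * u * (f.k * f.k)⁻¹ by group, f.k_sq]
    exact hu.2
  have hu3 := f.hJexp u hu.1
  have hv3 := f.hJexp v hvW.1
  have huv : Commute u v := f.hJcomm u hu.1 v hvW.1
  have hvu : v ≠ u ∧ v ≠ u⁻¹ := by
    have hne : u ≠ u⁻¹ := fun e => hu1 (by
      have h2 : u * u = 1 := eq_inv_iff_mul_eq_one.1 e
      rwa [pow_succ, pow_two, h2, one_mul] at hu3)
    constructor <;> intro e
    · have h1 := hkv
      rw [e, ← hv] at h1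
      exact hne (e.symm.trans h1)
    · have h1 := hkv
      rw [e, ← conj_inv, ← hv, inv_inj] at h1
      exact hne (h1.symm.trans e)
  have hv1 : v ≠ 1 := fun e => hu1 (conj_eq_one_iff.1 (hv.symm.trans e))
  have hadd : ∀ p q : ZMod 3 × ZMod 3, u ^ (p + q).1.val * v ^ (p + q).2.val =
      u ^ p.1.val * v ^ p.2.val * (u ^ q.1.val * v ^ q.2.val) := by
    intro p q
    have hx : ∀ {x : G}, x ^ 3 = 1 → ∀ a b : ZMod 3, x ^ (a + b).val = x ^ a.val * x ^ b.val :=
      fun hx a b => by rw [ZMod.val_add, ← pow_add, ← pow_eq_pow_mod _ hx]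
    rw [Prod.fst_add, Prod.snd_add, hx hu3, hx hv3]
    calc u ^ p.1.val * u ^ q.1.val * (v ^ p.2.val * v ^ q.2.val)
        = u ^ p.1.val * (u ^ q.1.val * v ^ p.2.val) * v ^ q.2.val := by group
      _ = u ^ p.1.val * (v ^ p.2.val * u ^ q.1.val) * v ^ q.2.val := by rw [(huv.pow_pow _ _).eq]
      _ = _ := by group
  have hker : ∀ a b : ZMod 3, u ^ a.val * v ^ b.val = 1 → a = 0 ∧ b = 0 := by
    intro a b e
    have h2 : ∀ {x : G}, x ^ 3 = 1 → x * x = x⁻¹ := fun hx =>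
      eq_inv_of_mul_eq_one_left (by rwa [pow_three, ← mul_assoc] at hx)
    have u2 := h2 hu3
    have v2 := h2 hv3
    have ha := three_cases a
    have hb := three_cases b
    have d0 : (0 : ZMod 3).val = 0 := rfl
    have d1 : (1 : ZMod 3).val = 1 := rfl
    have d2 : (2 : ZMod 3).val = 2 := rfl
    rcases ha with rfl | rfl | rfl <;> rcases hb with rfl | rfl | rfl <;>
      simp only [d0, d1, d2, pow_zero, pow_one, pow_two, one_mul, mul_one, u2, v2] at e
    · exact ⟨rfl, rfl⟩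
    · exact absurd e hv1
    · exact absurd (inv_eq_one.1 e) hv1
    · exact absurd e hu1
    · exact absurd (eq_inv_of_mul_eq_one_right e) hvu.2
    · exact absurd (mul_inv_eq_one.1 e).symm hvu.1
    · exact absurd (inv_eq_one.1 e) hu1
    · exact absurd (inv_mul_eq_one.1 e).symm hvu.1
    · exact absurd (by rw [eq_inv_iff_mul_eq_one]; rw [← mul_inv_rev, inv_eq_one] at e; exact e)
        hvu.2
  set E : ZMod 3 × ZMod 3 → G := fun p => u ^ p.1.val * v ^ p.2.val with hE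
  have hinj : Function.Injective E := by
    intro p q e
    have h := hadd (p - q) q
    rw [sub_add_cancel] at h
    have e' : u ^ p.1.val * v ^ p.2.val = u ^ q.1.val * v ^ q.2.val := e
    rw [e', eq_comm, mul_eq_right] at h
    obtain ⟨h1, h2⟩ := hker _ _ h
    exact Prod.ext (sub_eq_zero.1 h1) (sub_eq_zero.1 h2)
  have hneg : ∀ p, E (-p) = (E p)⁻¹ := fun p => eq_inv_of_mul_eq_one_left (by
    rw [hE, ← hadd, neg_add_cancel]
    simp)
  refine ⟨u, v, hu, hvW, ?_, hinj, ?_⟩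
  · intro p
    show f.k * (u ^ p.1.val * v ^ p.2.val) * f.k⁻¹ = E (Mat.app ((0, -1), (1, 0)) p)
    rw [show Mat.app ((0, -1), (1, 0)) p = (0, p.1) + -(p.2, 0) by
      simp [Mat.app]]
    simp only [hE]
    rw [hadd]
    have hn := hneg (p.2, 0)
    simp only [hE] at hn
    rw [hn]
    rw [show f.k * (u ^ p.1.val * v ^ p.2.val) * f.k⁻¹ =
      f.k * u ^ p.1.val * f.k⁻¹ * (f.k * v ^ p.2.val * f.k⁻¹) by group, ← conj_pow, ← conj_pow,
      ← hv, hkv, inv_pow]
    simp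
  · intro q hq
    have hinW : ∀ p, IsW f (E p) := fun p => by
      refine ⟨f.J.mul_mem (f.J.pow_mem hu.1 _) (f.J.pow_mem hvW.1 _), ?_⟩
      show f.t * (u ^ p.1.val * v ^ p.2.val) * f.t⁻¹ = (u ^ p.1.val * v ^ p.2.val)⁻¹
      rw [show f.t * (u ^ p.1.val * v ^ p.2.val) * f.t⁻¹ =
        f.t * u ^ p.1.val * f.t⁻¹ * (f.t * v ^ p.2.val * f.t⁻¹) by group, ← conj_pow, ← conj_pow,
        hu.2, hvW.2, inv_pow, inv_pow]
      exact ((huv.pow_pow _ _).inv_inv.eq).trans (mul_inv_rev _ _).symm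
    let Φ : ↥(closure ({f.z, f.w} : Set G)) × {q // IsW f q} → ↥f.J := fun x =>
      ⟨(x.1 : G) * x.2.1, f.J.mul_mem ((D_iff f).1 x.1.2).1 x.2.2.1⟩
    have hΦ : Function.Injective Φ := by
      rintro ⟨⟨a, ha⟩, ⟨q₁, h₁⟩⟩ ⟨⟨b, hb⟩, ⟨q₂, h₂⟩⟩ e
      have e' : a * q₁ = b * q₂ := congrArg Subtype.val e
      have hd : b⁻¹ * a = q₂ * q₁⁻¹ := by
        calc b⁻¹ * a = b⁻¹ * (a * q₁) * q₁⁻¹ := by group
          _ = q₂ * q₁⁻¹ := by rw [e']; group
      have hdD : b⁻¹ * a ∈ closure ({f.z, f.w} : Set G) := mul_mem (inv_mem hb) ha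
      obtain ⟨hdJ, hdt⟩ := (D_iff f).1 hdD
      have hfix : f.t * (b⁻¹ * a) * f.t⁻¹ = b⁻¹ * a := mul_inv_eq_iff_eq_mul.2 hdt.symm
      have hinv : f.t * (b⁻¹ * a) * f.t⁻¹ = (b⁻¹ * a)⁻¹ := by
        rw [hd, show f.t * (q₂ * q₁⁻¹) * f.t⁻¹ = f.t * q₂ * f.t⁻¹ * (f.t * q₁ * f.t⁻¹)⁻¹ by group,
          h₂.2, h₁.2, inv_inv, mul_inv_rev, inv_inv]
        exact f.hJcomm _ (f.J.inv_mem h₂.1) _ h₁.1
      have hone : b⁻¹ * a = 1 := by
        have h3 := f.hJexp _ hdJ
        rw [pow_succ, pow_two, mul_eq_one_iff_eq_inv.2 (hfix.symm.trans hinv), one_mul] at h3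
        exact h3
      rw [hone] at hd
      have hq12 : q₂ = q₁ := mul_inv_eq_one.1 hd.symm
      have hab : a = b := (inv_mul_eq_one.1 hone).symm
      subst hq12; subst hab; rfl
    have hle := Nat.card_le_card_of_injective Φ hΦ
    rw [Nat.card_prod, f.D_card, f.hJcard] at hle
    haveI : Fintype {q // IsW f q} := Fintype.ofFinite _
    let E' : ZMod 3 × ZMod 3 → {q // IsW f q} := fun p => ⟨E p, hinW p⟩
    have hE' : Function.Injective E' := fun a b e => hinj (congrArg Subtype.val e)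
    have hbij : Function.Bijective E' := by
      rw [Fintype.bijective_iff_injective_and_card]
      refine ⟨hE', le_antisymm (Fintype.card_le_of_injective E' hE') ?_⟩
      rw [← Nat.card_eq_fintype_card, Fintype.card_prod, ZMod.card]
      omega
    obtain ⟨p, hp⟩ := hbij.2 ⟨q, hq⟩
    exact ⟨p, (congrArg Subtype.val hp).symm⟩

/-- Orbit and stabiliser for conjugation. -/
theorem card_orbit {H : Type*} [Group H] [Finite H] (A : Subgroup H) (z : H) :
    Nat.card A = Nat.card {v : H // ∃ h ∈ A, h * z * h⁻¹ = v} *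
      Nat.card ↥(A ⊓ centralizer ({z} : Set H)) := by
  classical
  set P : Subgroup A := (centralizer ({z} : Set H)).subgroupOf A with hP
  have hiff : ∀ a b : A, a⁻¹ * b ∈ P ↔ (a : H) * z * (a : H)⁻¹ = (b : H) * z * (b : H)⁻¹ := by
    intro a b
    rw [hP, mem_subgroupOf, mem_centralizer_singleton_iff, coe_mul, coe_inv]
    constructor
    · intro h
      calc (a : H) * z * (a : H)⁻¹ = (a : H) * (z * ((a : H)⁻¹ * b)) * (b : H)⁻¹ := by group
        _ = (b : H) * z * (b : H)⁻¹ := by rw [← h]; group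
    · intro e
      calc (a : H)⁻¹ * b * z = (a : H)⁻¹ * ((b : H) * z * (b : H)⁻¹) * b := by group
        _ = z * ((a : H)⁻¹ * b) := by rw [← e]; group
  let φ : A ⧸ P → {v : H // ∃ h ∈ A, h * z * h⁻¹ = v} := fun q => Quotient.liftOn' q
    (fun a => ⟨(a : H) * z * (a : H)⁻¹, a, a.2, rfl⟩)
    (fun a b hab => Subtype.ext ((hiff a b).1 (QuotientGroup.leftRel_apply.1 hab)))
  have hf : Function.Bijective φ := by
    constructor
    · intro p q
      induction p using QuotientGroup.induction_on with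
      | H a =>
        induction q using QuotientGroup.induction_on with
        | H b => intro e; exact QuotientGroup.eq.2 ((hiff a b).2 (congrArg Subtype.val e))
    · rintro ⟨v, h, hh, rfl⟩
      exact ⟨QuotientGroup.mk ⟨h, hh⟩, rfl⟩
  rw [card_eq_card_quotient_mul_card_subgroup P, Nat.card_congr (Equiv.ofBijective φ hf)]
  congr 1
  rw [hP, ← inf_subgroupOf_left]
  exact Nat.card_congr (subgroupOfEquivOfLe inf_le_left).toEquiv

theorem k'_eq : f.k' = f.j * f.k * f.j⁻¹ := rfl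

theorem comm_z_w : f.z * f.w = f.w * f.z :=
  f.hJcomm _ (f.Z_le_J (f.Z_eq ▸ mem_zpowers f.z)) _ f.w_mem_J

/-- `k'` inverts `z`, centralises `w`, commutes with `t` and normalises `J`. -/
theorem k'_facts : f.k' * f.z * f.k'⁻¹ = f.z⁻¹ ∧ f.k' * f.w * f.k'⁻¹ = f.w ∧
    f.k' * f.t = f.t * f.k' ∧ f.k' ∈ normalizer (f.J : Set G) ∧ f.k' * f.k' = f.t := by
  have hjN := M_le f f.j_mem_M
  have hji : f.j⁻¹ = f.j := inv_eq_of_mul_eq_one_right f.j_sq
  have jz : f.j⁻¹ * f.w * f.j = f.z := by rw [← f.j_z]; group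
  have jw : f.j⁻¹ * f.z * f.j = f.w := by rw [← f.j_w]; group
  have kz : f.k * f.z * f.k⁻¹ = f.z := mul_inv_eq_iff_eq_mul.2 (f.K_z _ f.k_mem_K)
  have hkt : f.k * f.t = f.t * f.k := f.K_t _ f.k_mem_K
  have jt' : f.j⁻¹ * f.t = f.t * f.j⁻¹ := by rw [hji]; exact f.jt
  refine ⟨?_, ?_, ?_, mul_mem (mul_mem hjN f.k_normJ) (inv_mem hjN), ?_⟩
  · rw [k'_eq, show f.j * f.k * f.j⁻¹ * f.z * (f.j * f.k * f.j⁻¹)⁻¹ =
      f.j * (f.k * (f.j⁻¹ * f.z * f.j) * f.k⁻¹) * f.j⁻¹ by group, jw, f.k_w,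
      ← conj_inv, f.j_w]
  · rw [k'_eq, show f.j * f.k * f.j⁻¹ * f.w * (f.j * f.k * f.j⁻¹)⁻¹ =
      f.j * (f.k * (f.j⁻¹ * f.w * f.j) * f.k⁻¹) * f.j⁻¹ by group, jz, kz, f.j_z]
  · rw [k'_eq, mul_assoc _ f.j⁻¹, jt', ← mul_assoc, mul_assoc f.j f.k f.t, hkt, ← mul_assoc, f.jt]
    group
  · rw [k'_eq, show f.j * f.k * f.j⁻¹ * (f.j * f.k * f.j⁻¹) = f.j * (f.k * f.k) * f.j⁻¹ by group,
      f.k_sq, f.jt]
    group

/-- The centraliser of `w` in `C(z) ∩ C(t)` has order thirty-six. -/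
theorem card_H
    (hb : Nat.card ↥(centralizer ({f.z} : Set G) ⊓ centralizer ({f.t} : Set G)) = 720) :
    Nat.card ↥(centralizer ({f.z} : Set G) ⊓ centralizer ({f.t} : Set G) ⊓
      centralizer ({f.w} : Set G)) = 36 := by
  classical
  set X := centralizer ({f.z} : Set G) ⊓ centralizer ({f.t} : Set G) with hX
  haveI : Fintype G := Fintype.ofFinite G
  haveI : Fintype ↥f.K := Fintype.ofFinite _
  have hKX : f.K ≤ X := fun g hg =>
    mem_inf.2 ⟨mem_centralizer_singleton_iff.2 (f.K_z g hg),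
      mem_centralizer_singleton_iff.2 (f.K_t g hg)⟩
  have hXK : ∀ n ∈ X, n ∈ normalizer (f.K : Set G) := fun n hn => by
    refine f.K_normal n ?_ (mem_centralizer_singleton_iff.1 hn.2)
    exact centralizer_le_normalizer _ (f.centZ_eq.ge hn.1)
  -- the conjugates of `w` and the elements of order three of `K`
  set S3 := {g : G // g ∈ f.K ∧ g ^ 3 = 1 ∧ g ≠ 1}
  have hS3 : Nat.card S3 = 20 := by
    rw [← sl_three.1, ← Nat.card_eq_finsetCard]
    refine Nat.card_congr ((Equiv.subtypeSubtypeEquivSubtypeInter (· ∈ f.K)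
      (fun g : G => g ^ 3 = 1 ∧ g ≠ 1)).symm.trans (f.eK.toEquiv.subtypeEquiv fun g => ?_))
    simp only [Finset.mem_filter, Finset.mem_univ, true_and]
    show _ ↔ f.eK g ^ 3 = 1 ∧ f.eK g ≠ 1
    rw [← map_pow, Ne, Ne, MulEquiv.map_eq_one_iff, MulEquiv.map_eq_one_iff, Subtype.ext_iff,
      Subtype.ext_iff]
    rfl
  have hw3 : f.w ^ 3 = 1 := by rw [← f.w_order, pow_orderOf_eq_one]
  have hw1 : f.w ≠ 1 := fun e => by
    have := f.w_order
    rw [e, orderOf_one] at this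
    omega
  set wK : ↥f.K := ⟨f.w, f.w_mem_K⟩
  have hCK : Nat.card ↥(centralizer ({wK} : Set ↥f.K)) = 6 := by
    rw [← sl_three.2 (f.eK wK) (by rw [← map_pow, MulEquiv.map_eq_one_iff]; exact Subtype.ext hw3)
      (by rw [Ne, MulEquiv.map_eq_one_iff, Subtype.ext_iff]; exact hw1), ← Nat.card_eq_finsetCard]
    refine Nat.card_congr (f.eK.toEquiv.subtypeEquiv fun g => ?_)
    simp only [Finset.mem_filter, Finset.mem_univ, true_and]
    rw [mem_centralizer_singleton_iff]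
    show _ ↔ f.eK g * f.eK wK = f.eK wK * f.eK g
    rw [← map_mul, ← map_mul, f.eK.injective.eq_iff]
  have hK120 : Nat.card ↥f.K = 120 := by
    rw [Nat.card_congr f.eK.toEquiv, Nat.card_eq_fintype_card]
    decide +kernel
  have orb : ∀ (A : Subgroup G), A ≤ X → Nat.card A =
      Nat.card {v : G // ∃ a ∈ A, a * f.w * a⁻¹ = v} * Nat.card ↥(A ⊓ centralizer ({f.w} : Set G)) :=
    fun A _ => card_orbit A f.w
  have hsub : ∀ v, (∃ a ∈ X, a * f.w * a⁻¹ = v) → v ∈ f.K ∧ v ^ 3 = 1 ∧ v ≠ 1 := by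
    rintro _ ⟨a, ha, rfl⟩
    exact ⟨(mem_normalizer_iff.1 (hXK a ha) f.w).1 f.w_mem_K, by rw [conj_pow, hw3]; group,
      fun e => hw1 (conj_eq_one_iff.1 e)⟩
  have hle : Nat.card {v : G // ∃ a ∈ X, a * f.w * a⁻¹ = v} ≤ 20 := by
    rw [← hS3]
    exact Nat.card_le_card_of_injective (fun v => (⟨v.1, hsub v.1 v.2⟩ : S3))
      (fun a b e => Subtype.ext (congrArg (fun x : S3 => x.1) e))
  have hKle : Nat.card {v : G // ∃ a ∈ f.K, a * f.w * a⁻¹ = v} ≤
      Nat.card {v : G // ∃ a ∈ X, a * f.w * a⁻¹ = v} :=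
    Nat.card_le_card_of_injective
      (fun v => (⟨v.1, v.2.imp fun a h => ⟨hKX h.1, h.2⟩⟩ : {v : G // ∃ a ∈ X, a * f.w * a⁻¹ = v}))
      (fun a b e => Subtype.ext (congrArg (fun x : {v : G // ∃ a ∈ X, a * f.w * a⁻¹ = v} => x.1) e))
  have hKC : Nat.card ↥(f.K ⊓ centralizer ({f.w} : Set G)) = 6 := by
    rw [← hCK]
    refine Nat.card_congr ⟨fun g => ⟨⟨g.1, g.2.1⟩, mem_centralizer_singleton_iff.2
      (Subtype.ext (mem_centralizer_singleton_iff.1 g.2.2))⟩,
      fun g => ⟨g.1.1, g.1.2, mem_centralizer_singleton_iff.2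
        (congrArg Subtype.val (mem_centralizer_singleton_iff.1 g.2))⟩, fun g => rfl, fun g => rfl⟩
  have h1 := orb f.K hKX
  rw [hK120, hKC] at h1
  have h2 := orb X le_rfl
  rw [hb] at h2
  have hN : Nat.card {v : G // ∃ a ∈ X, a * f.w * a⁻¹ = v} = 20 := by omega
  rw [hN] at h2
  omega

end MinusOne

open MinusOne in
/-- In the big case an involution outside `M` inverts `J` and commutes with `t`. -/
theorem exists_minusOne (hb : Nat.card ↥(centralizer ({f.z} : Set G) ⊓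
      centralizer ({f.t} : Set G)) = 720) :
    ∃ e : G, e ∈ normalizer (f.J : Set G) ∧ e * e = 1 ∧ e * f.t = f.t * e ∧ e ∉ f.M ∧
      ∀ a ∈ f.J, e * a * e⁻¹ = a⁻¹ := by
  classical
  obtain ⟨u, v, hu, hv, hk, hinj, hsurj⟩ := exists_basis f
  obtain ⟨k'z, k'w, k't, k'N, k'sq⟩ := k'_facts f
  set E : ZMod 3 × ZMod 3 → G := fun p => u ^ p.1.val * v ^ p.2.val with hE
  have hkt : f.k * f.t = f.t * f.k := f.K_t _ f.k_mem_K
  have kz : f.k * f.z * f.k⁻¹ = f.z := mul_inv_eq_iff_eq_mul.2 (f.K_z _ f.k_mem_K)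
  have tz : f.t * f.z * f.t⁻¹ = f.z := mul_inv_eq_iff_eq_mul.2 f.tz
  have tw : f.t * f.w * f.t⁻¹ = f.w := mul_inv_eq_iff_eq_mul.2 (f.K_t _ f.w_mem_K).symm
  have tN := M_le f f.t_mem_M
  -- the matrix of an element normalising the inverted part
  have hu3 := f.hJexp u hu.1
  have hv3 := f.hJexp v hv.1
  have huv : Commute u v := f.hJcomm u hu.1 v hv.1
  have hEW : ∀ p, IsW f (E p) := fun p => by
    refine ⟨f.J.mul_mem (f.J.pow_mem hu.1 _) (f.J.pow_mem hv.1 _), ?_⟩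
    show f.t * (u ^ p.1.val * v ^ p.2.val) * f.t⁻¹ = (u ^ p.1.val * v ^ p.2.val)⁻¹
    rw [show f.t * (u ^ p.1.val * v ^ p.2.val) * f.t⁻¹ =
      f.t * u ^ p.1.val * f.t⁻¹ * (f.t * v ^ p.2.val * f.t⁻¹) by group, ← conj_pow, ← conj_pow,
      hu.2, hv.2, inv_pow, inv_pow]
    exact ((huv.pow_pow _ _).inv_inv.eq).trans (mul_inv_rev _ _).symm
  have hadd : ∀ p q, E (p + q) = E p * E q := by
    intro p q
    have hx : ∀ {x : G}, x ^ 3 = 1 → ∀ a b : ZMod 3, x ^ (a + b).val = x ^ a.val * x ^ b.val :=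
      fun hx a b => by rw [ZMod.val_add, ← pow_add, ← pow_eq_pow_mod _ hx]
    simp only [hE, Prod.fst_add, Prod.snd_add, hx hu3, hx hv3]
    calc u ^ p.1.val * u ^ q.1.val * (v ^ p.2.val * v ^ q.2.val)
        = u ^ p.1.val * (u ^ q.1.val * v ^ p.2.val) * v ^ q.2.val := by group
      _ = u ^ p.1.val * (v ^ p.2.val * u ^ q.1.val) * v ^ q.2.val := by rw [(huv.pow_pow _ _).eq]
      _ = _ := by group
  have hEu : E (1, 0) = u := by
    show u ^ (1 : ZMod 3).val * v ^ (0 : ZMod 3).val = u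
    rw [show (1 : ZMod 3).val = 1 from rfl, show (0 : ZMod 3).val = 0 from rfl]
    simp
  have hEv : E (0, 1) = v := by
    show u ^ (0 : ZMod 3).val * v ^ (1 : ZMod 3).val = v
    rw [show (1 : ZMod 3).val = 1 from rfl, show (0 : ZMod 3).val = 0 from rfl]
    simp
  have hrep : ∀ g, g ∈ normalizer (f.J : Set G) → g * f.t = f.t * g → ∃ A : Mat, Acts u v g A := by
    intro g hg hgt
    obtain ⟨a, ha⟩ := hsurj _ (isW_mem f hg hgt hu)
    obtain ⟨b, hb'⟩ := hsurj _ (isW_mem f hg hgt hv)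
    refine ⟨((a.1, b.1), (a.2, b.2)), fun p => ?_⟩
    have hsm : ∀ (n : ℕ) (r : ZMod 3 × ZMod 3), E r ^ n = E (n • r) := by
      intro n r
      induction n with
      | zero => simp [hE]
      | succ n ih => rw [pow_succ, ih, ← hadd, succ_nsmul]
    have ea : g * u * g⁻¹ = E a := ha
    have eb : g * v * g⁻¹ = E b := hb'
    show g * (u ^ p.1.val * v ^ p.2.val) * g⁻¹ = E _
    rw [show g * (u ^ p.1.val * v ^ p.2.val) * g⁻¹ =
      g * u ^ p.1.val * g⁻¹ * (g * v ^ p.2.val * g⁻¹) by group, ← conj_pow, ← conj_pow, ea, eb,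
      hsm, hsm, ← hadd]
    congr 1
    simp only [Mat.app, Prod.ext_iff, Prod.fst_add, Prod.snd_add, Prod.smul_fst, Prod.smul_snd,
      nsmul_eq_mul, Prod.fst_mul, Prod.snd_mul, Prod.fst_natCast, Prod.snd_natCast,
      ZMod.natCast_zmod_val]
    constructor <;> ring
  have huniq : ∀ {g : G} {A B : Mat}, Acts u v g A → Acts u v g B → A = B := fun hA hB =>
    app_inj _ _ (hinj ((hA (1, 0)).symm.trans (hB (1, 0)))) (hinj ((hA (0, 1)).symm.trans (hB (0, 1))))
  have hmul : ∀ {g g' : G} {A B : Mat}, Acts u v g A → Acts u v g' B →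
      Acts u v (g * g') (A.comp B) := by
    intro g g' A B hA hB p
    rw [(app_eq A B p).1, ← hA (B.app p), ← hB p]
    group
  have hone : ∀ {d : G}, d ∈ closure ({f.z, f.w} : Set G) → Acts u v d Mat.one := by
    intro d hd p
    rw [(app_eq Mat.one Mat.one p).2.2]
    have hq := hEW p
    have hc : d * E p = E p * d := f.hJcomm _ ((D_iff f).1 hd).1 _ hq.1
    exact mul_inv_eq_iff_eq_mul.2 hc
  have ht : Acts u v f.t Mat.one.neg := by
    intro p
    rw [(app_eq Mat.one Mat.one p).2.1, (app_eq Mat.one Mat.one p).2.2]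
    show f.t * E p * f.t⁻¹ = E (-p)
    rw [(hEW p).2]
    refine (eq_inv_of_mul_eq_one_left ?_).symm
    rw [← hadd, neg_add_cancel]
    simp [hE]
  obtain ⟨B, hB⟩ := hrep f.k' k'N k't
  have hstd : Acts u v f.k Mat.std := hk
  have hBB : B.comp B = Mat.one.neg := huniq (hmul hB hB) (k'sq ▸ ht)
  have hKB : Mat.std.comp B = (B.comp Mat.std).neg := by
    have h1 := hmul hstd hB
    have h2 := hmul (hmul hB hstd) ht
    have e : f.k * f.k' = f.k' * f.k * f.t := f.comm_kk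
    rw [e] at h1
    refine (huniq h1 h2).trans ?_
    simp only [Mat.comp, Mat.neg, Mat.one, Prod.ext_iff]
    refine ⟨⟨?_, ?_⟩, ⟨?_, ?_⟩⟩ <;> ring
  obtain ⟨hcomm, hanti⟩ := forall_and.1 (mat_facts B hBB hKB)
  -- the group `H`
  set H := centralizer ({f.z} : Set G) ⊓ centralizer ({f.t} : Set G) ⊓ centralizer ({f.w} : Set G)
    with hH
  have hHm : ∀ g, g ∈ H ↔ (g * f.z = f.z * g ∧ g * f.t = f.t * g) ∧ g * f.w = f.w * g := by
    intro g
    simp only [hH, mem_inf, mem_centralizer_singleton_iff]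
  have hHN : ∀ g ∈ H, g ∈ normalizer (f.J : Set G) := fun g hg => by
    obtain ⟨⟨h1, -⟩, h3⟩ := (hHm g).1 hg
    refine f.centY (f.z * f.w) (Or.inl rfl) (mem_centralizer_singleton_iff.2 ?_)
    exact ((show Commute g f.z from h1).mul_right h3).eq
  set N0 := closure ({f.z, f.w} : Set G) ⊔ zpowers f.t with hN0
  have hDt : ∀ d ∈ closure ({f.z, f.w} : Set G), d * f.t = f.t * d := fun d hd => ((D_iff f).1 hd).2
  have hnorm : zpowers f.t ≤ normalizer (closure ({f.z, f.w} : Set G) : Set G) :=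
    zpowers_le.2 (centralizer_le_normalizer _ (mem_centralizer_iff.2 hDt))
  have htz : ∀ g ∈ zpowers f.t, g = 1 ∨ g = f.t := by
    intro g hg
    obtain ⟨n, rfl⟩ := mem_zpowers_iff.1 hg
    rcases Int.even_or_odd' n with ⟨i, rfl | rfl⟩
    · left; rw [zpow_mul, zpow_two, tt f, one_zpow]
    · right; rw [zpow_add, zpow_mul, zpow_two, tt f, one_zpow, one_mul, zpow_one]
  have hN0m : ∀ g ∈ N0, g ∈ closure ({f.z, f.w} : Set G) ∨ g * f.t ∈ closure ({f.z, f.w} : Set G) := by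
    intro g hg
    obtain ⟨d, hd, s, hs, rfl⟩ := Set.mem_mul.1 ((coe_mul_of_right_le_normalizer_left
      (closure ({f.z, f.w} : Set G)) (zpowers f.t) hnorm).le hg)
    rcases htz s hs with rfl | rfl
    · left; rwa [mul_one]
    · right; rwa [mul_assoc, tt f, mul_one]
  have hN0H : N0 ≤ H := by
    refine sup_le ((closure_le _).2 ?_) (zpowers_le.2 ((hHm _).2 ⟨⟨f.tz, rfl⟩, (f.K_t _ f.w_mem_K).symm⟩))
    rintro x (rfl | rfl) <;> rw [SetLike.mem_coe, hHm]
    exacts [⟨⟨rfl, f.tz.symm⟩, comm_z_w f⟩, ⟨⟨(comm_z_w f).symm, f.K_t _ f.w_mem_K⟩, rfl⟩]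
  have hH36 := card_H f hb
  rw [← hH] at hH36
  have hidx : (N0.subgroupOf H).index = 2 := by
    have h1 := (N0.subgroupOf H).card_mul_index
    rw [Nat.card_congr (subgroupOfEquivOfLe hN0H).toEquiv, hH36] at h1
    have hDd : Nat.card (closure ({f.z, f.w} : Set G)) ∣ Nat.card N0 := card_dvd_of_le le_sup_left
    have htd : Nat.card (zpowers f.t) ∣ Nat.card N0 := card_dvd_of_le le_sup_right
    rw [f.D_card] at hDd
    rw [Nat.card_zpowers, f.t_order] at htd
    have hle : Nat.card N0 ≤ 18 := by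
      let Φ : ↥(closure ({f.z, f.w} : Set G)) × ↥(zpowers f.t) → ↥N0 := fun x =>
        ⟨x.1 * x.2, mul_mem (mem_sup_left x.1.2) (mem_sup_right x.2.2)⟩
      have hΦ : Function.Surjective Φ := by
        rintro ⟨g, hg⟩
        obtain ⟨d, hd, s, hs, rfl⟩ := Set.mem_mul.1 ((coe_mul_of_right_le_normalizer_left
          (closure ({f.z, f.w} : Set G)) (zpowers f.t) hnorm).le hg)
        exact ⟨(⟨d, hd⟩, ⟨s, hs⟩), rfl⟩
      refine (Nat.card_le_card_of_surjective Φ hΦ).trans ?_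
      rw [Nat.card_prod, f.D_card, Nat.card_zpowers, f.t_order]
    obtain ⟨r, hr⟩ := Nat.Coprime.mul_dvd_of_dvd_of_dvd (by norm_num) hDd htd
    have : Nat.card N0 = 18 := by
      have : 0 < Nat.card N0 := Nat.card_pos
      omega
    rw [this] at h1
    omega
  obtain ⟨c, hc⟩ : ∃ c : ↥H, c ∉ N0.subgroupOf H := by
    by_contra hall
    push Not at hall
    rw [(eq_top_iff' _).2 hall, index_top] at hidx
    omega
  obtain ⟨⟨cz, ct⟩, cw⟩ := (hHm c).1 c.2
  obtain ⟨C, hC⟩ := hrep c (hHN c c.2) ct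
  have hfaith : ∀ h ∈ H, Acts u v h Mat.one → h ∈ closure ({f.z, f.w} : Set G) := by
    intro h hh hA
    obtain ⟨⟨a, b⟩, c'⟩ := (hHm h).1 hh
    refine mem_D f b a c' fun q hq => ?_
    obtain ⟨p, rfl⟩ := hsurj q hq
    have := hA p
    rw [(app_eq Mat.one Mat.one p).2.2] at this
    exact mul_inv_eq_iff_eq_mul.1 this
  have hCne : C ≠ Mat.one ∧ C ≠ Mat.one.neg := by
    constructor
    · intro e
      exact hc (mem_sup_left (hfaith c c.2 (e ▸ hC)))
    · intro e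
      have h1 := hmul hC ht
      rw [e, show Mat.one.neg.comp Mat.one.neg = Mat.one by decide +kernel] at h1
      have h2 := hfaith _ (H.mul_mem c.2 (hN0H (mem_sup_right (mem_zpowers f.t)))) h1
      refine hc ?_
      have := mul_mem (show (c : G) * f.t ∈ N0 from mem_sup_left h2)
        (show f.t ∈ N0 from mem_sup_right (mem_zpowers f.t))
      rwa [mul_assoc, tt f, mul_one] at this
  -- conjugation by a normalising element fixes the nontrivial coset
  have hsign : ∀ {g : G} {A : Mat}, Acts u v g A → g * f.z * g⁻¹ ∈ ({f.z, f.z⁻¹} : Set G) →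
      g * f.w * g⁻¹ ∈ ({f.w, f.w⁻¹} : Set G) → g * f.t = f.t * g →
      A.comp C = C.comp A ∨ A.comp C = (C.comp A).neg := by
    intro g A hA hgz hgw hgt
    have hcom : ∀ {x : G}, g * x * g⁻¹ ∈ ({x, x⁻¹} : Set G) → (c : G) * x = x * c →
        g * c * g⁻¹ * x = x * (g * c * g⁻¹) := by
      intro x hx hcx
      have hback : g⁻¹ * x * g = x ∨ g⁻¹ * x * g = x⁻¹ := by
        rcases hx with e | e
        · left; nth_rewrite 1 [← e]; group
        · right
          have e' : g * x⁻¹ * g⁻¹ = x := by rw [← conj_inv, e, inv_inv]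
          nth_rewrite 1 [← e']; group
      have hcx' : Commute (c : G) (g⁻¹ * x * g) := by
        rcases hback with e | e <;> rw [e]
        exacts [hcx, (show Commute (c : G) x from hcx).inv_right]
      calc g * c * g⁻¹ * x = g * (c * (g⁻¹ * x * g)) * g⁻¹ := by group
        _ = g * (g⁻¹ * x * g * c) * g⁻¹ := by rw [hcx'.eq]
        _ = x * (g * c * g⁻¹) := by group
    have hconjH : g * c * g⁻¹ ∈ H := (hHm _).2 ⟨⟨hcom hgz cz,
      hcom (Or.inl (mul_inv_eq_iff_eq_mul.2 hgt)) ct⟩, hcom hgw cw⟩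
    have hgi : ∀ {x : G}, g * x * g⁻¹ ∈ ({x, x⁻¹} : Set G) → x ∈ closure ({f.z, f.w} : Set G) →
        g⁻¹ * x * g ∈ closure ({f.z, f.w} : Set G) := by
      intro x hx hxD
      rcases hx with e | e
      · rw [show g⁻¹ * x * g = x by nth_rewrite 1 [← e]; group]; exact hxD
      · rw [show g⁻¹ * x * g = x⁻¹ by
          have e' : g * x⁻¹ * g⁻¹ = x := by rw [← conj_inv, e, inv_inv]
          nth_rewrite 1 [← e']; group]
        exact inv_mem hxD
    have hnot : g * c * g⁻¹ ∉ N0 := by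
      intro hmem
      refine hc ?_
      have hle : N0 ≤ N0.comap (MulAut.conj g⁻¹).toMonoidHom := by
        refine sup_le ((closure_le _).2 ?_) (zpowers_le.2 ?_)
        · rintro x (rfl | rfl) <;> show g⁻¹ * _ * g⁻¹⁻¹ ∈ N0 <;> rw [inv_inv]
          · exact mem_sup_left (hgi hgz (subset_closure (Set.mem_insert _ _)))
          · exact mem_sup_left (hgi hgw (subset_closure (Set.mem_insert_of_mem _ rfl)))
        · show g⁻¹ * f.t * g⁻¹⁻¹ ∈ N0
          rw [inv_inv, mul_assoc, ← hgt, inv_mul_cancel_left]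
          exact mem_sup_right (mem_zpowers f.t)
      have := hle hmem
      change g⁻¹ * (g * c * g⁻¹) * g⁻¹⁻¹ ∈ N0 at this
      rwa [show g⁻¹ * (g * (c : G) * g⁻¹) * g⁻¹⁻¹ = c by group] at this
    have hin : (c : G)⁻¹ * (g * c * g⁻¹) ∈ N0 := by
      have := (mul_mem_iff_of_index_two hidx (a := c⁻¹) (b := ⟨_, hconjH⟩)).2
        (iff_of_false (fun h => hc (inv_mem_iff.1 h)) hnot)
      exact this
    have hgc : g * c = (c : G) * ((c : G)⁻¹ * (g * c * g⁻¹)) * g := by group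
    rcases hN0m _ hin with hd | hd
    · left
      have h1 := hmul (hmul hC (hone hd)) hA
      rw [← hgc] at h1
      rw [huniq (hmul hA hC) h1]
      simp only [Mat.comp, Mat.one, Prod.ext_iff]
      refine ⟨⟨?_, ?_⟩, ⟨?_, ?_⟩⟩ <;> ring
    · right
      have h2 := hmul (hone hd) ht
      rw [mul_assoc _ f.t f.t, tt f, mul_one] at h2
      have h1 := hmul (hmul hC h2) hA
      rw [← hgc] at h1
      rw [huniq (hmul hA hC) h1]
      simp only [Mat.comp, Mat.one, Mat.neg, Prod.ext_iff]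
      refine ⟨⟨?_, ?_⟩, ⟨?_, ?_⟩⟩ <;> ring
  have hsK := hsign hstd (Or.inl kz) (Or.inr f.k_w) hkt
  have hsB := hsign hB (Or.inr k'z) (Or.inl k'w) k't
  have h00 : C ≠ ((0, 0), (0, 0)) := fun e => by
    have h1 := hC (1, 0)
    rw [e, show Mat.app ((0, 0), (0, 0)) (1, 0) = ((0, 0) : ZMod 3 × ZMod 3) by decide +kernel] at h1
    have h1' : (c : G) * E (1, 0) * (c : G)⁻¹ = E (0, 0) := h1
    rw [show E (0, 0) = 1 by simp [hE], conj_eq_one_iff] at h1'
    exact absurd (hinj (show E (1, 0) = E (0, 0) by rw [h1']; simp [hE])) (by decide)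
  -- `j` exchanges the two conditions
  have hj : C.comp Mat.std = Mat.std.comp C ↔ C.comp B = B.comp C := by
    obtain ⟨Aj, hAj⟩ := hrep f.j (M_le f f.j_mem_M) f.jt
    have hjj : Aj.comp Aj = Mat.one := huniq (hmul hAj hAj) (f.j_sq ▸ hone (one_mem _))
    have hji : f.j⁻¹ = f.j := inv_eq_of_mul_eq_one_right f.j_sq
    have hBe : B = (Aj.comp Mat.std).comp Aj := by
      refine huniq hB ?_
      have := hmul (hmul hAj hstd) hAj
      rwa [show f.j * f.k * f.j = f.k' by rw [k'_eq, hji]] at this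
    have hjs : Aj.comp C = C.comp Aj ∨ Aj.comp C = (C.comp Aj).neg := by
      have h1 : f.j * c * f.j⁻¹ ∈ H := by
        have hz' : f.j⁻¹ * f.z * f.j = f.w := by rw [← f.j_w]; group
        have hw' : f.j⁻¹ * f.w * f.j = f.z := by rw [← f.j_z]; group
        have key : ∀ {x y : G}, f.j⁻¹ * x * f.j = y → (c : G) * y = y * c →
            f.j * c * f.j⁻¹ * x = x * (f.j * c * f.j⁻¹) := by
          intro x y hxy hcy
          have hcx : (c : G) * (f.j⁻¹ * x * f.j) = f.j⁻¹ * x * f.j * c := by rw [hxy]; exact hcy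
          calc f.j * c * f.j⁻¹ * x = f.j * (c * (f.j⁻¹ * x * f.j)) * f.j⁻¹ := by group
            _ = f.j * (f.j⁻¹ * x * f.j * c) * f.j⁻¹ := by rw [hcx]
            _ = x * (f.j * c * f.j⁻¹) := by group
        exact (hHm _).2 ⟨⟨key hz' cw, key (by rw [mul_assoc, ← f.jt, inv_mul_cancel_left]) ct⟩,
          key hw' cz⟩
      have hnot : f.j * c * f.j⁻¹ ∉ N0 := by
        intro hmem
        refine hc ?_
        have hle : N0 ≤ N0.comap (MulAut.conj f.j).toMonoidHom := by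
          refine sup_le ((closure_le _).2 ?_) (zpowers_le.2 ?_)
          · rintro x (rfl | rfl)
            · show f.j * f.z * f.j⁻¹ ∈ N0
              rw [f.j_z]; exact mem_sup_left (subset_closure (Set.mem_insert_of_mem _ rfl))
            · show f.j * f.w * f.j⁻¹ ∈ N0
              rw [f.j_w]; exact mem_sup_left (subset_closure (Set.mem_insert _ _))
          · show f.j * f.t * f.j⁻¹ ∈ N0
            rw [f.jt, mul_inv_cancel_right]
            exact mem_sup_right (mem_zpowers f.t)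
        have h' := hle hmem
        change f.j * (f.j * c * f.j⁻¹) * f.j⁻¹ ∈ N0 at h'
        rwa [hji, show f.j * (f.j * (c : G) * f.j) * f.j = f.j * f.j * c * (f.j * f.j) by group,
          f.j_sq, one_mul, mul_one] at h'
      have hin : (c : G)⁻¹ * (f.j * c * f.j⁻¹) ∈ N0 :=
        (mul_mem_iff_of_index_two hidx (a := c⁻¹) (b := ⟨_, h1⟩)).2
          (iff_of_false (fun h => hc (inv_mem_iff.1 h)) hnot)
      have hgc : f.j * c = (c : G) * ((c : G)⁻¹ * (f.j * c * f.j⁻¹)) * f.j := by group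
      rcases hN0m _ hin with hd | hd
      · left
        have h2 := hmul (hmul hC (hone hd)) hAj
        rw [← hgc] at h2
        rw [huniq (hmul hAj hC) h2]
        simp only [Mat.comp, Mat.one, Prod.ext_iff]
        refine ⟨⟨?_, ?_⟩, ⟨?_, ?_⟩⟩ <;> ring
      · right
        have h3 := hmul (hone hd) ht
        rw [mul_assoc _ f.t f.t, tt f, mul_one] at h3
        have h2 := hmul (hmul hC h3) hAj
        rw [← hgc] at h2
        rw [huniq (hmul hAj hC) h2]
        simp only [Mat.comp, Mat.one, Mat.neg, Prod.ext_iff]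
        refine ⟨⟨?_, ?_⟩, ⟨?_, ?_⟩⟩ <;> ring
    have hassoc : ∀ P Q R : Mat, (P.comp Q).comp R = P.comp (Q.comp R) := fun P Q R => by
      simp only [Mat.comp, Prod.ext_iff]
      refine ⟨⟨?_, ?_⟩, ⟨?_, ?_⟩⟩ <;> ring
    have hneg : ∀ P Q : Mat, P.neg.comp Q = (P.comp Q).neg ∧ P.comp Q.neg = (P.comp Q).neg ∧
        P.neg.neg = P := fun P Q => by
      simp only [Mat.comp, Mat.neg, Prod.ext_iff]
      refine ⟨⟨⟨?_, ?_⟩, ⟨?_, ?_⟩⟩, ⟨⟨?_, ?_⟩, ⟨?_, ?_⟩⟩, ⟨⟨?_, ?_⟩, ⟨?_, ?_⟩⟩⟩ <;> ring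
    have h1P : ∀ P : Mat, P.comp Mat.one = P ∧ Mat.one.comp P = P := fun P => by
      simp only [Mat.comp, Mat.one, Prod.ext_iff]
      refine ⟨⟨⟨?_, ?_⟩, ⟨?_, ?_⟩⟩, ⟨⟨?_, ?_⟩, ⟨?_, ?_⟩⟩⟩ <;> ring
    have key : ∀ Y : Mat, C.comp Y = Y.comp C →
        C.comp ((Aj.comp Y).comp Aj) = ((Aj.comp Y).comp Aj).comp C := by
      intro Y hY
      rcases hjs with h | h
      · calc C.comp ((Aj.comp Y).comp Aj) = ((C.comp Aj).comp Y).comp Aj := by simp only [hassoc]
          _ = (Aj.comp (C.comp Y)).comp Aj := by rw [← h]; simp only [hassoc]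
          _ = (Aj.comp Y).comp (C.comp Aj) := by rw [hY]; simp only [hassoc]
          _ = _ := by rw [← h]; simp only [hassoc]
      · have h' : C.comp Aj = (Aj.comp C).neg := by rw [h, (hneg _ C).2.2]
        calc C.comp ((Aj.comp Y).comp Aj) = ((C.comp Aj).comp Y).comp Aj := by simp only [hassoc]
          _ = ((Aj.comp (C.comp Y)).comp Aj).neg := by
            rw [h', (hneg _ _).1, (hneg _ _).1]; simp only [hassoc]
          _ = ((Aj.comp Y).comp (C.comp Aj)).neg := by rw [hY]; simp only [hassoc]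
          _ = _ := by rw [h', (hneg _ _).2.1, (hneg _ C).2.2]; simp only [hassoc]
    refine ⟨fun h => ?_, fun h => ?_⟩
    · rw [hBe]; exact key _ h
    · have := key B h
      rwa [hBe, show (Aj.comp ((Aj.comp Mat.std).comp Aj)).comp Aj = Mat.std by
        simp only [← hassoc, hjj, h1P]; rw [hassoc, hjj, (h1P _).1]] at this
  have hCK : C = Mat.std.comp B ∨ C = (Mat.std.comp B).neg := by
    have hnn : ∀ P : Mat, P.neg.neg = P := fun P => by simp [Mat.neg]
    rcases hsK with a | a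
    · exfalso
      rcases hcomm C ⟨a.symm, hj.1 a.symm⟩ with e | e | e
      exacts [hCne.1 e, hCne.2 e, h00 e]
    rcases hsB with b | b
    · exfalso
      rcases hcomm C ⟨hj.2 b.symm, b.symm⟩ with e | e | e
      exacts [hCne.1 e, hCne.2 e, h00 e]
    rcases hanti C ⟨by rw [a, hnn], by rw [b, hnn]⟩ with e | e | e
    exacts [Or.inl e, Or.inr e, absurd e h00]
  -- an element acting as minus one
  set q := f.k * f.k' with hq
  have hqN : q ∈ normalizer (f.J : Set G) := mul_mem f.k_normJ k'N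
  have hqt : q * f.t = f.t * q := ((show Commute f.k f.t from hkt).mul_left k't).eq
  have hqz : q * f.z * q⁻¹ = f.z⁻¹ := by
    rw [hq, show f.k * f.k' * f.z * (f.k * f.k')⁻¹ = f.k * (f.k' * f.z * f.k'⁻¹) * f.k⁻¹ by group,
      k'z, ← conj_inv, kz]
  have hqw : q * f.w * q⁻¹ = f.w⁻¹ := by
    rw [hq, show f.k * f.k' * f.w * (f.k * f.k')⁻¹ = f.k * (f.k' * f.w * f.k'⁻¹) * f.k⁻¹ by group,
      k'w, f.k_w]
  have hqA : Acts u v q (Mat.std.comp B) := hmul hstd hB
  -- `q * q` acts as minus one, so `q * c` or `q * c * t` does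
  have hsq : (Mat.std.comp B).comp (Mat.std.comp B) = Mat.one.neg :=
    (by decide +kernel : ∀ B : Mat, B.comp B = Mat.one.neg → Mat.std.comp B = (B.comp Mat.std).neg →
      (Mat.std.comp B).comp (Mat.std.comp B) = Mat.one.neg) B hBB hKB
  obtain ⟨n, hnN, hnt, hnz, hnw, hnA⟩ : ∃ n, n ∈ normalizer (f.J : Set G) ∧ n * f.t = f.t * n ∧
      n * f.z * n⁻¹ = f.z⁻¹ ∧ n * f.w * n⁻¹ = f.w⁻¹ ∧ Acts u v n Mat.one.neg := by
    have cz' : (c : G) * f.z * (c : G)⁻¹ = f.z := mul_inv_eq_iff_eq_mul.2 cz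
    have cw' : (c : G) * f.w * (c : G)⁻¹ = f.w := mul_inv_eq_iff_eq_mul.2 cw
    rcases hCK with e | e
    · refine ⟨q * c, mul_mem hqN (hHN c c.2), ((show Commute q f.t from hqt).mul_left ct).eq,
        ?_, ?_, ?_⟩
      · rw [show q * c * f.z * (q * c)⁻¹ = q * (c * f.z * (c : G)⁻¹) * q⁻¹ by group, cz', hqz]
      · rw [show q * c * f.w * (q * c)⁻¹ = q * (c * f.w * (c : G)⁻¹) * q⁻¹ by group, cw', hqw]
      · have := hmul hqA hC
        rwa [e, hsq] at this
    · refine ⟨q * c * f.t, mul_mem (mul_mem hqN (hHN c c.2)) tN,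
        (((show Commute q f.t from hqt).mul_left ct).mul_left rfl).eq, ?_, ?_, ?_⟩
      · rw [show q * c * f.t * f.z * (q * c * f.t)⁻¹ =
          q * (c * (f.t * f.z * f.t⁻¹) * (c : G)⁻¹) * q⁻¹ by group, tz, cz', hqz]
      · rw [show q * c * f.t * f.w * (q * c * f.t)⁻¹ =
          q * (c * (f.t * f.w * f.t⁻¹) * (c : G)⁻¹) * q⁻¹ by group, tw, cw', hqw]
      · have := hmul (hmul hqA hC) ht
        rwa [e, (by decide +kernel : ∀ P : Mat, P.comp P = Mat.one.neg →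
          (P.comp P.neg).comp Mat.one.neg = Mat.one.neg) _ hsq] at this
  have hinvJ : ∀ a ∈ f.J, n * a * n⁻¹ = a⁻¹ := by
    intro a ha
    obtain ⟨d, hd, x, hx, rfl⟩ := split f ha
    have hdinv : n * d * n⁻¹ = d⁻¹ := by
      have hcl : ∀ y ∈ closure ({f.z, f.w} : Set G), y ∈ f.J ∧ n * y * n⁻¹ = y⁻¹ := by
        intro y hy
        refine closure_induction (p := fun y _ => y ∈ f.J ∧ n * y * n⁻¹ = y⁻¹) ?_ ?_ ?_ ?_ hy
        · rintro y (rfl | rfl)
          exacts [⟨f.Z_le_J (f.Z_eq ▸ mem_zpowers f.z), hnz⟩, ⟨f.w_mem_J, hnw⟩]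
        · exact ⟨one_mem _, by group⟩
        · rintro a b _ _ ⟨ha, ha'⟩ ⟨hb, hb'⟩
          refine ⟨mul_mem ha hb, ?_⟩
          rw [show n * (a * b) * n⁻¹ = n * a * n⁻¹ * (n * b * n⁻¹) by group, ha', hb', mul_inv_rev]
          exact f.hJcomm _ (inv_mem ha) _ (inv_mem hb)
        · rintro a _ ⟨ha, ha'⟩
          exact ⟨inv_mem ha, by rw [← conj_inv, ha']⟩
      exact (hcl d hd).2
    obtain ⟨p, rfl⟩ := hsurj x hx
    have hxinv : n * E p * n⁻¹ = (E p)⁻¹ := by
      have h1 := hnA p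
      rw [(app_eq Mat.one Mat.one p).2.1, (app_eq Mat.one Mat.one p).2.2] at h1
      refine h1.trans (eq_inv_of_mul_eq_one_left ?_)
      show E (-p) * E p = 1
      rw [← hadd, neg_add_cancel]
      simp [hE]
    rw [show n * (d * E p) * n⁻¹ = n * d * n⁻¹ * (n * E p * n⁻¹) by group, hdinv, hxinv]
    exact (f.hJcomm _ (inv_mem ((D_iff f).1 hd).1) _ (inv_mem (hEW p).1)).trans
      (mul_inv_rev d (E p)).symm
  have hn2 : n ^ 2 ∈ f.J := by
    rw [← f.centJ, mem_centralizer_iff]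
    intro a ha
    have h2 : n * (n * a * n⁻¹) * n⁻¹ = a := by
      rw [hinvJ a ha, ← conj_inv, hinvJ a ha, inv_inv]
    calc a * n ^ 2 = n * (n * a * n⁻¹) * n⁻¹ * n ^ 2 := by rw [h2]
      _ = n ^ 2 * a := by rw [pow_two]; group
  refine ⟨n ^ 3, pow_mem hnN 3, ?_, ((show Commute n f.t from hnt).pow_left 3).eq, ?_, ?_⟩
  · rw [← pow_add, show n ^ (3 + 3) = (n ^ 2) ^ 3 by rw [← pow_mul], f.hJexp _ hn2]
  all_goals
    have hinv3 : ∀ a ∈ f.J, n ^ 3 * a * (n ^ 3)⁻¹ = a⁻¹ := fun a ha => by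
      rw [show n ^ 3 * a * (n ^ 3)⁻¹ = n * (n ^ 2 * a * (n ^ 2)⁻¹) * n⁻¹ by group,
        mul_inv_eq_iff_eq_mul.2 (f.hJcomm _ hn2 _ ha), hinvJ a ha]
  · intro hM
    set e : ↥f.M := ⟨n ^ 3, hM⟩
    have hcen : f.φM e ∈ center (alternatingGroup (Fin 6)) := by
      rw [mem_center_iff]
      intro x
      obtain ⟨g, rfl⟩ := f.φM_surj x
      rw [← map_mul, ← map_mul, ← mul_inv_eq_one, ← map_inv, ← map_mul, ← MonoidHom.mem_ker,
        f.φM_ker, mem_subgroupOf, ← f.centJ, mem_centralizer_iff]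
      intro a ha
      have hg : (g : G)⁻¹ * a * g ∈ f.J := by
        have := norm_conj f (inv_mem (M_le f g.2)) ha
        rwa [inv_inv] at this
      have h1 := hinv3 _ hg
      show a * ((g : G) * n ^ 3 * (n ^ 3 * (g : G))⁻¹) = (g : G) * n ^ 3 * (n ^ 3 * (g : G))⁻¹ * a
      have h2 : (g : G) * n ^ 3 * (n ^ 3 * (g : G))⁻¹ * a *
          ((g : G) * n ^ 3 * (n ^ 3 * (g : G))⁻¹)⁻¹ = a := by
        have e3 : (n ^ 3)⁻¹ * a * n ^ 3 = a⁻¹ := by
          have := hinv3 _ (inv_mem ha)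
          rw [inv_inv] at this
          nth_rewrite 1 [← this]
          group
        calc _ = (g : G) * (n ^ 3 * ((g : G)⁻¹ * ((n ^ 3)⁻¹ * a * n ^ 3) * g) * (n ^ 3)⁻¹) *
              (g : G)⁻¹ := by group
          _ = (g : G) * (n ^ 3 * ((g : G)⁻¹ * a * g)⁻¹ * (n ^ 3)⁻¹) * (g : G)⁻¹ := by
            rw [e3]; group
          _ = a := by
            rw [hinv3 _ (inv_mem hg), inv_inv]
            group
      exact (mul_inv_eq_iff_eq_mul.1 h2).symm
    rw [alternatingGroup.center_eq_bot (by simp), mem_bot, ← MonoidHom.mem_ker, f.φM_ker,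
      mem_subgroupOf] at hcen
    obtain ⟨a, ha, ha1⟩ : ∃ a ∈ f.J, a ≠ 1 := ⟨u, hu.1, fun e => by
      have := hinj (a₁ := (1, 0)) (a₂ := (0, 0)) (show E (1, 0) = E (0, 0) by
        rw [hEu, e]; simp [hE])
      exact absurd this (by decide)⟩
    have h1 := hinv3 a ha
    rw [mul_inv_eq_iff_eq_mul.2 (f.hJcomm _ hcen _ ha)] at h1
    have h3 := f.hJexp a ha
    rw [pow_succ, pow_two, mul_eq_one_iff_eq_inv.2 h1, one_mul] at h3
    exact ha1 h3
  · exact hinv3

end CfsgLib.McLThreeLocal
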