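import Cfsg.Agent.Lib.McLThreeLocal.Defs

/-
The quotient of the centraliser of `t` by `⟨t⟩`: lifting of centralisers and conjugacy.
-/

set_option autoImplicit false
set_option linter.unusedSectionVars false

namespace CfsgLib.McLThreeLocal.Small

open Subgroup

universe u

variable {G : Type u} [Group G]

/-- `C(t)`. -/
abbrev X (t : G) : Subgroup G := centralizer ({t} : Set G)

theorem mem_X {t g : G} : g ∈ X t ↔ Commute g t := mem_centralizer_singleton_iff

theorem t_mem_X (t : G) : t ∈ X t := mem_X.2 (Commute.refl t)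

/-- `⟨t⟩` inside `C(t)`. -/
abbrev T (t : G) : Subgroup (X t) := zpowers (⟨t, t_mem_X t⟩ : X t)

instance T_normal (t : G) : (T t).Normal := ⟨fun a ha g => by
  obtain ⟨m, rfl⟩ := mem_zpowers_iff.1 ha
  have hg : Commute g (⟨t, t_mem_X t⟩ : X t) := Subtype.ext (mem_X.1 g.2)
  rw [(hg.zpow_right m).eq, mul_inv_cancel_right]
  exact zpow_mem_zpowers _ m⟩

/-- The projection `C(t) → C(t)/⟨t⟩`. -/
abbrev proj (t : G) : X t →* X t ⧸ T t := QuotientGroup.mk' (T t)

theorem proj_surj (t : G) : Function.Surjective (proj t) := QuotientGroup.mk'_surjective _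

theorem mem_T {t : G} (ht : t * t = 1) {a : X t} : a ∈ T t ↔ (a : G) = 1 ∨ (a : G) = t := by
  constructor
  · intro ha
    obtain ⟨m, rfl⟩ := mem_zpowers_iff.1 ha
    rcases Int.even_or_odd' m with ⟨q, rfl | rfl⟩
    · left; simp [zpow_mul, pow_two, ht]
    · right; simp [zpow_add_one, zpow_mul, pow_two, ht]
  · rintro (h | h)
    · rw [show a = 1 from Subtype.ext h]; exact one_mem _
    · rw [show a = ⟨t, t_mem_X t⟩ from Subtype.ext h]; exact mem_zpowers _

theorem proj_eq_one {t : G} (ht : t * t = 1) {a : X t} :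
    proj t a = 1 ↔ (a : G) = 1 ∨ (a : G) = t := by
  rw [QuotientGroup.mk'_apply, QuotientGroup.eq_one_iff, mem_T ht]

theorem proj_eq_iff {t : G} (ht : t * t = 1) {a b : X t} :
    proj t a = proj t b ↔ (a : G) = b ∨ (a : G) = b * t := by
  constructor
  · intro h
    have h1 : proj t (b⁻¹ * a) = 1 := by rw [map_mul, map_inv, h, inv_mul_cancel]
    rcases (proj_eq_one ht).1 h1 with e | e
    · exact Or.inl (inv_mul_eq_one.1 e).symm
    · exact Or.inr (by rw [← inv_mul_eq_iff_eq_mul]; exact e)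
  · intro h
    have h1 : proj t (b⁻¹ * a) = 1 := (proj_eq_one ht).2 (by
      rcases h with e | e
      · exact Or.inl (inv_mul_eq_one.2 e.symm)
      · exact Or.inr (inv_mul_eq_iff_eq_mul.2 e))
    rw [map_mul, map_inv, inv_mul_eq_one] at h1
    exact h1.symm

/-- Elements of odd order with equal images are equal. -/
theorem eq_of_proj_eq {t : G} (ht : t * t = 1) (ht1 : t ≠ 1) {a b : X t} {m : ℕ} (hm : Odd m)
    (ha : (a : G) ^ m = 1) (hb : (b : G) ^ m = 1) (h : proj t a = proj t b) : a = b := by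
  rcases (proj_eq_iff ht).1 h with e | e
  · exact Subtype.ext e
  · exfalso
    apply ht1
    have h1 : ((b : G) * t) ^ m = 1 := e ▸ ha
    rw [(mem_X.1 b.2).mul_pow, hb, one_mul] at h1
    obtain ⟨k, rfl⟩ := hm
    rwa [pow_succ, pow_mul, pow_two, ht, one_pow, one_mul] at h1

/-- Conjugation between elements of odd order lifts exactly. -/
theorem conj_eq_of_proj {t : G} (ht : t * t = 1) (ht1 : t ≠ 1) {g a b : X t} {m : ℕ} (hm : Odd m)
    (ha : (a : G) ^ m = 1) (hb : (b : G) ^ m = 1)
    (h : proj t g * proj t a * (proj t g)⁻¹ = proj t b) : (g : G) * a * (g : G)⁻¹ = b := by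
  have := eq_of_proj_eq ht ht1 (a := g * a * g⁻¹) hm
    (by simp [conj_pow, ha]) hb (by simpa using h)
  exact congrArg Subtype.val this

/-- Centralising modulo `t` an element of odd order is centralising it. -/
theorem commute_of_proj {t : G} (ht : t * t = 1) (ht1 : t ≠ 1) {g a : X t} {m : ℕ} (hm : Odd m)
    (ha : (a : G) ^ m = 1) (h : Commute (proj t g) (proj t a)) : Commute (g : G) a :=
  mul_inv_eq_iff_eq_mul.1 (conj_eq_of_proj ht ht1 hm ha ha (by rw [h.eq, mul_inv_cancel_right]))

end CfsgLib.McLThreeLocal.Small
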