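import Cfsg.Agent.Lib.McLThreeLocal.Defs

/-!
The decomposition of `J` under `t` and elements inverting `J`.
-/

set_option autoImplicit false
set_option linter.unusedSectionVars false
set_option linter.style.haveILetI false

namespace CfsgLib.McLThreeLocal.SplitJ

open Subgroup

universe u

/-- An endomorphism commuting with a quaternion action on an elementary group of order nine is a
scalar. -/
theorem scalar_of_commute {V : Type*} [CommGroup V] [Finite V] (hcard : Nat.card V = 9)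
    (hexp : ∀ v : V, v ^ 3 = 1) (A B C : V →* V) (hAA : ∀ v, A (A v) = v⁻¹)
    (hBB : ∀ v, B (B v) = v⁻¹) (hAB : ∀ v, A (B v) = (B (A v))⁻¹)
    (hCA : ∀ v, C (A v) = A (C v)) (hCB : ∀ v, C (B v) = B (C v)) (hC : Function.Injective C) :
    (∀ v, C v = v) ∨ (∀ v, C v = v⁻¹) := by
  classical
  haveI : Nontrivial V := Finite.one_lt_card_iff_nontrivial.1 (by omega)
  obtain ⟨v, hv⟩ := exists_ne (1 : V)
  have hord : ∀ u : V, u ≠ 1 → orderOf u = 3 := fun u hu => orderOf_eq_prime (hexp u) hu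
  let g : Fin 3 × Fin 3 → V := fun p => v ^ (p.1 : ℕ) * A v ^ (p.2 : ℕ)
  have hg : Function.Injective g := by
    have key : ∀ i l : ℕ, v ^ i * A v ^ l = 1 → i % 3 = 0 ∧ l % 3 = 0 := by
      intro i l e
      have hl : l % 3 = 0 := by
        by_contra hl
        have hA := congrArg A e
        rw [map_mul, map_pow, map_pow, hAA, map_one] at hA
        -- eliminate `A v`
        have h1 : v ^ (i * i) * v ^ (l * l) = 1 := by
          have e1 : (v ^ i * A v ^ l) ^ i = 1 := by rw [e, one_pow]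
          have e2 : (A v ^ i * v⁻¹ ^ l) ^ l = 1 := by rw [hA, one_pow]
          calc v ^ (i * i) * v ^ (l * l)
              = (v ^ i * A v ^ l) ^ i * ((A v ^ i * v⁻¹ ^ l) ^ l)⁻¹ := by
                rw [mul_pow, mul_pow, ← pow_mul, ← pow_mul, ← pow_mul, ← pow_mul, mul_comm l i,
                  inv_pow, mul_inv, inv_inv]
                simp [mul_assoc, mul_comm, mul_left_comm]
            _ = 1 := by rw [e1, e2]; simp
        rw [← pow_add] at h1
        have h2 := orderOf_dvd_of_pow_eq_one h1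
        rw [hord v hv] at h2
        have : i % 3 < 3 := Nat.mod_lt _ (by norm_num)
        have : l % 3 < 3 := Nat.mod_lt _ (by norm_num)
        obtain ⟨c, hc⟩ := h2
        have h4 : (i % 3 * (i % 3) + l % 3 * (l % 3)) % 3 = 0 := by
          rw [Nat.add_mod, ← Nat.mul_mod, ← Nat.mul_mod, ← Nat.add_mod, hc]; simp
        interval_cases i % 3 <;> interval_cases l % 3 <;> omega
      refine ⟨?_, hl⟩
      rw [← pow_mod_orderOf (A v) l] at e
      by_cases hA1 : A v = 1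
      · exact absurd (by simpa [hA1] using (hAA v).symm) hv
      rw [hord _ hA1, hl, pow_zero, mul_one] at e
      have := orderOf_dvd_of_pow_eq_one e
      rw [hord v hv] at this
      omega
    rintro ⟨i, l⟩ ⟨i', l'⟩ e
    have h := key ((i : ℕ) + (3 - (i' : ℕ))) ((l : ℕ) + (3 - (l' : ℕ))) (by
      have e' : v ^ (i : ℕ) * A v ^ (l : ℕ) = v ^ (i' : ℕ) * A v ^ (l' : ℕ) := e
      rw [pow_add, pow_add, mul_mul_mul_comm, e', ← mul_mul_mul_comm, ← pow_add, ← pow_add,
        show (i' : ℕ) + (3 - i') = 3 by omega, show (l' : ℕ) + (3 - l') = 3 by omega, hexp, hexp,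
        mul_one])
    have := i.isLt; have := i'.isLt; have := l.isLt; have := l'.isLt
    exact Prod.ext (Fin.ext (show (i : ℕ) = (i' : ℕ) by omega))
      (Fin.ext (show (l : ℕ) = (l' : ℕ) by omega))
  have hsurj : ∀ u : V, ∃ i l : ℕ, u = v ^ i * A v ^ l := fun u => by
    obtain ⟨⟨i, l⟩, e⟩ := (hg.bijective_of_nat_card_le (by simp [hcard])).2 u
    exact ⟨i, l, e.symm⟩
  obtain ⟨i, l, hCv⟩ := hsurj (C v)
  obtain ⟨p, q, hBv⟩ := hsurj (B v)
  have hl : A (B v) ^ l = 1 := by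
    have h1 : C (B v) = B v ^ i * A (B v) ^ l := by
      conv_lhs => rw [hBv]
      rw [map_mul, map_pow, map_pow, hCA, hCv, map_mul, map_pow, map_pow, hAA]
      conv_rhs => rw [hBv]
      rw [map_mul, map_pow, map_pow, hAA]
      simp only [mul_pow, ← pow_mul, inv_pow]
      simp [mul_comm, mul_left_comm, mul_assoc]
    rw [hCB, hCv, map_mul, map_pow, map_pow] at h1
    have h2 := mul_left_cancel h1
    rw [hAB] at h2
    have h3 : (B (A v) ^ l) ^ 2 = 1 := by
      rw [pow_two]; nth_rewrite 2 [h2]; rw [inv_pow, mul_inv_cancel]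
    have h4 : (B (A v) ^ l) ^ 3 = 1 := hexp _
    rw [pow_succ, h3, one_mul] at h4
    rw [hAB, inv_pow, h4, inv_one]
  have hABv : A (B v) ≠ 1 := fun e => hv (by
    have h1 := congrArg A e
    rw [hAA, map_one, inv_eq_one] at h1
    have h2 := congrArg B h1
    rwa [hBB, map_one, inv_eq_one] at h2)
  have hl3 : 3 ∣ l := hord _ hABv ▸ orderOf_dvd_of_pow_eq_one hl
  obtain ⟨l', rfl⟩ := hl3
  rw [pow_mul, hexp, one_pow, mul_one] at hCv
  have hall : ∀ u, C u = u ^ i := by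
    intro u
    obtain ⟨a, b, rfl⟩ := hsurj u
    rw [map_mul, map_pow, map_pow, hCA, hCv, map_pow, mul_pow, ← pow_mul, ← pow_mul, ← pow_mul,
      ← pow_mul, mul_comm i a, mul_comm i b]
  have hi : i % 3 ≠ 0 := fun e => hv (hC (by
    rw [map_one, hall, ← Nat.div_add_mod i 3, e, add_zero, pow_mul, hexp, one_pow]))
  have hmod : ∀ u : V, u ^ i = u ^ (i % 3) := fun u => by
    conv_lhs => rw [← Nat.div_add_mod i 3, pow_add, pow_mul, hexp, one_pow, one_mul]
  have : i % 3 < 3 := Nat.mod_lt _ (by norm_num)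
  rcases (show i % 3 = 1 ∨ i % 3 = 2 by omega) with e | e
  · exact Or.inl fun u => by rw [hall, hmod, e, pow_one]
  · refine Or.inr fun u => ?_
    rw [hall, hmod, e, eq_inv_iff_mul_eq_one, ← pow_succ, hexp]

variable {G : Type u} [Group G] [Finite G] (f : Frame G)

theorem t_normJ : f.t ∈ normalizer (f.J : Set G) := by
  rw [← f.k_sq]; exact mul_mem f.k_normJ f.k_normJ

theorem M_le_normJ : f.M ≤ normalizer (f.J : Set G) := by
  rw [f.hM, closure_le]; exact fun g hg => hg.1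

theorem conj_mem {g a : G} (hg : g ∈ normalizer (f.J : Set G)) (ha : a ∈ f.J) : g * a * g⁻¹ ∈ f.J :=
  (mem_normalizer_iff.1 hg a).1 ha

theorem tt : f.t * f.t = 1 := by
  have h := pow_orderOf_eq_one f.t
  rwa [f.t_order, pow_two] at h

theorem tinv : f.t⁻¹ = f.t := inv_eq_of_mul_eq_one_right (tt f)

theorem z_mem_J : f.z ∈ f.J := f.Z_le_J (f.Z_eq ▸ mem_zpowers f.z)

theorem z_commute_w : Commute f.z f.w := f.hJcomm _ (z_mem_J f) _ f.w_mem_J

/-- An element normalising `J` and inverting `z`, `w` and the elements inverted by `t` inverts `J`. -/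
theorem invert_J {h : G} (hh : h ∈ normalizer (f.J : Set G)) (hz : h * f.z * h⁻¹ = f.z⁻¹)
    (hw : h * f.w * h⁻¹ = f.w⁻¹)
    (hW : ∀ a ∈ f.J, f.t * a * f.t⁻¹ = a⁻¹ → h * a * h⁻¹ = a⁻¹) :
    ∀ a ∈ f.J, h * a * h⁻¹ = a⁻¹ := by
  have hD : ∀ d ∈ closure ({f.z, f.w} : Set G), h * d * h⁻¹ = d⁻¹ := by
    intro d hd
    have hdJ : ∀ x ∈ closure ({f.z, f.w} : Set G), x ∈ f.J := fun x hx => ((f.D_eq x).1 hx).1
    induction hd using closure_induction with
    | mem x hx =>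
      rcases hx with rfl | rfl
      · exact hz
      · exact hw
    | one => simp
    | mul x y hx hy ex ey =>
      rw [mul_inv_rev, f.hJcomm _ (inv_mem (hdJ y hy)) _ (inv_mem (hdJ x hx)), ← ex, ← ey]; group
    | inv x hx ex => rw [← conj_inv, ex]
  intro a ha
  have hta : f.t * a * f.t⁻¹ ∈ f.J := conj_mem f (t_normJ f) ha
  set b := f.t * a * f.t⁻¹ with hb
  have htb : f.t * b * f.t⁻¹ = a := by
    rw [hb, show f.t * (f.t * a * f.t⁻¹) * f.t⁻¹ = (f.t * f.t) * a * (f.t * f.t)⁻¹ by group, tt]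
    simp
  have h1 : h * (a * b) * h⁻¹ = (a * b)⁻¹ := by
    refine hD _ ((f.D_eq _).2 ⟨mul_mem ha hta, ?_⟩)
    have e : f.t * (a * b) * f.t⁻¹ = a * b := by
      rw [← conj_mul, ← hb, htb, f.hJcomm b hta a ha]
    exact (mul_inv_eq_iff_eq_mul.1 e).symm
  have h2 : h * (a * b⁻¹) * h⁻¹ = (a * b⁻¹)⁻¹ := by
    refine hW _ (mul_mem ha (inv_mem hta)) ?_
    rw [← conj_mul, ← conj_inv, ← hb, htb, mul_inv_rev, inv_inv]
  have hcomm := f.hJcomm
  have e3 : (a * b) * (a * b⁻¹) = a⁻¹ := by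
    rw [show (a * b) * (a * b⁻¹) = a * (b * a) * b⁻¹ by group, hcomm b hta a ha,
      show a * (a * b) * b⁻¹ = a * a by group, eq_inv_iff_mul_eq_one, ← pow_two, ← pow_succ,
      f.hJexp a ha]
  have e4 : h * a⁻¹ * h⁻¹ = a := by
    rw [← e3, ← conj_mul, h1, h2, ← mul_inv_rev,
      hcomm _ (mul_mem ha (inv_mem hta)) _ (mul_mem ha hta), e3, inv_inv]
  calc h * a * h⁻¹ = (h * a⁻¹ * h⁻¹)⁻¹ := by group
    _ = a⁻¹ := by rw [e4]

/-- The part of `J` inverted by `t` has order nine. -/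
theorem card_inverted (W : Subgroup G) (hmem : ∀ a, a ∈ W ↔ a ∈ f.J ∧ f.t * a * f.t⁻¹ = a⁻¹) :
    Nat.card ↥W = 9 := by
  let ψ : ↥f.J →* G :=
    { toFun := fun a => (a : G) * (f.t * a * f.t⁻¹)⁻¹
      map_one' := by simp
      map_mul' := fun a b => by
        have hA := conj_mem f (t_normJ f) a.2
        have hB := conj_mem f (t_normJ f) b.2
        simp only [Subgroup.coe_mul]
        rw [← conj_mul, mul_inv_rev, mul_assoc (a : G) (b : G), ← mul_assoc (b : G),
          f.hJcomm _ (mul_mem b.2 (inv_mem hB)) _ (inv_mem hA), ← mul_assoc (a : G)] }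
  have hr : ψ.range = W := by
    ext x
    constructor
    · rintro ⟨a, rfl⟩
      refine (hmem _).2 ⟨mul_mem a.2 (inv_mem (conj_mem f (t_normJ f) a.2)), ?_⟩
      show f.t * ((a : G) * (f.t * a * f.t⁻¹)⁻¹) * f.t⁻¹ = ((a : G) * (f.t * a * f.t⁻¹)⁻¹)⁻¹
      rw [← conj_mul, ← conj_inv, mul_inv_rev ((a : G)), inv_inv,
        show f.t * (f.t * (a : G) * f.t⁻¹) * f.t⁻¹ = (f.t * f.t) * a * (f.t * f.t)⁻¹ by group, tt]
      simp
    · intro hx
      rw [hmem] at hx
      refine ⟨⟨x, hx.1⟩ ^ 2, ?_⟩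
      rw [map_pow]
      show (x * (f.t * x * f.t⁻¹)⁻¹) ^ 2 = x
      rw [hx.2, inv_inv, show (x * x) ^ 2 = x ^ 3 * x by simp [pow_succ, pow_zero, mul_assoc], f.hJexp x hx.1, one_mul]
  have hk9 : Nat.card ↥ψ.ker = 9 := by
    have : ψ.ker = (closure ({f.z, f.w} : Set G)).subgroupOf f.J := by
      ext a
      rw [MonoidHom.mem_ker, mem_subgroupOf, f.D_eq]
      show (a : G) * (f.t * a * f.t⁻¹)⁻¹ = 1 ↔ _
      rw [mul_inv_eq_one, eq_comm, mul_inv_eq_iff_eq_mul]
      exact ⟨fun e => ⟨a.2, e.symm⟩, fun e => e.2.symm⟩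
    rw [this, Nat.card_congr (subgroupOfEquivOfLe (fun x hx => ((f.D_eq x).1 hx).1)).toEquiv,
      f.D_card]
  have := ψ.ker.card_mul_index
  rw [index_ker, hr, hk9, f.hJcard] at this
  omega

/-- An element commuting with `t`, `k` and `j k j⁻¹` acts as a scalar on the part of `J` inverted by `t`. -/
theorem scalar_W {h : G} (hh : h ∈ normalizer (f.J : Set G)) (ht : h * f.t = f.t * h)
    (hk : h * f.k = f.k * h) (hk' : h * f.k' = f.k' * h) :
    (∀ a ∈ f.J, f.t * a * f.t⁻¹ = a⁻¹ → h * a * h⁻¹ = a) ∨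
      (∀ a ∈ f.J, f.t * a * f.t⁻¹ = a⁻¹ → h * a * h⁻¹ = a⁻¹) := by
  let W : Subgroup G :=
    { carrier := {a | a ∈ f.J ∧ f.t * a * f.t⁻¹ = a⁻¹}
      one_mem' := ⟨one_mem _, by simp⟩
      mul_mem' := fun {a b} ha hb => ⟨mul_mem ha.1 hb.1, by
        rw [← conj_mul, ha.2, hb.2, mul_inv_rev, f.hJcomm _ (inv_mem ha.1) _ (inv_mem hb.1)]⟩
      inv_mem' := fun {a} ha => ⟨inv_mem ha.1, by rw [← conj_inv, ha.2]⟩ }
  have hcard : Nat.card ↥W = 9 := card_inverted f W fun a => Iff.rfl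
  letI : CommGroup ↥W :=
    { (inferInstance : Group ↥W) with
      mul_comm := fun a b => Subtype.ext (f.hJcomm _ a.2.1 _ b.2.1) }
  let act : ∀ g : G, g ∈ normalizer (f.J : Set G) → g * f.t = f.t * g → (↥W →* ↥W) := fun g hg hgt =>
    { toFun := fun a => ⟨g * a * g⁻¹, conj_mem f hg a.2.1, by
        have e2 := a.2.2
        calc f.t * (g * a * g⁻¹) * f.t⁻¹ = (f.t * g) * a * (f.t * g)⁻¹ := by group
          _ = g * (f.t * a * f.t⁻¹) * g⁻¹ := by rw [← hgt]; group
          _ = g * (a : G)⁻¹ * g⁻¹ := by rw [e2]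
          _ = _ := by group⟩
      map_one' := Subtype.ext (by simp)
      map_mul' := fun a b => Subtype.ext (by simp [mul_assoc]) }
  have hk'n : f.k' ∈ normalizer (f.J : Set G) :=
    mul_mem (mul_mem (M_le_normJ f f.j_mem_M) f.k_normJ) (inv_mem (M_le_normJ f f.j_mem_M))
  have hkt := f.K_t f.k f.k_mem_K
  have hk't : f.k' * f.t = f.t * f.k' :=
    ((Commute.mul_left (Commute.mul_left (f.jt : Commute f.j f.t) hkt)
      (Commute.inv_left (f.jt : Commute f.j f.t))) : Commute f.k' f.t).eq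
  have hk'2 : f.k' * f.k' = f.t := by
    show f.j * f.k * f.j⁻¹ * (f.j * f.k * f.j⁻¹) = f.t
    rw [show f.j * f.k * f.j⁻¹ * (f.j * f.k * f.j⁻¹) = f.j * (f.k * f.k) * f.j⁻¹ by group, f.k_sq,
      f.jt, mul_inv_cancel_right]
  have hsq : ∀ g : G, g * g = f.t → ∀ a : ↥W, g * (g * a * g⁻¹) * g⁻¹ = (a : G)⁻¹ := fun g e a => by
    rw [show g * (g * (a : G) * g⁻¹) * g⁻¹ = (g * g) * a * (g * g)⁻¹ by group, e, a.2.2]
  have hinj : Function.Injective (act h hh ht) := fun a b e =>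
    Subtype.ext (mul_left_cancel (mul_right_cancel (congrArg Subtype.val e)))
  rcases scalar_of_commute hcard (fun v => Subtype.ext (f.hJexp _ v.2.1))
      (act f.k f.k_normJ hkt) (act f.k' hk'n hk't) (act h hh ht)
      (fun a => Subtype.ext (hsq _ f.k_sq a)) (fun a => Subtype.ext (hsq _ hk'2 a))
      (fun a => Subtype.ext (by
        show f.k * (f.k' * a * f.k'⁻¹) * f.k⁻¹ = (f.k' * (f.k * a * f.k⁻¹) * f.k'⁻¹)⁻¹
        have e : f.k * f.k' = f.k' * f.k * f.t := f.comm_kk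
        calc f.k * (f.k' * a * f.k'⁻¹) * f.k⁻¹ = (f.k * f.k') * a * (f.k * f.k')⁻¹ := by group
          _ = f.k' * f.k * (f.t * a * f.t⁻¹) * (f.k' * f.k)⁻¹ := by rw [e]; group
          _ = f.k' * f.k * (a : G)⁻¹ * (f.k' * f.k)⁻¹ := by rw [a.2.2]
          _ = _ := by group))
      (fun a => Subtype.ext (by
        show h * (f.k * a * f.k⁻¹) * h⁻¹ = f.k * (h * a * h⁻¹) * f.k⁻¹
        calc _ = (h * f.k) * a * (h * f.k)⁻¹ := by group
          _ = _ := by rw [hk]; group))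
      (fun a => Subtype.ext (by
        show h * (f.k' * a * f.k'⁻¹) * h⁻¹ = f.k' * (h * a * h⁻¹) * f.k'⁻¹
        calc _ = (h * f.k') * a * (h * f.k')⁻¹ := by group
          _ = _ := by rw [hk']; group))
      hinj with H | H
  · exact Or.inl fun a ha hat => congrArg Subtype.val (H ⟨a, ha, hat⟩)
  · exact Or.inr fun a ha hat => congrArg Subtype.val (H ⟨a, ha, hat⟩)

end CfsgLib.McLThreeLocal.SplitJ
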