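import Cfsg.Agent.Lib.McLThreeLocal.SplitJ
import Cfsg.Agent.Lib.McLThreeLocal.PermEight
import Cfsg.Agent.Lib.McLThreeLocal.XTools

/-!
Conjugates of `z` in `J` are not inverted by `t`; consequences of an involution inverting `J`.
-/

set_option autoImplicit false
set_option linter.unusedSectionVars false
set_option linter.style.haveILetI false

namespace CfsgLib.McLThreeLocal.TransferAux

open Subgroup Equiv
open scoped Pointwise

universe u

theorem six_inv_commute {σ τ : Perm (Fin 6)} (hσ : σ * σ = 1) (hs : Perm.sign σ = 1) (hne : σ ≠ 1)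
    (hτ : τ ^ 3 = 1) (hc : Commute σ τ) : τ = 1 := by
  obtain ⟨k, hk, hks, hsign⟩ := PermEight.cycleType_inv_two hσ
  have hle : σ.support.card ≤ 6 := (Finset.card_le_univ _).trans (by simp)
  have hk0 : k ≠ 0 := fun e => hne (Perm.card_support_eq_zero.1 (by omega))
  have hk2 : k = 2 := by
    rw [hs] at hsign
    rcases (show k = 1 ∨ k = 2 ∨ k = 3 by omega) with rfl | rfl | rfl <;>
      first | rfl | exact absurd hsign (by decide)
  subst hk2
  by_contra h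
  have hd : orderOf τ ∣ Nat.card ↥(centralizer ({σ} : Set (Perm (Fin 6)))) :=
    Subgroup.orderOf_dvd_natCard _ (mem_centralizer_singleton_iff.2 hc.symm.eq)
  rw [Perm.nat_card_centralizer, hk, orderOf_eq_prime hτ h] at hd
  revert hd
  decide +kernel

theorem alt_six_conj (a b : alternatingGroup (Fin 6)) (ha : a * a = 1) (hb : b * b = 1) (ha1 : a ≠ 1)
    (hb1 : b ≠ 1) : ∃ g, g * a * g⁻¹ = b := by
  have card4 : ∀ c : alternatingGroup (Fin 6), c * c = 1 → c ≠ 1 →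
      (c : Perm (Fin 6)).support.card = 4 := by
    intro c hc hc1
    obtain ⟨k, -, hks, hsign⟩ := PermEight.cycleType_inv_two (σ := (c : Perm (Fin 6)))
      (congrArg Subtype.val hc)
    rw [Perm.mem_alternatingGroup.1 c.2] at hsign
    have hle : (c : Perm (Fin 6)).support.card ≤ 6 := (Finset.card_le_univ _).trans (by simp)
    have hk0 : k ≠ 0 := fun e => hc1 (Subtype.ext (Perm.card_support_eq_zero.1 (by omega)))
    rcases (show k = 1 ∨ k = 2 ∨ k = 3 by omega) with rfl | rfl | rfl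
    · exact absurd hsign (by decide)
    · exact hks
    · exact absurd hsign (by decide)
  have hb' : (b : Perm (Fin 6)) * b = 1 := congrArg Subtype.val hb
  obtain ⟨π, hπ⟩ := PermEight.isConj_of_card (σ := (a : Perm (Fin 6))) (τ := (b : Perm (Fin 6)))
    (congrArg Subtype.val ha) hb' (by rw [card4 a ha ha1, card4 b hb hb1])
  rcases Int.units_eq_one_or (Perm.sign π) with h | h
  · exact ⟨⟨π, Perm.mem_alternatingGroup.2 h⟩, Subtype.ext hπ⟩
  obtain ⟨x, hx⟩ := Finset.card_pos.1 (by rw [card4 b hb hb1]; norm_num :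
    0 < (b : Perm (Fin 6)).support.card)
  set s := swap x ((b : Perm (Fin 6)) x)
  have hxb : (b : Perm (Fin 6)) x ≠ x := Perm.mem_support.1 hx
  have hs : s * (b : Perm (Fin 6)) * s⁻¹ = b := by
    have e : (b : Perm (Fin 6)) * s * (b : Perm (Fin 6))⁻¹ = s := by
      rw [← Equiv.swap_apply_apply, ← Perm.mul_apply, hb', Perm.one_apply, swap_comm]
    have e' : (b : Perm (Fin 6)) * s = s * b := mul_inv_eq_iff_eq_mul.1 e
    rw [← e', mul_inv_cancel_right]
  refine ⟨⟨s * π, Perm.mem_alternatingGroup.2 (by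
    rw [map_mul, h, Perm.sign_swap (Ne.symm hxb)]; decide)⟩, Subtype.ext ?_⟩
  show s * π * (a : Perm (Fin 6)) * (s * π)⁻¹ = b
  calc _ = s * (π * (a : Perm (Fin 6)) * π⁻¹) * s⁻¹ := by group
    _ = _ := by rw [hπ, hs]

variable {G : Type u} [Group G] [Finite G] (f : Frame G)

theorem M_eq_one {g : G} (hg : g ∈ f.M) : f.φM ⟨g, hg⟩ = 1 ↔ g ∈ f.J := by
  rw [← MonoidHom.mem_ker, f.φM_ker, mem_subgroupOf]

theorem S_z {s : G} (hs : s ∈ (f.S : Subgroup G)) : s * f.z = f.z * s := by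
  have h : f.z ∈ f.Z := f.Z_eq ▸ mem_zpowers f.z
  rw [f.hZ, mem_inf, mem_centralizer_iff] at h
  exact h.2 s hs

theorem z_mem_S : f.z ∈ (f.S : Subgroup G) := f.hJS (SplitJ.z_mem_J f)

/-- A conjugate of `z` in `J` is an `M`-conjugate of an element of `Z`. -/
theorem conj_z_in_J {a g : G} (ha : a ∈ f.J) (hg : g * f.z * g⁻¹ = a) :
    ∃ m ∈ f.M, ∃ b ∈ f.Z, b ≠ 1 ∧ m * b * m⁻¹ = a := by
  haveI : Fact (Nat.Prime 3) := ⟨Nat.prime_three⟩
  set C := centralizer ({a} : Set G)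
  have hgS : ((g • f.S : Sylow 3 G) : Subgroup G) ≤ C := by
    intro y hy
    rw [Sylow.coe_subgroup_smul, mem_pointwise_smul_iff_inv_smul_mem] at hy
    have h1 : g⁻¹ * y * g ∈ (f.S : Subgroup G) := by simpa [MulAut.smul_def] using hy
    refine mem_centralizer_singleton_iff.2 ?_
    have h2 := S_z f h1
    rw [← hg]
    calc y * (g * f.z * g⁻¹) = g * (g⁻¹ * y * g * f.z) * g⁻¹ := by group
      _ = g * (f.z * (g⁻¹ * y * g)) * g⁻¹ := by rw [h2]
      _ = g * f.z * g⁻¹ * y := by group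
  have hJC : f.J ≤ C := fun y hy => mem_centralizer_singleton_iff.2 (f.hJcomm y hy a ha)
  obtain ⟨P, hP⟩ := ((f.S.isPGroup'.to_le f.hJS).comap_of_injective C.subtype
    C.subtype_injective).exists_le_sylow
  obtain ⟨c, hc⟩ := MulAction.exists_smul_eq ↥C ((g • f.S : Sylow 3 G).subtype hgS) P
  set g1 := (c : G) * g
  have hJ : f.J ≤ ((g1 • f.S : Sylow 3 G) : Subgroup G) := by
    intro y hy
    have h1 : (⟨y, hJC hy⟩ : ↥C) ∈ (P : Subgroup ↥C) := hP (mem_subgroupOf.2 hy)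
    rw [← hc, Sylow.coe_subgroup_smul, mem_pointwise_smul_iff_inv_smul_mem] at h1
    have h2 : (c : G)⁻¹ * y * c ∈ ((g • f.S : Sylow 3 G) : Subgroup G) := by
      simpa [MulAut.smul_def, mem_subgroupOf, Sylow.coe_subtype] using h1
    rw [Sylow.coe_subgroup_smul, mem_pointwise_smul_iff_inv_smul_mem] at h2 ⊢
    simpa [MulAut.smul_def, g1, mul_assoc] using h2
  obtain ⟨m, hm⟩ := MulAction.exists_smul_eq ↥f.M (f.S.subtype f.S_le_M)
    ((g1 • f.S : Sylow 3 G).subtype (f.sylow_J _ hJ))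
  set n := (m : G)⁻¹ * g1
  have hn : ∀ s, s ∈ (f.S : Subgroup G) → n * s * n⁻¹ ∈ (f.S : Subgroup G) ∧
      n⁻¹ * s * n ∈ (f.S : Subgroup G) := by
    intro s hs
    have hmem : ∀ y : ↥f.M, y ∈ ((g1 • f.S : Sylow 3 G).subtype (f.sylow_J _ hJ) : Subgroup ↥f.M) ↔
        m⁻¹ * y * m ∈ (f.S.subtype f.S_le_M : Subgroup ↥f.M) := fun y => by
      rw [← hm, Sylow.coe_subgroup_smul, mem_pointwise_smul_iff_inv_smul_mem]
      simp [MulAut.smul_def]
    constructor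
    · have hy : g1 * s * g1⁻¹ ∈ ((g1 • f.S : Sylow 3 G) : Subgroup G) := by
        rw [Sylow.coe_subgroup_smul, mem_pointwise_smul_iff_inv_smul_mem]
        simpa [MulAut.smul_def, mul_assoc] using hs
      have h1 := (hmem ⟨_, f.sylow_J _ hJ hy⟩).1 (mem_subgroupOf.2 hy)
      rw [Sylow.coe_subtype, mem_subgroupOf] at h1
      simpa [n, mul_assoc] using h1
    · have h1 := (hmem (m * ⟨s, f.S_le_M hs⟩ * m⁻¹)).2 (by
        rw [Sylow.coe_subtype, mem_subgroupOf]; simpa [mul_assoc] using hs)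
      rw [Sylow.coe_subtype, mem_subgroupOf, Sylow.coe_subgroup_smul,
        mem_pointwise_smul_iff_inv_smul_mem] at h1
      simpa [MulAut.smul_def, n, mul_assoc] using h1
  refine ⟨m, m.2, n * f.z * n⁻¹, ?_, ?_, ?_⟩
  · rw [f.hZ, mem_inf, mem_centralizer_iff]
    refine ⟨(hn _ (z_mem_S f)).1, fun s hs => ?_⟩
    have h := S_z f (hn s hs).2
    calc s * (n * f.z * n⁻¹) = n * (n⁻¹ * s * n * f.z) * n⁻¹ := by group
      _ = n * (f.z * (n⁻¹ * s * n)) * n⁻¹ := by rw [h]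
      _ = n * f.z * n⁻¹ * s := by group
  · intro e
    have : f.z = 1 := by
      rw [show f.z = n⁻¹ * (n * f.z * n⁻¹) * n by group, e]; group
    have h := f.z_order
    rw [this, orderOf_one] at h
    omega
  · have hca := mem_centralizer_singleton_iff.1 c.2
    calc (m : G) * (n * f.z * n⁻¹) * (m : G)⁻¹ = (c : G) * (g * f.z * g⁻¹) * (c : G)⁻¹ := by
          simp only [n, g1]; group
      _ = a := by rw [hg, hca, mul_inv_cancel_right]

/-- `t` does not invert a conjugate of `z` lying in `J`. -/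
theorem not_inverted {a g : G} (ha : a ∈ f.J) (hg : g * f.z * g⁻¹ = a)
    (hinv : f.t * a * f.t⁻¹ = a⁻¹) : False := by
  obtain ⟨m, hm, b, hb, hb1, hma⟩ := conj_z_in_J f ha hg
  set s := m⁻¹ * f.t * m with hs
  have hsM : s ∈ f.M := mul_mem (mul_mem (inv_mem hm) f.t_mem_M) hm
  have hsb : s * b * s⁻¹ = b⁻¹ := by
    calc s * b * s⁻¹ = m⁻¹ * (f.t * (m * b * m⁻¹) * f.t⁻¹) * m := by rw [hs]; group
      _ = m⁻¹ * (m * b * m⁻¹)⁻¹ * m := by rw [hma, hinv]
      _ = b⁻¹ := by group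
  have hz3 : f.z ^ 3 = 1 := f.z_order ▸ pow_orderOf_eq_one f.z
  have hsz : s * f.z * s⁻¹ = f.z⁻¹ := by
    rw [f.Z_eq, mem_zpowers_iff] at hb
    obtain ⟨i, rfl⟩ := hb
    have hi : f.z ^ i = f.z ^ (i % 3) := by
      conv_lhs => rw [← Int.emod_add_ediv_mul i 3, zpow_add, mul_comm (i / 3) 3, zpow_mul,
        show f.z ^ (3 : ℤ) = 1 by exact_mod_cast hz3, one_zpow, mul_one]
    rw [hi] at hsb hb1
    rcases (show i % 3 = 0 ∨ i % 3 = 1 ∨ i % 3 = 2 by omega) with e | e | e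
    · exact absurd (by rw [e, zpow_zero]) hb1
    · simpa [e] using hsb
    · have e2 : f.z ^ (i % 3) = f.z⁻¹ := by
        rw [e, eq_inv_iff_mul_eq_one, ← zpow_add_one]; exact_mod_cast hz3
      rw [e2, inv_inv] at hsb
      calc s * f.z * s⁻¹ = (s * f.z⁻¹ * s⁻¹)⁻¹ := by group
        _ = f.z⁻¹ := by rw [hsb]
  have hZn : ∀ u : G, (u * f.z * u⁻¹ = f.z⁻¹ ∨ u * f.z * u⁻¹ = f.z) →
      u ∈ normalizer (f.Z : Set G) := by
    intro u hu
    have key : ∀ x ∈ f.Z, u * x * u⁻¹ ∈ f.Z := by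
      intro x hx
      rw [f.Z_eq] at hx ⊢
      obtain ⟨i, rfl⟩ := mem_zpowers_iff.1 hx
      rw [← conj_zpow]
      rcases hu with e | e <;> rw [e]
      · exact zpow_mem (inv_mem (mem_zpowers _)) i
      · exact zpow_mem (mem_zpowers _) i
    refine mem_normalizer_iff.2 fun x => ⟨key x, fun h => ?_⟩
    rw [f.Z_eq] at h ⊢
    obtain ⟨i, hi⟩ := mem_zpowers_iff.1 h
    refine mem_zpowers_iff.2 ?_
    rcases hu with e | e
    · refine ⟨-i, ?_⟩
      have : u⁻¹ * f.z * u = f.z⁻¹ := by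
        calc u⁻¹ * f.z * u = u⁻¹ * (u * f.z * u⁻¹)⁻¹ * u := by rw [e, inv_inv]
          _ = f.z⁻¹ := by group
      calc f.z ^ (-i) = (u⁻¹ * f.z * u) ^ i := by rw [this, inv_zpow']
        _ = u⁻¹ * f.z ^ i * u := by
            rw [show u⁻¹ * f.z * u = u⁻¹ * f.z * u⁻¹⁻¹ by group, conj_zpow, inv_inv]
        _ = x := by rw [hi]; group
    · refine ⟨i, ?_⟩
      rw [show x = u⁻¹ * (u * x * u⁻¹) * u by group, ← hi]
      have h' : Commute u f.z := mul_inv_eq_iff_eq_mul.1 e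
      rw [mul_assoc, ← (h'.zpow_right i).eq, inv_mul_cancel_left]
  have hsN := f.normZ_le (hZn s (Or.inl hsz))
  have htN := f.normZ_le (hZn f.t (Or.inr (mul_inv_eq_iff_eq_mul.2 f.tz)))
  obtain ⟨q, hq, hqJ⟩ : ∃ q ∈ f.Q, q ∉ f.J := SetLike.not_le_iff_exists.1 fun hle => by
    have := card_le_of_le hle
    rw [f.hQcard, f.hJcard] at this
    omega
  have hQM : f.Q ≤ f.M := f.Q_le_S.trans f.S_le_M
  have hZJ := f.Z_le_J
  set qb := f.φM ⟨q, hQM hq⟩
  have hq1 : qb ≠ 1 := fun e => hqJ ((M_eq_one f _).1 e)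
  have inverts : ∀ u : G, (hu : u ∈ f.M) → u ∈ normalizer (f.Q : Set G) → u * u = 1 → u ∉ f.J →
      f.φM ⟨u, hu⟩ * qb * (f.φM ⟨u, hu⟩)⁻¹ = qb⁻¹ := by
    intro u hu huQ huu huJ
    set ub := f.φM ⟨u, hu⟩
    have hub : ub * ub = 1 := by
      rw [← map_mul, show (⟨u, hu⟩ : ↥f.M) * ⟨u, hu⟩ = 1 from Subtype.ext huu, map_one]
    set q' := u * q * u⁻¹ with hq'
    have hq'Q : q' ∈ f.Q := (mem_normalizer_iff.1 huQ q).1 hq
    have hcomm : f.φM ⟨q', hQM hq'Q⟩ * qb = qb * f.φM ⟨q', hQM hq'Q⟩ := by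
      have h := (M_eq_one f (mul_mem (mul_mem (mul_mem (hQM hq'Q) (hQM hq)) (inv_mem (hQM hq'Q)))
        (inv_mem (hQM hq)))).2 (hZJ (f.Q_comm q' hq'Q q hq))
      rw [show (⟨q' * q * q'⁻¹ * q⁻¹, _⟩ : ↥f.M) =
        ⟨q', hQM hq'Q⟩ * ⟨q, hQM hq⟩ * ⟨q', hQM hq'Q⟩⁻¹ * ⟨q, hQM hq⟩⁻¹ from Subtype.ext rfl,
        map_mul, map_mul, map_mul, map_inv, map_inv, mul_inv_eq_one, mul_inv_eq_iff_eq_mul] at h
      exact h
    have hq'b : f.φM ⟨q', hQM hq'Q⟩ = ub * qb * ub⁻¹ := by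
      rw [← map_inv, ← map_mul, ← map_mul]; rfl
    have hinvu : ub⁻¹ = ub := inv_eq_of_mul_eq_one_right hub
    set r := qb * (ub * qb * ub⁻¹)
    have hr3 : r ^ 3 = 1 := by
      have e : r = f.φM ⟨q * q', hQM (mul_mem hq hq'Q)⟩ := by
        show qb * (ub * qb * ub⁻¹) = _
        rw [← hq'b, ← map_mul]; rfl
      rw [e, ← map_pow, show (⟨q * q', _⟩ : ↥f.M) ^ 3 = 1 from
        Subtype.ext (f.hQexp _ (mul_mem hq hq'Q)), map_one]
    have hcr : Commute ub r := by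
      show ub * r = r * ub
      calc ub * r = ub * qb * ub⁻¹ * (ub * ub) * qb * ub⁻¹ := by
            show ub * (qb * (ub * qb * ub⁻¹)) = _; group
        _ = ub * qb * ub⁻¹ * qb * ub := by rw [hub, mul_one, hinvu]
        _ = r * ub := by rw [← hq'b, hcomm, hq'b]
    have hr1 : r = 1 := Subtype.ext (six_inv_commute (σ := (ub : Perm (Fin 6)))
      (congrArg Subtype.val hub) (Perm.mem_alternatingGroup.1 ub.2)
      (fun e => huJ ((M_eq_one f hu).1 (Subtype.ext e))) (congrArg Subtype.val hr3)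
      (congrArg Subtype.val hcr.eq))
    exact eq_inv_of_mul_eq_one_right hr1
  have ht1 : f.t ∉ f.J := fun h => by
    have e : f.t = 1 := by
      have := f.hJexp _ h
      rwa [pow_succ, pow_two, SplitJ.tt, one_mul] at this
    have := f.t_order
    rw [e, orderOf_one] at this
    omega
  have hs2 : s * s = 1 := by
    rw [hs, show m⁻¹ * f.t * m * (m⁻¹ * f.t * m) = m⁻¹ * (f.t * f.t) * m by group, SplitJ.tt]; group
  have hs1 : s ∉ f.J := fun h => by
    have e := f.hJcomm s h _ (SplitJ.z_mem_J f)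
    rw [e, mul_inv_cancel_right] at hsz
    have := orderOf_dvd_of_pow_eq_one (show f.z ^ 2 = 1 by
      rw [pow_two]; nth_rewrite 2 [hsz]; exact mul_inv_cancel _)
    rw [f.z_order] at this
    omega
  set ρ := s * f.t with hρ
  have hρM : ρ ∈ f.M := mul_mem hsM f.t_mem_M
  have hρz : ρ * f.z * ρ⁻¹ = f.z⁻¹ := by
    rw [hρ, show s * f.t * f.z * (s * f.t)⁻¹ = s * (f.t * f.z * f.t⁻¹) * s⁻¹ by group, f.tz,
      mul_inv_cancel_right, hsz]
  have hρq : Commute (f.φM ⟨ρ, hρM⟩) qb := by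
    refine mul_inv_eq_iff_eq_mul.1 ?_
    rw [show (⟨ρ, hρM⟩ : ↥f.M) = ⟨s, hsM⟩ * ⟨f.t, f.t_mem_M⟩ from rfl, map_mul, mul_inv_rev,
      show ∀ x y : alternatingGroup (Fin 6), x * y * qb * (y⁻¹ * x⁻¹) = x * (y * qb * y⁻¹) * x⁻¹
        from fun x y => by group,
      inverts _ f.t_mem_M htN (SplitJ.tt f) ht1, ← conj_inv, inverts _ hsM hsN hs2 hs1, inv_inv]
  -- the 2-part of `ρ`
  obtain ⟨a2, m2, hm2, hord⟩ :=
    Nat.exists_eq_two_pow_mul_odd (n := orderOf ρ) (orderOf_pos ρ).ne'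
  set ρ' := ρ ^ m2
  have hρ'M : ρ' ∈ f.M := pow_mem hρM m2
  have hρ'2 : ρ' ^ (2 ^ a2) = 1 := by
    rw [← pow_mul, mul_comm, ← hord, pow_orderOf_eq_one]
  have hρ'z : ρ' * f.z * ρ'⁻¹ = f.z⁻¹ := by
    obtain ⟨c, rfl⟩ := hm2
    have h2 : ρ ^ 2 * f.z = f.z * ρ ^ 2 := by
      refine mul_inv_eq_iff_eq_mul.1 ?_
      rw [pow_two, show ρ * ρ * f.z * (ρ * ρ)⁻¹ = ρ * (ρ * f.z * ρ⁻¹) * ρ⁻¹ by group, hρz,
        ← conj_inv, hρz, inv_inv]
    have hc := (Commute.pow_left (show Commute (ρ ^ 2) f.z from h2) c).eq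
    show ρ ^ (2 * c + 1) * f.z * (ρ ^ (2 * c + 1))⁻¹ = f.z⁻¹
    rw [pow_succ', pow_mul,
      show ∀ x, ρ * x * f.z * (ρ * x)⁻¹ = ρ * (x * f.z * x⁻¹) * ρ⁻¹ from fun x => by group, hc,
      mul_inv_cancel_right, hρz]
  have hρ'J : ρ' ∈ f.J := by
    rw [← M_eq_one f hρ'M]
    by_contra hne
    set r := f.φM ⟨ρ', hρ'M⟩
    have hrq : Commute r qb := by
      have e : r = f.φM ⟨ρ, hρM⟩ ^ m2 := by rw [← map_pow]; rfl
      exact e ▸ hρq.pow_left m2
    have hr2 : r ^ (2 ^ a2) = 1 := by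
      rw [← map_pow, show (⟨ρ', hρ'M⟩ : ↥f.M) ^ (2 ^ a2) = 1 from Subtype.ext hρ'2, map_one]
    obtain ⟨c, -, hc⟩ := (Nat.dvd_prime_pow Nat.prime_two).1 (orderOf_dvd_of_pow_eq_one hr2)
    rcases c with _ | c
    · exact hne (orderOf_eq_one_iff.1 (by rw [hc, pow_zero]))
    have hi1 : r ^ (2 ^ c) ≠ 1 := fun e => by
      have := Nat.le_of_dvd (by positivity) (orderOf_dvd_of_pow_eq_one e)
      rw [hc, pow_succ] at this
      have : 0 < 2 ^ c := by positivity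
      omega
    have hi2 : r ^ (2 ^ c) * r ^ (2 ^ c) = 1 := by
      rw [← pow_add, ← two_mul, ← pow_succ', ← hc, pow_orderOf_eq_one]
    have hqb3 : qb ^ 3 = 1 := by
      rw [← map_pow, show (⟨q, hQM hq⟩ : ↥f.M) ^ 3 = 1 from Subtype.ext (f.hQexp q hq), map_one]
    exact hq1 (Subtype.ext (six_inv_commute (σ := ((r ^ (2 ^ c) : alternatingGroup (Fin 6)) : Perm (Fin 6)))
      (congrArg Subtype.val hi2) (Perm.mem_alternatingGroup.1 (r ^ (2 ^ c)).2)
      (fun e => hi1 (Subtype.ext e)) (congrArg Subtype.val hqb3)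
      (congrArg Subtype.val (hrq.pow_left (2 ^ c)).eq)))
  rw [f.hJcomm _ hρ'J _ (SplitJ.z_mem_J f), mul_inv_cancel_right] at hρ'z
  have := orderOf_dvd_of_pow_eq_one (show f.z ^ 2 = 1 by
    rw [pow_two]; nth_rewrite 2 [hρ'z]; exact mul_inv_cancel _)
  rw [f.z_order] at this
  omega

/-- The centraliser of an involution inverting `J` contains elements `x` of order five and `g` of
order four whose square inverts `x`. -/
theorem exists_five_four {e : G} (he : ∀ a ∈ f.J, e * a * e⁻¹ = a⁻¹) :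
    ∃ x g : G, orderOf x = 5 ∧ g ^ 4 = 1 ∧ g * g * x * (g * g)⁻¹ = x⁻¹ ∧
      x * e = e * x ∧ g * e = e * g := by
  have hlift : ∀ σ : alternatingGroup (Fin 6), ∃ m : ↥f.M, f.φM m = σ ∧ (m : G) * e = e * m := by
    intro σ
    obtain ⟨m, rfl⟩ := f.φM_surj σ
    set a := e * m * e⁻¹ * (m : G)⁻¹ with ha
    have hmN : (m : G) ∈ normalizer (f.J : Set G) := SplitJ.M_le_normJ f m.2
    have haJ : a ∈ f.J := by
      rw [← f.centJ]
      refine mem_centralizer_iff.2 fun y hy => ?_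
      have hm' : (m : G)⁻¹ * y * m ∈ f.J := (mem_normalizer_iff''.1 hmN y).1 hy
      have e1 := he _ hm'
      have e2 := he _ hy
      have e4 : e⁻¹ * y * e = y⁻¹ := by
        calc e⁻¹ * y * e = e⁻¹ * (e * y * e⁻¹)⁻¹ * e := by rw [e2, inv_inv]
          _ = y⁻¹ := by group
      symm
      refine mul_inv_eq_iff_eq_mul.1 ?_
      calc a * y * a⁻¹ = e * m * (e⁻¹ * ((m : G)⁻¹ * y * m) * e) * (m : G)⁻¹ * e⁻¹ := by
            rw [ha]; group
        _ = e * m * ((m : G)⁻¹ * y * m)⁻¹ * (m : G)⁻¹ * e⁻¹ := by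
            congr 3
            calc e⁻¹ * ((m : G)⁻¹ * y * m) * e
                = e⁻¹ * (e * ((m : G)⁻¹ * y * m) * e⁻¹)⁻¹ * e := by rw [e1, inv_inv]
              _ = _ := by group
        _ = e * y⁻¹ * e⁻¹ := by group
        _ = y := by rw [← conj_inv, e2, inv_inv]
    have ha3 := f.hJexp a haJ
    refine ⟨⟨a ^ 2, f.hJM (pow_mem haJ 2)⟩ * m, ?_, ?_⟩
    · rw [map_mul, (M_eq_one f (f.hJM (pow_mem haJ 2))).2 (pow_mem haJ 2), one_mul]
    · symm
      refine mul_inv_eq_iff_eq_mul.1 ?_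
      show e * (a ^ 2 * m) * e⁻¹ = a ^ 2 * m
      calc e * (a ^ 2 * m) * e⁻¹ = (e * a ^ 2 * e⁻¹) * a * m := by rw [ha]; group
        _ = a ^ 2 * m := by
          rw [he _ (pow_mem haJ 2), show (a ^ 2)⁻¹ * a = a ^ 2 from ?_]
          calc (a ^ 2)⁻¹ * a = a ^ 2 * (a ^ 3)⁻¹ := by group
            _ = _ := by rw [ha3]; simp
  have huniq : ∀ a : ↥f.M, f.φM a = 1 → (a : G) * e = e * a → a = 1 := by
    intro a ha hc
    have haJ := (M_eq_one f a.2).1 ha
    have h := he _ haJ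
    rw [← hc, mul_inv_cancel_right] at h
    refine Subtype.ext ?_
    have h3 := f.hJexp _ haJ
    rwa [pow_succ, pow_two, show (a : G) * a = 1 by nth_rewrite 2 [h]; exact mul_inv_cancel _,
      one_mul] at h3
  let x0 : alternatingGroup (Fin 6) :=
    ⟨swap 0 1 * swap 1 2 * swap 2 3 * swap 3 4, Perm.mem_alternatingGroup.2 (by decide +kernel)⟩
  let g0 : alternatingGroup (Fin 6) :=
    ⟨swap 1 2 * swap 2 4 * swap 4 3 * swap 0 5, Perm.mem_alternatingGroup.2 (by decide +kernel)⟩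
  obtain ⟨x, hx, hxe⟩ := hlift x0
  obtain ⟨g, hg, hge⟩ := hlift g0
  have hrel : g0 * g0 * x0 * (g0 * g0)⁻¹ * x0 = 1 := by decide +kernel
  have h5 : x ^ 5 = 1 := huniq _ (by rw [map_pow, hx]; decide +kernel) (by
    simpa using (Commute.pow_left (show Commute (x : G) e from hxe) 5).eq)
  have h4 : g ^ 4 = 1 := huniq _ (by rw [map_pow, hg]; decide +kernel) (by
    simpa using (Commute.pow_left (show Commute (g : G) e from hge) 4).eq)
  have hinv : g * g * x * (g * g)⁻¹ * x = 1 := huniq _ (by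
    simp only [map_mul, map_inv, hx, hg]; exact hrel) (by
    have c1 : Commute (g : G) e := hge
    have c2 : Commute (x : G) e := hxe
    simpa using ((((c1.mul_left c1).mul_left c2).mul_left (c1.mul_left c1).inv_left).mul_left c2).eq)
  refine ⟨x, g, ?_, congrArg Subtype.val h4, ?_, hxe, hge⟩
  · haveI : Fact (Nat.Prime 5) := ⟨by norm_num⟩
    rw [orderOf_coe]
    refine orderOf_eq_prime h5 fun e' => ?_
    rw [e', map_one] at hx
    exact absurd hx (by decide +kernel)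
  · have h := congrArg Subtype.val hinv
    simp only [Subgroup.coe_mul, Subgroup.coe_inv, Subgroup.coe_one] at h
    exact eq_inv_of_mul_eq_one_left h

/-- `j` is conjugate to `t` in `G`. -/
theorem j_conj_t : ∃ g : G, g * f.t * g⁻¹ = f.j := by
  have hj1 : f.j ∉ f.J := fun h => by
    have e := f.hJexp _ h
    rw [pow_succ, pow_two, f.j_sq, one_mul] at e
    have h2 := f.j_z
    rw [e] at h2
    simp at h2
    have hc : Nat.card ↥(closure ({f.z, f.w} : Set G)) = 3 := by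
      rw [← h2, Set.pair_eq_singleton, ← zpowers_eq_closure, Nat.card_zpowers, f.z_order]
    rw [f.D_card] at hc
    omega
  have ht1 : f.t ∉ f.J := fun h => by
    have e : f.t = 1 := by
      have := f.hJexp _ h
      rwa [pow_succ, pow_two, SplitJ.tt, one_mul] at this
    have := f.t_order
    rw [e, orderOf_one] at this
    omega
  have h2 : ∀ u : G, (hu : u ∈ f.M) → u * u = 1 → f.φM ⟨u, hu⟩ * f.φM ⟨u, hu⟩ = 1 := fun u hu e => by
    rw [← map_mul, show (⟨u, hu⟩ : ↥f.M) * ⟨u, hu⟩ = 1 from Subtype.ext e, map_one]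
  obtain ⟨σ, hσ⟩ := alt_six_conj _ _ (h2 _ f.t_mem_M (SplitJ.tt f)) (h2 _ f.j_mem_M f.j_sq)
    (fun e => ht1 ((M_eq_one f _).1 e)) (fun e => hj1 ((M_eq_one f _).1 e))
  obtain ⟨m, rfl⟩ := f.φM_surj σ
  set t' := (m : G) * f.t * (m : G)⁻¹ with ht'
  have ht'2 : t' * t' = 1 := by
    rw [ht', conj_mul, SplitJ.tt, mul_one, mul_inv_cancel]
  have ht'M : t' ∈ f.M := mul_mem (mul_mem m.2 f.t_mem_M) (inv_mem m.2)
  set a := f.j * t' with ha
  have haJ : a ∈ f.J := by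
    rw [← M_eq_one f (mul_mem f.j_mem_M ht'M)]
    rw [show (⟨f.j * t', _⟩ : ↥f.M) = ⟨f.j, f.j_mem_M⟩ * (m * ⟨f.t, f.t_mem_M⟩ * m⁻¹) from
      Subtype.ext rfl, map_mul, map_mul, map_mul, map_inv, hσ]
    exact h2 _ f.j_mem_M f.j_sq
  have ha3 := f.hJexp a haJ
  have hj : f.j = a * t' := by rw [ha, mul_assoc, ht'2, mul_one]
  have hinv : t' * a * t'⁻¹ = a⁻¹ := by
    have := f.j_sq
    rw [hj] at this
    calc t' * a * t'⁻¹ = a⁻¹ * (a * t' * (a * t')) * (t' * t')⁻¹ := by group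
      _ = a⁻¹ := by rw [this, ht'2]; group
  refine ⟨a⁻¹ * m, ?_⟩
  calc a⁻¹ * m * f.t * (a⁻¹ * m)⁻¹ = a⁻¹ * (t' * a * t'⁻¹) * t' := by rw [ht']; group
    _ = a * (a ^ 3)⁻¹ * t' := by rw [hinv]; group
    _ = f.j := by rw [ha3, hj]; simp

end CfsgLib.McLThreeLocal.TransferAux
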